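import Cfsg.Agent.Lib.CompositeOrder.Setup
import Cfsg.Agent.Lib.GW.Main
import Cfsg.Agent.Lib.GW.DGroupDihedral
import Cfsg.Agent.Lib.CIT.PSLList
import Cfsg.Agent.Lib.Spec.PSLTwoSpectrum
import Cfsg.Agent.Lib.Spec.SLTwo
import Cfsg.Agent.S0205
import Cfsg.Agent.S2202

/-!
Simple groups with involution centralizers of exponent 2, or with Sylow 2-subgroups a four-group; element
orders of `PSL(2, q)`.
-/

set_option autoImplicit false
set_option linter.style.haveILetI false

namespace Cfsg.Lib.CompOrd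

open Subgroup
open Cfsg.Lib

universe u

theorem exists_order_psl {F : Type} [Field F] [Fintype F] (h4 : 4 ≤ Fintype.card F) {k : ℕ}
    (h : k ∣ (Fintype.card F - 1) / Nat.gcd 2 (Fintype.card F - 1) ∨
      k ∣ (Fintype.card F + 1) / Nat.gcd 2 (Fintype.card F - 1)) :
    ∃ x : Matrix.ProjectiveSpecialLinearGroup (Fin 2) F, orderOf x = k := by
  obtain ⟨p, hpp, hp, n, -, -⟩ := Cfsg.Lib.Dickson.exists_char (F := F)
  haveI := Fact.mk hpp
  have hk : k ∈ Set.range (orderOf : Matrix.ProjectiveSpecialLinearGroup (Fin 2) F → ℕ) := by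
    rw [Cfsg.Lib.Spec.psl_two_spectrum p h4]
    exact Or.inr h
  exact hk

variable {G : Type u} [Group G]

theorem exists_order_of_iso {F : Type} [Field F] [Fintype F] (h4 : 4 ≤ Fintype.card F)
    (e : G ≃* Matrix.ProjectiveSpecialLinearGroup (Fin 2) F) {k : ℕ}
    (h : k ∣ (Fintype.card F - 1) / Nat.gcd 2 (Fintype.card F - 1) ∨
      k ∣ (Fintype.card F + 1) / Nat.gcd 2 (Fintype.card F - 1)) : ∃ x : G, orderOf x = k := by
  obtain ⟨x, hx⟩ := exists_order_psl h4 h
  exact ⟨e.symm x, by rw [MulEquiv.orderOf_eq, hx]⟩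

/-- In characteristic two the orders are `2` and the divisors of `q - 1` and `q + 1`. -/
theorem order_of_iso_two {F : Type} [Field F] [Fintype F] {n : ℕ} (hn : Fintype.card F = 2 ^ n)
    (h4 : 4 ≤ Fintype.card F) (e : G ≃* Matrix.ProjectiveSpecialLinearGroup (Fin 2) F) (x : G) :
    orderOf x ∣ 2 ∨ orderOf x ∣ 2 ^ n - 1 ∨ orderOf x ∣ 2 ^ n + 1 := by
  haveI : Fact (Nat.Prime 2) := ⟨Nat.prime_two⟩
  haveI : CharP F 2 := charP_of_card_eq_prime_pow (R := F) (p := 2) (by simpa using hn)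
  have hk : orderOf x ∈ Set.range (orderOf : Matrix.ProjectiveSpecialLinearGroup (Fin 2) F → ℕ) :=
    ⟨e x, MulEquiv.orderOf_eq e x⟩
  rw [Cfsg.Lib.Spec.psl_two_spectrum 2 h4, hn] at hk
  have hpos := Nat.two_pow_pos n
  have hg : Nat.gcd 2 (2 ^ n - 1) = 1 := Nat.coprime_two_left.2 (Nat.odd_iff.2 (by
    rcases n with _ | n
    · rw [pow_zero] at hn; omega
    · rw [pow_succ]; omega))
  rw [hg, Nat.div_one, Nat.div_one] at hk
  exact hk

variable [Finite G] [IsSimpleGroup G]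

theorem even_card (hna : ¬ IsMulCommutative G) : Even (Nat.card G) := by
  by_contra h
  exact GW.not_isSolvable_of_simple hna (Cfsg.Agent.S0205.result (Nat.not_even_iff_odd.1 h))

/-- All elements of even order are involutions: `PSL(2, 2^n)`. -/
theorem psl_of_even_orders (hna : ¬ IsMulCommutative G) (h : ∀ x : G, 2 ∣ orderOf x → orderOf x = 2) :
    ∃ (F : Type) (_ : Field F) (_ : Fintype F) (n : ℕ), CharP F 2 ∧ Fintype.card F = 2 ^ n ∧
      4 ≤ Fintype.card F ∧ Nonempty (G ≃* Matrix.ProjectiveSpecialLinearGroup (Fin 2) F) := by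
  classical
  haveI : Fact (Nat.Prime 2) := ⟨Nat.prime_two⟩
  have hsq : ∀ t y : G, orderOf t = 2 → Commute t y → y ^ 2 = 1 := by
    intro t y ht hc
    by_cases h2 : 2 ∣ orderOf y
    · rw [← h y h2, pow_orderOf_eq_one]
    have h1 := hc.orderOf_mul_eq_mul_orderOf_of_coprime (by
      rw [ht]; exact Nat.prime_two.coprime_iff_not_dvd.2 h2)
    rw [ht] at h1
    have h3 := h (t * y) (h1 ▸ dvd_mul_right 2 _)
    rw [orderOf_eq_one_iff.1 (show orderOf y = 1 by omega), one_pow]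
  have hab : ∀ t : G, orderOf t = 2 → IsMulCommutative ↥(centralizer ({t} : Set G)) := fun t ht =>
    ⟨⟨fun a b => by
      have hx : ∀ c : ↥(centralizer ({t} : Set G)), c * c = 1 := fun c => Subtype.ext (by
        rw [Subgroup.coe_mul, ← pow_two]
        exact hsq t c ht (mem_centralizer_singleton_iff.1 c.2).symm)
      have hi : ∀ c : ↥(centralizer ({t} : Set G)), c⁻¹ = c := fun c => inv_eq_of_mul_eq_one_left (hx c)
      calc a * b = (a * b)⁻¹ := (hi _).symm
        _ = b * a := by rw [mul_inv_rev, hi, hi]⟩⟩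
  have hns := GW.not_isSolvable_of_simple hna
  obtain hc | hn | ⟨F, i, j, A, iA, jA, hF, -, ⟨e⟩⟩ := Cfsg.Agent.S2202.result (even_card hna) hab
  · obtain ⟨S⟩ : Nonempty (Sylow 2 G) := inferInstance
    exact absurd (hc S) (GW.not_isCyclic_sylow hns S)
  · exfalso
    obtain ⟨S⟩ : Nonempty (Sylow 2 G) := inferInstance
    rcases (hn S).eq_bot_or_eq_top with h1 | h1
    · exact GW.not_isCyclic_sylow hns S (by rw [h1]; infer_instance)
    · have hp : IsPGroup 2 G := (h1 ▸ S.2 : IsPGroup 2 (⊤ : Subgroup G)).of_equiv topEquiv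
      haveI := hp.isNilpotent
      exact hns inferInstance
  haveI := hF
  let f : G →* Matrix.SpecialLinearGroup (Fin 2) F := (MonoidHom.fst _ A).comp e.toMonoidHom
  have hfs : Function.Surjective f := fun x => ⟨e.symm (x, 1), by simp [f]⟩
  have hfi : Function.Injective f := by
    rcases f.normal_ker.eq_bot_or_eq_top with h1 | h1
    · exact (MonoidHom.ker_eq_bot_iff f).1 h1
    · exfalso
      haveI : Nontrivial (Matrix.SpecialLinearGroup (Fin 2) F) := by
        rw [← Finite.one_lt_card_iff_nontrivial]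
        rw [Cfsg.Lib.Linear.Two.card_SL_two]
        have := Fintype.one_lt_card (α := F)
        have h2 : 4 ≤ Fintype.card F ^ 2 := Nat.pow_le_pow_left (show 2 ≤ _ by omega) 2
        calc 1 < 2 * 3 := by norm_num
          _ ≤ _ := Nat.mul_le_mul (by omega) (by omega)
      obtain ⟨x, hx⟩ := exists_ne (1 : Matrix.SpecialLinearGroup (Fin 2) F)
      obtain ⟨g, rfl⟩ := hfs x
      exact hx (MonoidHom.mem_ker.1 (h1 ▸ mem_top g))
  let e' := (MulEquiv.ofBijective f ⟨hfi, hfs⟩).trans Cfsg.Lib.Spec.pslEquivOfCharTwo.symm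
  obtain ⟨n, -, hn⟩ := FiniteField.card F 2
  exact ⟨F, i, j, n, hF, hn, CIT.four_le_of_iso hna e', ⟨e'⟩⟩

/-- Sylow 2-subgroups elementary of order four: `PSL(2, q)`. -/
theorem psl_of_sylow_four (hna : ¬ IsMulCommutative G) (S : Sylow 2 G) (h4 : Nat.card (S : Subgroup G) = 4)
    (hexp : ∀ x ∈ (S : Subgroup G), x ^ 2 = 1) :
    ∃ (F : Type) (_ : Field F) (_ : Fintype F), 3 < Fintype.card F ∧
      (Fintype.card F % 8 = 3 ∨ Fintype.card F % 8 = 5) ∧
      Nonempty (G ≃* Matrix.ProjectiveSpecialLinearGroup (Fin 2) F) := by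
  classical
  haveI : Fact (Nat.Prime 2) := ⟨Nat.prime_two⟩
  haveI : IsKleinFour ↥(S : Subgroup G) := by
    haveI : Nontrivial ↥(S : Subgroup G) := Finite.one_lt_card_iff_nontrivial.1 (by omega)
    exact ⟨h4, (Monoid.exponent_eq_prime_iff Nat.prime_two).2 fun x hx =>
      orderOf_eq_prime (Subtype.ext (by rw [SubgroupClass.coe_pow]; exact hexp x x.2)) hx⟩
  have hD : GW.SylowDihedral G := GW.sylowDihedral_of_equiv S le_rfl IsKleinFour.nonempty_mulEquiv
  have h8 : ¬ 8 ∣ Nat.card G := by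
    intro h8
    refine S.not_dvd_index (Nat.dvd_of_mul_dvd_mul_left (show 0 < 4 by norm_num) ?_)
    rw [← h4, card_mul_index, h4]
    exact h8
  rcases GW.simpleGW G hna hD with ⟨F, i, j, hodd, h3, ⟨e⟩⟩ | ⟨⟨e⟩⟩
  · refine ⟨F, i, j, h3, ?_, ⟨e⟩⟩
    have hc := GW.DGroup.card_psl_two hodd
    rw [← Nat.card_congr e.toEquiv] at hc
    obtain ⟨c, hc4⟩ : 4 ∣ Nat.card G := h4 ▸ (S : Subgroup G).card_subgroup_dvd_card
    have hc2 : c % 2 = 1 := by
      by_contra hc2
      exact h8 ⟨c / 2, by omega⟩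
    have h16 : (Fintype.card F ^ 3) % 16 = (Fintype.card F % 16) ^ 3 % 16 := Nat.pow_mod _ 3 16
    have hq2 : Fintype.card F % 2 = 1 := Nat.odd_iff.1 hodd
    rcases (by omega : Fintype.card F % 16 = 1 ∨ Fintype.card F % 16 = 3 ∨ Fintype.card F % 16 = 5 ∨
      Fintype.card F % 16 = 7 ∨ Fintype.card F % 16 = 9 ∨ Fintype.card F % 16 = 11 ∨
      Fintype.card F % 16 = 13 ∨ Fintype.card F % 16 = 15) with h | h | h | h | h | h | h | h <;>
      rw [h] at h16 <;> omega
  · exfalso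
    refine h8 ?_
    rw [Nat.card_congr e.toEquiv, nat_card_alternatingGroup, Nat.card_fin]
    decide

end Cfsg.Lib.CompOrd
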