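import Cfsg.Agent.Lib.CompositeOrder.SuzukiTop
import Cfsg.Agent.Lib.CIT.Consumers.EppoFour
import Cfsg.Agent.S0813
import Cfsg.Agent.S2476

/-!
`PSL(3, 4)` is the whole of an almost simple group with the property.
-/

set_option autoImplicit false
set_option linter.style.haveILetI false

namespace Cfsg.Lib.CompOrd

open Subgroup
open Cfsg.Lib

universe u

variable {G : Type u} [Group G] [Finite G]

theorem isEppo_psl34 {N : Type u} [Group N] {F : Type} [Field F] [Fintype F] (hF : Fintype.card F = 4)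
    (e : N ≃* Matrix.ProjectiveSpecialLinearGroup (Fin 3) F) : CIT.IsEppo N := by
  haveI : Fact (Nat.Prime 2) := ⟨Nat.prime_two⟩
  haveI : CharP F 2 := charP_of_card_eq_prime_pow (R := F) (p := 2) (f := 2) (by simpa using hF)
  intro g hg
  have hk : orderOf g ∈ Set.range (orderOf : Matrix.ProjectiveSpecialLinearGroup (Fin 3) F → ℕ) :=
    ⟨e g, MulEquiv.orderOf_eq e g⟩
  rw [Cfsg.Agent.S2476.result 2, hF] at hk
  have h1 : orderOf g ≠ 1 := fun h => hg (orderOf_eq_one_iff.1 h)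
  norm_num at hk
  have hmem : orderOf g = 2 ∨ orderOf g = 3 ∨ orderOf g = 4 ∨ orderOf g = 5 ∨ orderOf g = 7 := by
    rcases hk with h | h | h | h | h <;> have hle := Nat.le_of_dvd (by norm_num) h <;>
      interval_cases hn : orderOf g <;> simp_all
  rcases hmem with h | h | h | h | h <;> rw [h]
  · exact Nat.prime_two.isPrimePow
  · exact Nat.prime_three.isPrimePow
  · exact ⟨2, 2, Nat.prime_two.prime, by norm_num, by norm_num⟩
  · exact (show Nat.Prime 5 by norm_num).isPrimePow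
  · exact (show Nat.Prime 7 by norm_num).isPrimePow

theorem card_out_psl34 {F : Type} [Field F] [Fintype F] (hF : Fintype.card F = 4)
    (hZ : center (Matrix.ProjectiveSpecialLinearGroup (Fin 3) F) = ⊥) :
    Nat.card (Cfsg.Out (Matrix.ProjectiveSpecialLinearGroup (Fin 3) F)) = 12 := by
  haveI : Fact (Nat.Prime 2) := ⟨Nat.prime_two⟩
  have hc := CIT.card_psl_three_four hF
  have h1 := Cfsg.Agent.S0813.result (F := F) 2 2 (by norm_num) (by rw [hF]; norm_num) 3 (by norm_num)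
    (by norm_num)
  have h2 : Nat.card (Matrix.ProjGenLinGroup (Fin 3) F) = 3 * 20160 := by
    rw [Cfsg.Lib.Linear.card_PGL_eq_card_SL, Cfsg.Lib.Linear.card_SL_eq_gcd_mul_card_PSL, hc, hF]
    rfl
  rw [h2, if_neg (by norm_num)] at h1
  have h3 := Subgroup.card_eq_card_quotient_mul_card_subgroup (Cfsg.Inn (Matrix.ProjectiveSpecialLinearGroup (Fin 3) F))
  have hinj : Function.Injective (MulAut.conj : Matrix.ProjectiveSpecialLinearGroup (Fin 3) F →* _) := by
    refine (injective_iff_map_eq_one _).2 fun x hx => ?_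
    have : x ∈ center (Matrix.ProjectiveSpecialLinearGroup (Fin 3) F) := mem_center_iff.2 fun y => by
      have h := DFunLike.congr_fun hx y
      rw [MulAut.conj_apply, MulAut.one_apply, mul_inv_eq_iff_eq_mul] at h
      exact h.symm
    rwa [hZ, mem_bot] at this
  have h4 : Nat.card (Cfsg.Inn (Matrix.ProjectiveSpecialLinearGroup (Fin 3) F)) = 20160 := by
    rw [← hc]; exact (Nat.card_congr (MonoidHom.ofInjective hinj).toEquiv).symm
  rw [h1, h4] at h3
  change 2 * 2 * (3 * 20160) = Nat.card (Cfsg.Out _) * 20160 at h3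
  omega

/-- The automorphism group of a group of prime order. -/
theorem mulAut_prime {Q : Subgroup G} {p : ℕ} [hp : Fact p.Prime] (hQ : Nat.card Q = p) :
    Nat.card (MulAut ↥Q) = p - 1 ∧ IsCyclic (MulAut ↥Q) := by
  haveI : IsCyclic ↥Q := isCyclic_of_prime_card hQ
  refine ⟨?_, ?_⟩
  · rw [Nat.card_congr (IsCyclic.mulAutMulEquiv ↥Q).toEquiv, Nat.card_eq_fintype_card, ZMod.card_units_eq_totient,
      hQ, Nat.totient_prime hp.out]
  · haveI : IsCyclic (ZMod (Nat.card ↥Q))ˣ := by rw [hQ]; exact inferInstance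
    exact isCyclic_of_surjective (IsCyclic.mulAutMulEquiv ↥Q).symm (IsCyclic.mulAutMulEquiv ↥Q).symm.surjective

theorem top_of_psl34 (h : TwoOrders G) (hG : CIT.IsCIT G) (N : Subgroup G) [N.Normal]
    (hC : centralizer (N : Set G) = ⊥) (hZ : center ↥N = ⊥) {F : Type} [Field F] [Fintype F]
    (hF : Fintype.card F = 4) (e : N ≃* Matrix.ProjectiveSpecialLinearGroup (Fin 3) F) : N = ⊤ := by
  classical
  haveI : Fact (Nat.Prime 2) := ⟨Nat.prime_two⟩
  haveI : Fact (Nat.Prime 3) := ⟨Nat.prime_three⟩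
  haveI : Fact (Nat.Prime 5) := ⟨by norm_num⟩
  haveI : Fact (Nat.Prime 7) := ⟨by norm_num⟩
  have hE := isEppo_psl34 hF e
  have hc : Nat.card N = 20160 := (Nat.card_congr e.toEquiv).trans (CIT.card_psl_three_four hF)
  have hd := index_dvd_out N hC e
  rw [card_out_psl34 hF (by
    refine eq_bot_iff.2 fun x hx => ?_
    have : e.symm x ∈ center ↥N := mem_center_iff.2 fun y => e.injective (by
      rw [map_mul, map_mul, e.apply_symm_apply]; exact mem_center_iff.1 hx (e y))
    rw [hZ, mem_bot] at this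
    simpa using congrArg e this)] at hd
  -- the Sylow subgroups of order 5 and 7
  have hsyl : ∀ (p : ℕ) [Fact p.Prime], p ∣ 20160 → ¬ p ^ 2 ∣ 20160 → ∃ Q : Subgroup G, Q ≤ N ∧ Nat.card Q = p ∧
      normalizer (Q : Set G) ⊔ N = ⊤ := by
    intro p hp h1 h2
    obtain ⟨P⟩ : Nonempty (Sylow p ↥N) := inferInstance
    refine ⟨(P : Subgroup ↥N).map N.subtype, map_subtype_le _, ?_, Sylow.normalizer_sup_eq_top P⟩
    rw [Core.card_map_subtype, P.card_eq_multiplicity, hc]
    have e1 : 1 ≤ (20160 : ℕ).factorization p := (Nat.Prime.dvd_iff_one_le_factorization hp.out (by norm_num)).1 h1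
    have e2 : (20160 : ℕ).factorization p < 2 := by
      by_contra hh
      exact h2 ((hp.out.pow_dvd_iff_le_factorization (by norm_num)).2 (not_lt.1 hh))
    rw [show (20160 : ℕ).factorization p = 1 by omega, pow_one]
  have hcard : ∀ Q : Subgroup G, normalizer (Q : Set G) ⊔ N = ⊤ →
      Nat.card ↥(normalizer (Q : Set G)) = N.index * Nat.card ↥(N ⊓ normalizer (Q : Set G)) := by
    intro Q hQ
    have h1 := Local.Baumann.card_sup_mul_inf (A := N) (B := normalizer (Q : Set G))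
      (by rw [normalizer_eq_top_iff.2 (inferInstance : N.Normal)]; exact le_top)
    rw [sup_comm, hQ, Subgroup.card_top, ← N.card_mul_index, mul_assoc] at h1
    exact (Nat.eq_of_mul_eq_mul_left (Nat.card_pos (α := N)) h1).symm
  obtain ⟨Q₅, -, hQ₅, htop₅⟩ := hsyl 5 (by norm_num) (by norm_num)
  obtain ⟨P, x, hP, hxo, hxn⟩ := hE.exists_pair (M := (⊤ : Subgroup ↥N)) (r := 7) (s := 3)
    ((Subgroup.card_top).trans hc) (by norm_num) (by norm_num) (by decide)
  obtain ⟨Q₀, hQ₀N, hQ₀, htop₀⟩ := hsyl 7 (by norm_num) (by norm_num)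
  set Q₇ := P.map N.subtype
  have hQ₇ : Nat.card Q₇ = 7 := (Core.card_map_subtype P).trans hP
  have htop₇ : normalizer (Q₇ : Set G) ⊔ N = ⊤ := by
    have hfac : (20160 : ℕ).factorization 7 = 1 := by
      have e1 : 1 ≤ (20160 : ℕ).factorization 7 :=
        (Nat.Prime.dvd_iff_one_le_factorization (by norm_num) (by norm_num)).1 (by norm_num)
      have e2 : (20160 : ℕ).factorization 7 < 2 := by
        by_contra hh
        have := ((show Nat.Prime 7 by norm_num).pow_dvd_iff_le_factorization (by norm_num)).2 (not_lt.1 hh)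
        norm_num at this
      omega
    let P' : Sylow 7 ↥N := Sylow.ofCard P (by rw [hP, hc, hfac, pow_one])
    have := Sylow.normalizer_sup_eq_top P'
    rwa [Sylow.coe_ofCard] at this
  have hxM : (x : G) ∈ N ⊓ normalizer (Q₇ : Set G) := by
    refine ⟨x.2, mem_normalizer_fintype ?_⟩
    rintro _ ⟨y, hy, rfl⟩
    exact ⟨x * y * x⁻¹, (mem_normalizer_iff.1 hxn y).1 hy, rfl⟩
  have hxo' : orderOf (x : G) = 3 := by rw [orderOf_coe, hxo]
  obtain ⟨⟨u₇, hu₇⟩, hu₇o⟩ := exists_prime_orderOf_dvd_card' (G := Q₇) 7 (hQ₇ ▸ dvd_rfl)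
  rw [Subgroup.orderOf_mk] at hu₇o
  obtain ⟨hA₇, hcyc₇⟩ := mulAut_prime hQ₇
  set φ := Q₇.normalizerMonoidHom
  have hkerC : ∀ (Q : Subgroup G) (g : ↥(normalizer (Q : Set G))), Q.normalizerMonoidHom g = 1 →
      ∀ a ∈ Q, Commute (g : G) a := fun Q g hg a ha => by
    have h1 : (g : G) * a * (g : G)⁻¹ = a := congrArg Subtype.val (DFunLike.congr_fun hg (⟨a, ha⟩ : Q))
    exact mul_inv_eq_iff_eq_mul.1 h1
  -- no index divisible by three
  have h3 : ¬ 3 ∣ N.index := by
    intro h3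
    obtain ⟨⟨y, hy⟩, hyo⟩ := exists_prime_orderOf_dvd_card' (G := ↥(normalizer (Q₅ : Set G))) 3
      (by rw [hcard _ htop₅]; exact h3.mul_right _)
    obtain ⟨⟨u₅, hu₅⟩, hu₅o⟩ := exists_prime_orderOf_dvd_card' (G := Q₅) 5 (hQ₅ ▸ dvd_rfl)
    rw [Subgroup.orderOf_mk] at hu₅o
    have hy1 : Q₅.normalizerMonoidHom ⟨y, hy⟩ = 1 := by
      rw [← orderOf_eq_one_iff]
      refine Nat.Coprime.eq_one_of_dvd (m := 3) ?_ ((orderOf_map_dvd (Q₅.normalizerMonoidHom) _).trans (dvd_of_eq hyo))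
      exact Nat.Coprime.coprime_dvd_left (orderOf_dvd_natCard (G := MulAut ↥Q₅) _) (by rw [(mulAut_prime hQ₅).1]; norm_num)
    rw [Subgroup.orderOf_mk] at hyo
    have h15 : orderOf (y * u₅) = 15 := by
      rw [(hkerC Q₅ ⟨y, hy⟩ hy1 u₅ hu₅).orderOf_mul_eq_mul_orderOf_of_coprime (by rw [hyo, hu₅o]; norm_num),
        hyo, hu₅o]
    obtain ⟨z, hz⟩ : ∃ z : φ.ker, orderOf z = 3 := by
      refine exists_prime_orderOf_dvd_card' 3 ?_
      have h63 : 9 ∣ Nat.card ↥(normalizer (Q₇ : Set G)) := by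
        rw [hcard _ htop₇, show 9 = 3 * 3 from rfl]
        refine Nat.mul_dvd_mul h3 ?_
        rw [← hxo']
        exact Subgroup.orderOf_dvd_natCard _ hxM
      rw [← φ.ker.card_mul_index, Subgroup.index_ker] at h63
      have hr : Nat.card φ.range ∣ 6 := by
        have := φ.range.card_subgroup_dvd_card
        rwa [hA₇] at this
      by_contra hk
      have hco : Nat.Coprime 9 (Nat.card φ.ker) := by
        rw [show (9 : ℕ) = 3 ^ 2 from rfl]
        exact Nat.Coprime.pow_left 2 (Nat.prime_three.coprime_iff_not_dvd.2 hk)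
      have := (hco.dvd_of_dvd_mul_left h63).trans hr
      norm_num at this
    have hz' : orderOf ((z : ↥(normalizer (Q₇ : Set G))) : G) = 3 := by rw [orderOf_coe, orderOf_coe, hz]
    have h21 : orderOf (((z : ↥(normalizer (Q₇ : Set G))) : G) * u₇) = 21 := by
      rw [(hkerC Q₇ (z : ↥(normalizer (Q₇ : Set G))) (MonoidHom.mem_ker.1 z.2) u₇ hu₇).orderOf_mul_eq_mul_orderOf_of_coprime
        (by rw [hz', hu₇o]; norm_num), hz', hu₇o]
    exact h.false_of_three Nat.prime_three hxo' h15 h21 (by norm_num) (by norm_num) (by norm_num) dvd_rfl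
      (by norm_num) (by norm_num)
  -- so the index is a power of two
  rw [← Subgroup.index_eq_one]
  by_contra hne
  have h2 : 2 ∣ N.index := by
    obtain ⟨ℓ, hℓ, hℓd⟩ := Nat.exists_prime_and_dvd hne
    have hle := Nat.le_of_dvd (by norm_num) (hℓd.trans hd)
    have h12 := hℓd.trans hd
    interval_cases ℓ <;> first | exact hℓd | exact absurd hℓd h3 | (revert hℓ h12; norm_num)
  obtain ⟨⟨y, hy⟩, hyo⟩ := exists_prime_orderOf_dvd_card' (G := ↥(normalizer (Q₇ : Set G))) 2
    (by rw [hcard _ htop₇]; exact h2.mul_right _)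
  have hne1 : ∀ (g : ↥(normalizer (Q₇ : Set G))) (p : ℕ), p.Prime → orderOf g = p →
      ¬ Commute (g : G) u₇ → orderOf (φ g) = p := fun g p hp hg hnc =>
    ((Nat.dvd_prime hp).1 (hg ▸ orderOf_map_dvd φ g)).resolve_left fun e1 =>
      hnc (hkerC Q₇ g (orderOf_eq_one_iff.1 e1) u₇ hu₇)
  have hy2 := hne1 ⟨y, hy⟩ 2 Nat.prime_two hyo fun hc => by
    rw [Subgroup.orderOf_mk] at hyo
    have := CIT.eq_one_of_odd_two (hG y hyo) (mem_centralizer_singleton_iff.2 hc.eq.symm)
      (by rw [hu₇o]; decide)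
    rw [this, orderOf_one] at hu₇o
    norm_num at hu₇o
  have hx3 := hne1 ⟨x, hxM.2⟩ 3 Nat.prime_three (by rw [Subgroup.orderOf_mk, hxo']) fun hc => by
    obtain ⟨u', hu'P, hu'e⟩ := hu₇
    have h21 : orderOf (x * u') = 21 := by
      rw [← orderOf_coe, Subgroup.coe_mul]
      show orderOf ((x : G) * (N.subtype u')) = 21
      rw [hu'e, hc.orderOf_mul_eq_mul_orderOf_of_coprime (by rw [hxo', hu₇o]; norm_num), hxo', hu₇o]
    obtain ⟨w, hw⟩ := hE (x * u') fun e' => by rw [e', orderOf_one] at h21; norm_num at h21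
    obtain ⟨n, hw', -, hwn⟩ := hw
    rw [h21] at hwn
    have h7 := (Nat.prime_dvd_prime_iff_eq (show Nat.Prime 7 by norm_num) (Nat.prime_iff.2 hw')).1
      ((show Nat.Prime 7 by norm_num).dvd_of_dvd_pow (hwn ▸ (by norm_num : 7 ∣ 21)))
    have h3' := (Nat.prime_dvd_prime_iff_eq Nat.prime_three (Nat.prime_iff.2 hw')).1
      (Nat.prime_three.dvd_of_dvd_pow (hwn ▸ (by norm_num : 3 ∣ 21)))
    omega
  haveI := hcyc₇
  have h6 : orderOf (φ (⟨y, hy⟩ * ⟨x, hxM.2⟩)) = 6 := by
    rw [map_mul, (show Commute (φ ⟨y, hy⟩) (φ ⟨x, hxM.2⟩) from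
      (IsCyclic.commGroup (α := MulAut ↥Q₇)).mul_comm _ _).orderOf_mul_eq_mul_orderOf_of_coprime
        (by rw [hy2, hx3]; norm_num), hy2, hx3]
  have hd6 : 6 ∣ orderOf (y * (x : G)) := by
    rw [← h6]
    refine (orderOf_map_dvd φ _).trans (dvd_of_eq ?_)
    rw [← orderOf_coe]
    rfl
  set g := y * (x : G)
  have hgo := orderOf_pow_orderOf_div (orderOf_pos g).ne' ((by norm_num : 2 ∣ 6).trans hd6)
  have hgo3 := orderOf_pow_orderOf_div (orderOf_pos g).ne' ((by norm_num : 3 ∣ 6).trans hd6)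
  have := CIT.eq_one_of_odd_two (hG _ hgo)
    (mem_centralizer_singleton_iff.2 ((Commute.refl g).pow_pow (orderOf g / 3) (orderOf g / 2)).eq)
    (by rw [hgo3]; decide)
  rw [this, orderOf_one] at hgo3
  norm_num at hgo3

end Cfsg.Lib.CompOrd
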