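import Cfsg.Agent.Lib.CompositeOrder.TwoOrders
import Cfsg.Agent.Lib.GW.PGL

/-!
An almost simple group over `PSL(2, q)` in which every prime divides at most two element orders is
`PSL(2, q)`: diagonal and field automorphisms always create a third order.
-/

set_option autoImplicit false
set_option linter.style.haveILetI false

namespace Cfsg.Lib.CompOrd

open Subgroup
open Cfsg.Lib Cfsg.Lib.Linear.AutPSL Cfsg.Lib.Linear.Descent
open Matrix.SpecialLinearGroup (toGL)

universe u

variable {F : Type} [Field F] [Fintype F]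

local notation "PSL2" => Matrix.ProjectiveSpecialLinearGroup (Fin 2) F
local notation "Aut2" => MulAut (Matrix.ProjectiveSpecialLinearGroup (Fin 2) F)

theorem conj_psl_injective : Function.Injective (MulAut.conj : PSL2 →* Aut2) := by
  refine (injective_iff_map_eq_one _).2 fun x hx => ?_
  obtain ⟨s, rfl⟩ := QuotientGroup.mk_surjective x
  rw [conj_mk, innd_eq_one_iff le_rfl] at hx
  obtain ⟨c, hc⟩ := hx
  refine (QuotientGroup.eq_one_iff s).2 (Matrix.SpecialLinearGroup.mem_center_iff.2 ⟨(c : F), ?_, ?_⟩)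
  · have h1 := congrArg (fun A : GL (Fin 2) F => Matrix.det A.val) hc
    simp only [sc_val, Matrix.det_smul, Fintype.card_fin, Matrix.det_one, mul_one] at h1
    rw [Fintype.card_fin, ← h1]
    exact s.2
  · have h1 := congrArg Units.val hc
    rw [sc_val] at h1
    show Matrix.scalar (Fin 2) (c : F) = s.1
    rw [Matrix.scalar_apply, ← Matrix.smul_one_eq_diagonal, ← h1]
    rfl

/-- Square determinant means inner. -/
theorem inner_of_square {A : GL (Fin 2) F} (h : IsSquare (Matrix.GeneralLinearGroup.det A)) :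
    ∃ x : PSL2, innd A = MulAut.conj x := by
  obtain ⟨c, hc⟩ := h
  set B := sc c⁻¹ * A with hB
  have hd : Matrix.det B.val = 1 := by
    have : Matrix.GeneralLinearGroup.det B = 1 := by
      rw [hB, map_mul, det_sc, hc, pow_two]
      group
    exact congrArg Units.val this
  refine ⟨QuotientGroup.mk ⟨B.val, hd⟩, ?_⟩
  refine Eq.trans ?_ (conj_mk (⟨B.val, hd⟩ : Matrix.SpecialLinearGroup (Fin 2) F)).symm
  rw [show toGL (⟨B.val, hd⟩ : Matrix.SpecialLinearGroup (Fin 2) F) = B from Units.ext rfl, hB,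
    map_mul, innd_sc, one_mul]

theorem exists_gen : ∃ g : Fˣ, orderOf g = Fintype.card F - 1 ∧ ∀ x : Fˣ, ∃ i : ℕ, g ^ i = x := by
  obtain ⟨g, hg⟩ := IsCyclic.exists_generator (α := Fˣ)
  refine ⟨g, ?_, fun x => ?_⟩
  · rw [orderOf_eq_card_of_forall_mem_zpowers hg, Nat.card_units, Nat.card_eq_fintype_card]
  · exact (mem_powers_iff_mem_zpowers.2 (hg x))

theorem gen_not_square (hodd : Fintype.card F % 2 = 1) {g : Fˣ} (hg : orderOf g = Fintype.card F - 1) :
    ¬ IsSquare g := by
  rintro ⟨c, hc⟩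
  have h1 : g ^ ((Fintype.card F - 1) / 2) = 1 := by
    rw [hc, ← pow_two, ← pow_mul, Nat.mul_div_cancel' (by omega)]
    exact orderOf_dvd_iff_pow_eq_one.1 ((orderOf_dvd_natCard c).trans (by
      rw [Nat.card_units, Nat.card_eq_fintype_card]))
  have := orderOf_dvd_of_pow_eq_one h1
  have h2 := Fintype.one_lt_card (α := F)
  have := Nat.le_of_dvd (by omega) this
  omega

theorem isSquare_mul_of_not {a b : Fˣ} (ha : ¬ IsSquare a) (hb : ¬ IsSquare b) : IsSquare (a * b) := by
  obtain ⟨g, -, hg⟩ := exists_gen (F := F)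
  obtain ⟨i, rfl⟩ := hg a
  obtain ⟨j, rfl⟩ := hg b
  rw [← pow_add]
  refine Even.isSquare_pow ?_ g
  rcases Nat.even_or_odd i with hi | hi
  · exact absurd (hi.isSquare_pow g) ha
  rcases Nat.even_or_odd j with hj | hj
  · exact absurd (hj.isSquare_pow g) hb
  exact hi.add_odd hj

section

variable {R : Subgroup (MulAut (Matrix.ProjectiveSpecialLinearGroup (Fin 2) F))} (hT : TwoOrders ↥R)
  (hR : ∀ x : Matrix.ProjectiveSpecialLinearGroup (Fin 2) F, MulAut.conj x ∈ R)
  (h4 : 4 ≤ Fintype.card F)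

include hT in
theorem false_of_three_aut {p : ℕ} (hp : p.Prime) {i j k : ℕ} {a b c : Aut2} (ha : a ∈ R) (hb : b ∈ R)
    (hc : c ∈ R) (hi' : orderOf a = i) (hj' : orderOf b = j) (hk' : orderOf c = k)
    (hij : i ≠ j) (hjk : j ≠ k) (hik : i ≠ k) (hi : p ∣ i) (hj : p ∣ j) (hk : p ∣ k) : False :=
  hT.false_of_three (a := ⟨a, ha⟩) (b := ⟨b, hb⟩) (c := ⟨c, hc⟩) hp (by rwa [Subgroup.orderOf_mk])
    (by rwa [Subgroup.orderOf_mk]) (by rwa [Subgroup.orderOf_mk]) hij hjk hik hi hj hk

include hR h4 in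
theorem exists_inner_order {k : ℕ}
    (h : k ∣ (Fintype.card F - 1) / Nat.gcd 2 (Fintype.card F - 1) ∨
      k ∣ (Fintype.card F + 1) / Nat.gcd 2 (Fintype.card F - 1)) :
    ∃ a : Aut2, a ∈ R ∧ orderOf a = k := by
  obtain ⟨x, hx⟩ := exists_order_psl h4 h
  exact ⟨_, hR x, by rw [orderOf_injective _ conj_psl_injective, hx]⟩

include hR in
theorem mem_of_square {A : GL (Fin 2) F} (h : IsSquare (Matrix.GeneralLinearGroup.det A)) :
    (innd A : Aut2) ∈ R := by
  obtain ⟨x, hx⟩ := inner_of_square h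
  exact hx ▸ hR x

include hT hR h4 in
/-- No diagonal automorphisms. -/
theorem isSquare_det {A : GL (Fin 2) F} (hA : (innd A : Aut2) ∈ R) :
    IsSquare (Matrix.GeneralLinearGroup.det A) := by
  classical
  by_contra hns
  have hodd : Fintype.card F % 2 = 1 := by
    by_contra he
    refine hns ?_
    obtain ⟨g, hgo, hg⟩ := exists_gen (F := F)
    obtain ⟨i, hi⟩ := hg (Matrix.GeneralLinearGroup.det A)
    rw [← hi]
    rcases Nat.even_or_odd i with he' | ho'
    · exact he'.isSquare_pow g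
    · have : g ^ i = g ^ (i + orderOf g) := by rw [pow_add, pow_orderOf_eq_one, mul_one]
      rw [this]
      exact (ho'.add_odd (by rw [hgo]; exact Nat.odd_iff.2 (by omega))).isSquare_pow g
  have hall : ∀ B : GL (Fin 2) F, (innd B : Aut2) ∈ R := fun B => by
    by_cases hB : IsSquare (Matrix.GeneralLinearGroup.det B)
    · exact mem_of_square hR hB
    rw [show B = B * A⁻¹ * A by group, map_mul]
    refine mul_mem (mem_of_square hR ?_) hA
    rw [map_mul, map_inv]
    exact isSquare_mul_of_not hB (fun h => hns (by simpa using h.inv))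
  have h2gcd : Nat.gcd 2 (Fintype.card F - 1) = 2 := Nat.gcd_eq_left (by omega)
  obtain ⟨g, hgo, -⟩ := exists_gen (F := F)
  set D : GL (Fin 2) F := Matrix.GeneralLinearGroup.mk'' !![(g : F), 0; 0, 1] (by
    simp [Matrix.det_fin_two]) with hD
  have hDk : ∀ k : ℕ, (D ^ k).val = !![(g : F) ^ k, 0; 0, 1] := by
    intro k
    induction k with
    | zero => simp [Matrix.one_fin_two]
    | succ k ih => rw [pow_succ, Units.val_mul, ih]; simp [hD, Matrix.mul_fin_two, pow_succ]
  have hDo : orderOf (innd D : Aut2) = Fintype.card F - 1 := by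
    rw [← hgo]
    refine orderOf_eq_orderOf_iff.2 fun k => ?_
    rw [← map_pow, innd_eq_one_iff le_rfl]
    constructor
    · rintro ⟨c, hc⟩
      have h1 := congrArg Units.val hc
      rw [hDk, sc_val] at h1
      have h00 := congrFun (congrFun h1 0) 0
      have h11 := congrFun (congrFun h1 1) 1
      simp at h00 h11
      exact Units.ext (by rw [Units.val_pow_eq_pow_val, h00, ← h11, Units.val_one])
    · intro hk
      refine ⟨1, Units.ext ?_⟩
      rw [hDk, sc_val, ← Units.val_pow_eq_pow_val, hk]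
      simp [Matrix.one_fin_two]
  obtain ⟨a, ha, hao⟩ := exists_inner_order hR h4 (k := 2) (by
    rw [h2gcd]
    rcases (by omega : ((Fintype.card F - 1) / 2) % 2 = 0 ∨ ((Fintype.card F + 1) / 2) % 2 = 0) with h | h
    · exact Or.inl (Nat.dvd_of_mod_eq_zero h)
    · exact Or.inr (Nat.dvd_of_mod_eq_zero h))
  by_cases hq5 : Fintype.card F = 5
  · have h5 : (5 : F) = 0 := by
      have h := Nat.cast_card_eq_zero F
      rw [hq5] at h
      exact_mod_cast h
    have hc : ∀ n : ℕ, 0 < n → n < 5 → (n : F) ≠ 0 := by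
      intro n hn hn5 he
      haveI : Fact (Nat.Prime 5) := ⟨by norm_num⟩
      haveI : CharP F 5 := charP_of_card_eq_prime_pow (R := F) (p := 5) (f := 1) (by simpa using hq5)
      have := Nat.le_of_dvd hn ((CharP.cast_eq_zero_iff F 5 n).1 he)
      omega
    set B : GL (Fin 2) F := Matrix.GeneralLinearGroup.mk'' !![0, 2; 1, 3] (by
      simp [Matrix.det_fin_two]
      exact_mod_cast hc 2 two_pos (by norm_num)) with hB
    have hB2 : (B ^ 2).val = !![2, 1; 3, 1] := by
      rw [pow_two, Units.val_mul]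
      simp only [hB]
      ext i j
      fin_cases i <;> fin_cases j <;>
        simp [Matrix.GeneralLinearGroup.mk'', Matrix.nonsingInvUnit, Matrix.mul_apply, Fin.sum_univ_two] <;>
        first
          | linear_combination (1 : F) * h5
          | linear_combination (2 : F) * h5
    have hB3 : (B ^ 3).val = !![1, 2; 1, 4] := by
      rw [pow_succ, Units.val_mul, hB2]
      simp only [hB]
      ext i j
      fin_cases i <;> fin_cases j <;>
        simp [Matrix.GeneralLinearGroup.mk'', Matrix.nonsingInvUnit, Matrix.mul_apply, Fin.sum_univ_two] <;>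
        first
          | linear_combination (1 : F) * h5
          | linear_combination (2 : F) * h5
    have hB6 : (innd B : Aut2) ^ 6 = 1 := by
      rw [← map_pow, innd_eq_one_iff le_rfl]
      refine ⟨Units.mk0 3 (by exact_mod_cast hc 3 (by norm_num) (by norm_num)), Units.ext ?_⟩
      rw [show 6 = 3 * 2 from rfl, pow_mul, pow_two, Units.val_mul, hB3, sc_val]
      ext i j
      fin_cases i <;> fin_cases j <;> simp [Matrix.mul_apply, Fin.sum_univ_two] <;>
        first
          | linear_combination (1 : F) * h5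
          | linear_combination (2 : F) * h5
          | linear_combination (3 : F) * h5
          | linear_combination (-1 : F) * h5
          | linear_combination (-2 : F) * h5
          | linear_combination (-3 : F) * h5
          | ring1
    have hoff : ∀ k : ℕ, (B ^ k).val 1 0 ≠ 0 → (innd B : Aut2) ^ k ≠ 1 := by
      intro k hk e
      rw [← map_pow, innd_eq_one_iff le_rfl] at e
      obtain ⟨c, hc⟩ := e
      exact hk (by rw [hc, sc_val]; simp)
    have h2ne := hoff 2 (by rw [hB2]; simpa using (by exact_mod_cast hc 3 (by norm_num) (by norm_num)))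
    have h3ne := hoff 3 (by rw [hB3]; simp)
    have hd := orderOf_dvd_of_pow_eq_one hB6
    have hBo : orderOf (innd B : Aut2) = 6 := by
      have hle := Nat.le_of_dvd (by norm_num) hd
      have hn2 : ¬ orderOf (innd B : Aut2) ∣ 2 := fun h => h2ne (orderOf_dvd_iff_pow_eq_one.1 h)
      have hn3 : ¬ orderOf (innd B : Aut2) ∣ 3 := fun h => h3ne (orderOf_dvd_iff_pow_eq_one.1 h)
      interval_cases hn : orderOf (innd B : Aut2) <;> first | rfl | omega
    exact false_of_three_aut hT Nat.prime_two ha (hall D) (hall B) hao hDo hBo (by omega) (by omega)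
      (by omega) dvd_rfl (by omega) (by norm_num)
  · obtain ⟨k, hk, hk2, b, hb, hbo⟩ : ∃ k, 2 ∣ k ∧ (2 < k ∧ k ≠ Fintype.card F - 1) ∧
        ∃ b : Aut2, b ∈ R ∧ orderOf b = k := by
      rcases (by omega : Fintype.card F % 4 = 1 ∨ Fintype.card F % 4 = 3) with h | h
      · exact ⟨(Fintype.card F - 1) / 2, by omega, ⟨by omega, by omega⟩,
          exists_inner_order hR h4 (Or.inl (by rw [h2gcd]))⟩
      · exact ⟨(Fintype.card F + 1) / 2, by omega, ⟨by omega, by omega⟩,
          exists_inner_order hR h4 (Or.inr (by rw [h2gcd]))⟩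
    exact false_of_three_aut hT Nat.prime_two ha hb (hall D) hao hbo hDo (by omega) (by omega)
      (by omega) dvd_rfl hk (by omega)

theorem isSquare_map_iff (σ : F ≃+* F) (x : Fˣ) :
    IsSquare (Units.map σ.toRingHom.toMonoidHom x) ↔ IsSquare x := by
  constructor
  · intro h
    have := h.map (Units.map σ.symm.toRingHom.toMonoidHom)
    rwa [show Units.map σ.symm.toRingHom.toMonoidHom (Units.map σ.toRingHom.toMonoidHom x) = x from
      Units.ext (σ.symm_apply_apply (x : F))] at this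
  · exact fun h => h.map _

theorem det_sm' (σ : F ≃+* F) (A : GL (Fin 2) F) :
    Matrix.GeneralLinearGroup.det (sm σ A) =
      Units.map σ.toRingHom.toMonoidHom (Matrix.GeneralLinearGroup.det A) :=
  Units.ext (RingHom.map_det σ.toRingHom A.val).symm

theorem isSquare_det_tw (σ : F ≃+* F) {A : GL (Fin 2) F}
    (hA : ¬ IsSquare (Matrix.GeneralLinearGroup.det A)) :
    ∀ k : ℕ, IsSquare (Matrix.GeneralLinearGroup.det (tw σ A k)) ↔ Even k
  | 0 => by simp [tw]
  | k + 1 => by
    rw [tw, map_mul, det_sm', Nat.even_add_one, ← isSquare_det_tw σ hA k]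
    constructor
    · intro h hk
      refine hA ?_
      have := h.mul ((isSquare_map_iff σ _).2 hk).inv
      rwa [mul_inv_cancel_right] at this
    · intro h
      exact isSquare_mul_of_not hA fun hk => h ((isSquare_map_iff σ _).1 hk)

theorem dvd_of_innd_fld_pow {σ : F ≃+* F} {B : GL (Fin 2) F} {k : ℕ}
    (h : ((innd B * fld σ : Aut2)) ^ k = 1) : orderOf σ ∣ k := by
  rw [innd_fld_pow] at h
  exact orderOf_dvd_of_pow_eq_one (fld_eq_of_eq (n := 2) (g' := 1) (σ' := 1) le_rfl
    (h.trans (by rw [map_one, map_one, one_mul])))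

include hT hR h4 in
/-- The graph of a field automorphism of prime order gives a third order. -/
theorem false_of_fld {p f : ℕ} [Fact p.Prime] (hf : 1 ≤ f) (hF : Fintype.card F = p ^ f) {σ : F ≃+* F} {ℓ : ℕ}
    (hℓ : ℓ.Prime) (hσ : orderOf σ = ℓ) (hmem : (fld σ : Aut2) ∈ R) : False := by
  classical
  have hp : p.Prime := Fact.out
  haveI : CharP F p := charP_of_card hf hF
  have hℓf : ℓ ∣ f := hσ ▸ orderOf_dvd_exp hf hF σ
  have hfo : orderOf (fld σ : Aut2) = ℓ := by rw [orderOf_injective _ (fld_injective le_rfl), hσ]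
  -- an element of order `ℓ * p`
  obtain ⟨b, hb⟩ : ∃ b : F, ∑ i : Fin ℓ, (σ ^ (i : ℕ)) b ≠ 0 := by
    by_contra hall
    push Not at hall
    have hinj : Function.Injective fun i : Fin ℓ => ((σ ^ (i : ℕ)).toRingHom.toMonoidHom : F →* F) := by
      intro i j e
      have e' : σ ^ (i : ℕ) = σ ^ (j : ℕ) := RingEquiv.ext fun x => DFunLike.congr_fun e x
      rw [pow_eq_pow_iff_modEq, hσ, Nat.ModEq, Nat.mod_eq_of_lt i.2, Nat.mod_eq_of_lt j.2] at e'
      exact Fin.ext e'
    have hli := (linearIndependent_monoidHom F F).comp _ hinj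
    rw [Fintype.linearIndependent_iff] at hli
    refine one_ne_zero (hli (fun _ => 1) ?_ ⟨0, hℓ.pos⟩)
    funext x
    simpa using hall x
  let U : F → Matrix.SpecialLinearGroup (Fin 2) F := fun c => ⟨!![1, c; 0, 1], by simp [Matrix.det_fin_two]⟩
  have htw : ∀ k : ℕ, tw σ (toGL (U b)) k = toGL (U (∑ i ∈ Finset.range k, (σ ^ i) b)) := by
    intro k
    induction k with
    | zero =>
      refine Units.ext ?_
      show (1 : Matrix (Fin 2) (Fin 2) F) = !![1, ∑ i ∈ Finset.range 0, (σ ^ i) b; 0, 1]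
      simp [Matrix.one_fin_two]
    | succ k ih =>
      refine Units.ext ?_
      rw [tw_succ', ih, Units.val_mul]
      show (!![1, ∑ i ∈ Finset.range k, (σ ^ i) b; 0, 1] : Matrix (Fin 2) (Fin 2) F) *
        (!![1, b; 0, 1] : Matrix (Fin 2) (Fin 2) F).map (σ ^ k) = !![1, ∑ i ∈ Finset.range (k + 1), (σ ^ i) b; 0, 1]
      rw [Finset.sum_range_succ]
      ext i j
      fin_cases i <;> fin_cases j <;> simp [Matrix.mul_apply, Fin.sum_univ_two, add_comm]
  set z : Aut2 := innd (toGL (U b)) * fld σ with hz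
  have hzR : z ∈ R := mul_mem (by rw [← conj_mk]; exact hR _) hmem
  set S := ∑ i ∈ Finset.range ℓ, (σ ^ i) b with hS
  have hS0 : S ≠ 0 := by rwa [hS, ← Fin.sum_univ_eq_sum_range fun i => (σ ^ i) b]
  have hzl : z ^ ℓ = innd (toGL (U S)) := by
    rw [hz, innd_fld_pow, htw, show σ ^ ℓ = 1 by rw [← hσ, pow_orderOf_eq_one], map_one, mul_one]
  have hUk : ∀ k : ℕ, ((toGL (U S)) ^ k).val = !![1, (k : F) * S; 0, 1] := by
    intro k
    induction k with
    | zero => simp [Matrix.one_fin_two]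
    | succ k ih =>
      rw [pow_succ, Units.val_mul, ih]
      show (!![1, (k : F) * S; 0, 1] : Matrix (Fin 2) (Fin 2) F) * !![1, S; 0, 1] = _
      rw [Matrix.mul_fin_two]
      push_cast
      simp [add_mul, add_comm]
  have hUo : orderOf (innd (toGL (U S)) : Aut2) = p := by
    refine orderOf_eq_prime ?_ ?_
    · rw [← map_pow, innd_eq_one_iff le_rfl]
      refine ⟨1, Units.ext ?_⟩
      rw [hUk, sc_val, CharP.cast_eq_zero, zero_mul]
      simp [Matrix.one_fin_two]
    · rw [← pow_one (innd (toGL (U S)) : Aut2), ← map_pow, Ne, innd_eq_one_iff le_rfl]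
      rintro ⟨c, hc⟩
      have hv := congrArg Units.val hc
      rw [hUk, sc_val] at hv
      have h01 := congrFun (congrFun hv 0) 1
      simp at h01
      exact hS0 h01
  have hℓz : ℓ ∣ orderOf z := hσ ▸ dvd_of_innd_fld_pow (pow_orderOf_eq_one z)
  have hzo : orderOf z = ℓ * p := by
    have h1 := orderOf_pow_of_dvd hℓ.ne_zero hℓz
    rw [hzl, hUo] at h1
    rw [h1, Nat.mul_div_cancel' hℓz]
  have hℓp : ℓ ≠ ℓ * p := fun e => by
    have := lt_mul_of_one_lt_right hℓ.pos hp.one_lt
    omega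
  -- an element fixed by `σ`
  obtain ⟨c, hc, hcp, hcase, g, hgo, hgσ⟩ : ∃ c : ℕ, c.Prime ∧ c ≠ p ∧ ((p = 2 ∧ c = 3) ∨ (p ≠ 2 ∧ c = 2)) ∧
      ∃ g : Matrix.SpecialLinearGroup (Fin 2) F,
      orderOf (QuotientGroup.mk g : PSL2) = c ∧ ∀ i j, σ (g.1 i j) = g.1 i j := by
    have hne : ∀ g : Matrix.SpecialLinearGroup (Fin 2) F, g.1 1 0 ≠ 0 → (QuotientGroup.mk g : PSL2) ≠ 1 :=
      fun g hg e => by
      obtain ⟨r, -, hr⟩ := Matrix.SpecialLinearGroup.mem_center_iff.1 ((QuotientGroup.eq_one_iff g).1 e)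
      exact hg (by rw [← hr]; simp)
    by_cases hp2 : p = 2
    · subst hp2
      obtain ⟨g, hg⟩ : ∃ g : Matrix.SpecialLinearGroup (Fin 2) F, g.1 = !![0, 1; 1, 1] :=
        ⟨⟨!![0, 1; 1, 1], by rw [Matrix.det_fin_two_of]; simp [CharTwo.neg_eq]⟩, rfl⟩
      refine ⟨3, Nat.prime_three, by norm_num, Or.inl ⟨rfl, rfl⟩, g, orderOf_eq_prime ?_ (hne _ (by simp [hg])),
        fun i j => ?_⟩
      · rw [← QuotientGroup.mk_pow]
        refine (QuotientGroup.eq_one_iff _).2 ?_
        convert one_mem (center (Matrix.SpecialLinearGroup (Fin 2) F))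
        refine Subtype.ext ?_
        rw [Matrix.SpecialLinearGroup.coe_pow, hg, pow_three]
        ext i j
        fin_cases i <;> fin_cases j <;> simp [Matrix.mul_apply, Fin.sum_univ_two, CharTwo.add_self_eq_zero]
      · rw [hg]
        fin_cases i <;> fin_cases j <;> simp
    · obtain ⟨g, hg⟩ : ∃ g : Matrix.SpecialLinearGroup (Fin 2) F, g.1 = !![0, 1; -1, 0] :=
        ⟨⟨!![0, 1; -1, 0], by simp [Matrix.det_fin_two]⟩, rfl⟩
      refine ⟨2, Nat.prime_two, Ne.symm hp2, Or.inr ⟨hp2, rfl⟩, g, orderOf_eq_prime ?_ (hne _ (by simp [hg])),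
        fun i j => by rw [hg]; fin_cases i <;> fin_cases j <;> simp⟩
      rw [← QuotientGroup.mk_pow]
      refine (QuotientGroup.eq_one_iff _).2 (Matrix.SpecialLinearGroup.mem_center_iff.2 ⟨-1, by simp, ?_⟩)
      rw [Matrix.SpecialLinearGroup.coe_pow, hg, pow_two]
      ext i j
      fin_cases i <;> fin_cases j <;> simp
  have hgR : (innd (toGL g) : Aut2) ∈ R := by rw [← conj_mk]; exact hR _
  have hgo' : orderOf (innd (toGL g) : Aut2) = c := by
    rw [← conj_mk, orderOf_injective _ conj_psl_injective, hgo]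
  have hcomm : Commute (fld σ : Aut2) (innd (toGL g)) := by
    show (fld σ : Aut2) * innd (toGL g) = innd (toGL g) * fld σ
    rw [fld_mul_innd', show sm σ (toGL g) = toGL g from Units.ext (Matrix.ext hgσ)]
  by_cases hℓc : ℓ = c
  · -- a further order among the inner elements
    obtain ⟨e, he, hep, a, ha, hao⟩ : ∃ e, ℓ ∣ e ∧ (e ≠ ℓ ∧ e ≠ ℓ * p) ∧ ∃ a : Aut2, a ∈ R ∧ orderOf a = e := by
      rcases hcase with ⟨rfl, rfl⟩ | ⟨hp2, rfl⟩
      · subst hℓc
        obtain ⟨j, rfl⟩ : 3 ∣ f := hℓf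
        have h9 : 2 ^ (3 * j) % 9 = 1 ∨ 2 ^ (3 * j) % 9 = 8 := by
          clear hF hf hℓz
          induction j with
          | zero => simp
          | succ j ih => rw [mul_add, pow_add]; omega
        have hg1 : Nat.gcd 2 (Fintype.card F - 1) = 1 := Nat.coprime_two_left.2 (Nat.odd_iff.2 (by
          rw [hF]
          obtain ⟨i, hi⟩ : ∃ i, 3 * j = i + 1 := ⟨3 * j - 1, by omega⟩
          rw [hi, pow_succ]
          have := Nat.two_pow_pos i
          omega))
        refine ⟨9, by omega, ⟨by omega, by omega⟩, exists_inner_order hR h4 ?_⟩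
        rw [hg1, Nat.div_one, Nat.div_one, hF]
        omega
      · subst hℓc
        refine ⟨4, by norm_num, ⟨by norm_num, fun e => ?_⟩, exists_inner_order hR h4 ?_⟩
        · have := hp.two_le; omega
        · obtain ⟨j, rfl⟩ := hℓf
          have ho : p % 2 = 1 := by rcases hp.eq_two_or_odd with h | h <;> omega
          have h8 : p ^ (2 * j) % 8 = 1 := by
            have h1 : p ^ j % 2 = 1 := by rw [Nat.pow_mod, ho, one_pow, Nat.one_mod]
            rw [mul_comm, pow_mul, Nat.pow_mod]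
            rcases (by omega : p ^ j % 8 = 1 ∨ p ^ j % 8 = 3 ∨ p ^ j % 8 = 5 ∨ p ^ j % 8 = 7) with h | h | h | h <;>
              rw [h] <;> norm_num
          rw [Nat.gcd_eq_left (by omega), hF]
          omega
    exact false_of_three_aut hT hℓ hmem hzR ha hfo hzo hao hℓp (Ne.symm hep.2) (Ne.symm hep.1)
      dvd_rfl (dvd_mul_right ℓ p) he
  · have hgz : orderOf ((fld σ : Aut2) * innd (toGL g)) = ℓ * c := by
      rw [hcomm.orderOf_mul_eq_mul_orderOf_of_coprime (by rw [hfo, hgo']; exact (Nat.coprime_primes hℓ hc).2 hℓc),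
        hfo, hgo']
    exact false_of_three_aut hT hℓ hmem hzR (mul_mem hmem hgR) hfo hzo hgz hℓp
      (fun e => hcp (Nat.eq_of_mul_eq_mul_left hℓ.pos e).symm)
      (fun e => by have := lt_mul_of_one_lt_right hℓ.pos hc.one_lt; omega)
      dvd_rfl (dvd_mul_right ℓ p) (dvd_mul_right ℓ c)

include hT hR h4 in
theorem all_inner {β : Aut2} (hβ : β ∈ R) : ∃ x : PSL2, β = MulAut.conj x := by
  classical
  obtain ⟨p, hpp, -, f, hf, hF⟩ := Cfsg.Lib.Dickson.exists_char (F := F)
  haveI := Fact.mk hpp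
  obtain ⟨A, σ, rfl⟩ := GW.PGL.exists_decomp_two β
  by_cases hσ : σ = 1
  · subst hσ
    rw [map_one, mul_one] at hβ ⊢
    exact inner_of_square (isSquare_det hT hR h4 hβ)
  exfalso
  obtain ⟨ℓ, hℓ, hℓd⟩ := Nat.exists_prime_and_dvd (n := orderOf σ) fun e => hσ (orderOf_eq_one_iff.1 e)
  have hfin : IsOfFinOrder σ := by
    haveI : Finite (F ≃+* F) := Finite.of_injective (fun τ : F ≃+* F => (τ : F → F)) DFunLike.coe_injective
    exact isOfFinOrder_of_finite σ
  set k := orderOf σ / ℓ
  have hτ : orderOf (σ ^ k) = ℓ := orderOf_pow_orderOf_div hfin.orderOf_pos.ne' hℓd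
  have hβk := pow_mem hβ k
  rw [innd_fld_pow] at hβk
  generalize tw σ A k = B at hβk
  generalize σ ^ k = τ at hβk hτ
  by_cases hB : IsSquare (Matrix.GeneralLinearGroup.det B)
  · exact false_of_fld hT hR h4 hf hF hℓ hτ (by
      have := mul_mem (inv_mem (mem_of_square hR hB)) hβk
      rwa [inv_mul_cancel_left] at this)
  have hpw := pow_mem hβk ℓ
  rw [innd_fld_pow, ← hτ, pow_orderOf_eq_one, map_one, mul_one] at hpw
  have hev := (isSquare_det_tw τ hB (orderOf τ)).1 (isSquare_det hT hR h4 hpw)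
  rw [hτ] at hev
  have hℓ2 : ℓ = 2 := (hℓ.even_iff).1 hev
  subst hℓ2
  have hp2 : p % 2 = 1 := by
    rcases hpp.eq_two_or_odd with h | h
    · subst h
      exfalso
      obtain ⟨g, hgo, hg⟩ := exists_gen (F := F)
      obtain ⟨i, hi⟩ := hg (Matrix.GeneralLinearGroup.det B)
      refine hB ?_
      rw [← hi]
      rcases Nat.even_or_odd i with he' | ho'
      · exact he'.isSquare_pow g
      · rw [show g ^ i = g ^ (i + orderOf g) by rw [pow_add, pow_orderOf_eq_one, mul_one]]
        refine (ho'.add_odd ?_).isSquare_pow g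
        rw [hgo, hF, Nat.odd_iff]
        obtain ⟨j, rfl⟩ : ∃ j, f = j + 1 := ⟨f - 1, by omega⟩
        rw [pow_succ]
        have := Nat.two_pow_pos j
        omega
    · exact h
  obtain ⟨j, hj⟩ : 2 ∣ f := hτ ▸ orderOf_dvd_exp hf hF τ
  have h8 : Fintype.card F % 8 = 1 := by
    have h1 : p ^ j % 2 = 1 := by rw [Nat.pow_mod, hp2, one_pow, Nat.one_mod]
    rw [hF, hj, mul_comm, pow_mul, Nat.pow_mod]
    rcases (by omega : p ^ j % 8 = 1 ∨ p ^ j % 8 = 3 ∨ p ^ j % 8 = 5 ∨ p ^ j % 8 = 7) with h | h | h | h <;>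
      rw [h] <;> norm_num
  obtain ⟨g, hgo, hg⟩ := exists_gen (F := F)
  have hgns := gen_not_square (by omega) hgo
  have hm1 : IsSquare (-1 : Fˣ) := by
    refine ⟨g ^ ((Fintype.card F - 1) / 4), ?_⟩
    have h1 : ((g ^ ((Fintype.card F - 1) / 2) : Fˣ) : F) ^ 2 = 1 := by
      rw [← Units.val_pow_eq_pow_val, ← pow_mul, Nat.div_mul_cancel (by omega), ← hgo, pow_orderOf_eq_one,
        Units.val_one]
    have h2 : (g ^ ((Fintype.card F - 1) / 2) : Fˣ) ≠ 1 := fun e => by
      have := Nat.le_of_dvd (by omega) (orderOf_dvd_of_pow_eq_one e)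
      omega
    rw [← pow_add, show (Fintype.card F - 1) / 4 + (Fintype.card F - 1) / 4 = (Fintype.card F - 1) / 2 by omega]
    rcases sq_eq_one_iff.1 h1 with e | e
    · exact absurd (Units.ext (e.trans Units.val_one.symm)) h2
    · exact Units.ext (by rw [e]; rfl)
  set A₀ : GL (Fin 2) F := Matrix.GeneralLinearGroup.mk'' !![0, (g : F); 1, 0] (by simp [Matrix.det_fin_two])
    with hA₀
  have hdet : ¬ IsSquare (Matrix.GeneralLinearGroup.det A₀) := by
    have e : Matrix.GeneralLinearGroup.det A₀ = -1 * g := Units.ext (by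
      show Matrix.det (!![0, (g : F); 1, 0]) = _
      simp [Matrix.det_fin_two])
    rw [e]
    intro h
    exact hgns (by simpa using hm1.inv.mul h)
  set y : Aut2 := innd A₀ * fld τ with hy
  have hyR : y ∈ R := by
    have := mul_mem (mem_of_square hR (A := A₀ * B⁻¹) (by
      rw [map_mul, map_inv]; exact isSquare_mul_of_not hdet fun h => hB (by simpa using h.inv))) hβk
    rwa [map_mul, map_inv, mul_assoc, inv_mul_cancel_left] at this
  have hy2 : y ^ 2 = innd (A₀ * sm τ A₀) := by
    rw [hy, innd_fld_pow, show τ ^ 2 = 1 by rw [← hτ, pow_orderOf_eq_one], map_one, mul_one]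
    simp [tw]
  set u : ℕ := orderOf (y ^ 2)
  have hval : ∀ n : ℕ, ((A₀ * sm τ A₀) ^ n).val = !![(g : F) ^ n, 0; 0, (τ (g : F)) ^ n] := by
    intro n
    induction n with
    | zero => simp [Matrix.one_fin_two]
    | succ n ih =>
      rw [pow_succ, Units.val_mul, ih, Units.val_mul]
      show _ * ((!![0, (g : F); 1, 0] : Matrix (Fin 2) (Fin 2) F) *
        (!![0, (g : F); 1, 0] : Matrix (Fin 2) (Fin 2) F).map τ) = _
      ext i j
      fin_cases i <;> fin_cases j <;>
        simp [Matrix.mul_apply, Matrix.vecMul, dotProduct, Fin.sum_univ_two, pow_succ]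
  have hu : ∀ n : ℕ, n = 1 ∨ n = 2 → (y ^ 2) ^ n ≠ 1 := by
    intro n hn e
    rw [hy2, ← map_pow, innd_eq_one_iff le_rfl] at e
    obtain ⟨c, hc⟩ := e
    have h1 := congrArg Units.val hc
    rw [hval, sc_val] at h1
    have e0 := congrFun (congrFun h1 0) 0
    have e1 := congrFun (congrFun h1 1) 1
    simp at e0 e1
    have hfix : (g : F) ^ 2 = τ ((g : F) ^ 2) := by
      rw [map_pow]
      rcases hn with rfl | rfl
      · rw [pow_one] at e0 e1; rw [e1, e0]
      · rw [e0, e1]
    have hsqfix : ∀ x : F, τ (x ^ 2) = x ^ 2 := fun x => by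
      rcases eq_or_ne x 0 with rfl | hx
      · simp
      obtain ⟨i, hi⟩ := hg (Units.mk0 x hx)
      have hx' : x = (g : F) ^ i := by rw [← Units.val_pow_eq_pow_val, hi, Units.val_mk0]
      rw [hx', ← pow_mul, mul_comm, pow_mul, map_pow, ← hfix]
    have h20 : (2 : F) ≠ 0 := Ring.two_ne_zero (by
      haveI := charP_of_card hf hF
      rw [ringChar.eq F p]
      omega)
    have hτ1 : τ = 1 := RingEquiv.ext fun x => by
      have hx : x = ((x + 1) / 2) ^ 2 - ((x - 1) / 2) ^ 2 := by field_simp; ring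
      show τ x = x
      rw [hx, map_sub, hsqfix, hsqfix]
    rw [hτ1, orderOf_one] at hτ
    omega
  have hu3 : 3 ≤ u := by
    by_contra hlt
    haveI : Finite Aut2 := inferInstance
    have hpos : 0 < u := orderOf_pos _
    exact hu u (by omega) (pow_orderOf_eq_one _)
  have h2y : 2 ∣ orderOf y := hτ.symm.dvd.trans (dvd_of_innd_fld_pow (pow_orderOf_eq_one y))
  have hyo : orderOf y = 2 * u := by
    show orderOf y = 2 * orderOf (y ^ 2)
    rw [orderOf_pow_of_dvd two_ne_zero h2y, Nat.mul_div_cancel' h2y]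
  obtain ⟨a, ha, hao⟩ := exists_inner_order hR h4 (k := 2) (Or.inl (by rw [Nat.gcd_eq_left (by omega)]; omega))
  obtain ⟨b, hb, hbo⟩ := exists_inner_order hR h4 (k := 4) (Or.inl (by rw [Nat.gcd_eq_left (by omega)]; omega))
  exact false_of_three_aut hT Nat.prime_two ha hb hyR hao hbo hyo (by norm_num) (by omega) (by omega)
    dvd_rfl (by norm_num) (dvd_mul_right 2 u)

end

/-- An almost simple group over `PSL(2, q)` with the property is `PSL(2, q)`. -/
theorem top_of_psl {G : Type u} [Group G] [Finite G] (h : TwoOrders G) (N : Subgroup G) [N.Normal]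
    (hC : centralizer (N : Set G) = ⊥) (h4 : 4 ≤ Fintype.card F) (e : N ≃* PSL2) : N = ⊤ := by
  set φ := GW.PGL.autHom e
  have hinj := GW.PGL.autHom_injective e hC
  have hT : TwoOrders ↥φ.range := h.of_injective (MonoidHom.ofInjective hinj).symm.toMonoidHom
    (MonoidHom.ofInjective hinj).symm.injective
  have hR : ∀ x : PSL2, MulAut.conj x ∈ φ.range := fun x =>
    ⟨(e.symm x : N), by rw [GW.PGL.autHom_mem e (e.symm x).2]; simp⟩
  refine (Subgroup.eq_top_iff' N).2 fun g => ?_
  obtain ⟨x, hx⟩ := all_inner hT hR h4 (β := φ g) ⟨g, rfl⟩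
  have : g = ((e.symm x : N) : G) := hinj (by rw [hx, GW.PGL.autHom_mem e (e.symm x).2]; simp)
  rw [this]
  exact (e.symm x).2

end Cfsg.Lib.CompOrd
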