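import Cfsg.Agent.Lib.CompositeOrder.Automizer
import Cfsg.Agent.Lib.Core.Fitting
import Cfsg.Agent.Lib.Local.CNSolvable
import Cfsg.Agent.Lib.Coprime.Action

/-!
An automizer that is not an `r`-group but has order divisible by `r` is a cyclic group, regular on the
involutions of the Sylow 2-subgroup, extended by a group of order `r`; the centralizer of the Sylow
2-subgroup is then the subgroup itself.
-/

set_option autoImplicit false
set_option linter.style.haveILetI false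

namespace Cfsg.Lib.CompOrd

open Subgroup
open Cfsg.Lib

universe u

variable {G : Type u} [Group G] [Finite G] {r : ℕ}

/-- A regular cyclic subgroup of index `r` in the automizer. -/
structure RegularAuto (r : ℕ) (S : Sylow 2 G) (F : Subgroup (MulAut ↥(S : Subgroup G))) : Prop where
  le : F ≤ auto S
  cyclic : IsCyclic F
  conj : ∀ k ∈ auto S, ∀ f ∈ F, k * f * k⁻¹ ∈ F
  card_auto : Nat.card (auto S) = Nat.card F * r
  not_dvd : ¬ r ∣ Nat.card F
  card_eq : Nat.card F + 1 = Nat.card (S : Subgroup G)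
  regular : ∀ v w : ↥(S : Subgroup G), v ≠ 1 → w ≠ 1 → ∃ f ∈ F, f v = w
  fpf : ∀ f ∈ F, f ≠ 1 → ∀ v : ↥(S : Subgroup G), f v = v → v = 1
  mem_of_coprime : ∀ k ∈ auto S, (orderOf k).Coprime r → k ∈ F
  exists_fixed : ∀ y ∈ auto S, y ≠ 1 → y ^ r = 1 → ∃ v : ↥(S : Subgroup G), v ≠ 1 ∧ y v = v
  fixed_unique : ∀ y ∈ auto S, y ≠ 1 → y ^ r = 1 → ∀ v w : ↥(S : Subgroup G), v ≠ 1 → w ≠ 1 →
    y v = v → y w = w → v = w

namespace Hyp

variable (h : Hyp G r) {S : Sylow 2 G}
include h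

theorem auto_card_coprime_sylow {A : Subgroup (MulAut ↥(S : Subgroup G))} (hA : A ≤ auto S) :
    (Nat.card A).Coprime (Nat.card ↥(S : Subgroup G)) := by
  haveI : Fact (Nat.Prime 2) := ⟨Nat.prime_two⟩
  obtain ⟨n, hn⟩ := IsPGroup.iff_card.1 S.2
  rw [hn]
  exact Nat.Coprime.pow_right n (Nat.coprime_two_right.2 (h.odd_auto.of_dvd_nat (card_dvd_of_le hA)))

/-- A nontrivial abelian group normalized without fixed points by an element of prime order gives that
element a fixed point. -/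
theorem exists_fixed_of_abelian (hS : 8 ≤ Nat.card (S : Subgroup G))
    {A : Subgroup (MulAut ↥(S : Subgroup G))} (hA : A ≤ auto S) (hA1 : A ≠ ⊥)
    {y : MulAut ↥(S : Subgroup G)} {s : ℕ} (hs : s.Prime) (hy : y ^ s = 1)
    (hyA : ∀ a ∈ A, y * a * y⁻¹ ∈ A) (hfpf : ∀ a ∈ A, Commute a y → a = 1) :
    ∃ v : ↥(S : Subgroup G), v ≠ 1 ∧ y v = v := by
  classical
  haveI := h.sylow_comm S
  letI : CommGroup ↥(S : Subgroup G) :=
    { (inferInstance : Group ↥(S : Subgroup G)) with mul_comm := mul_comm' }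
  by_contra hno
  push Not at hno
  have hnorm : ∀ v : ↥(S : Subgroup G),
      ∏ i ∈ Finset.range s, (MonoidHom.id (MulAut ↥(S : Subgroup G))) (y ^ i) v = 1 := by
    intro v
    by_contra hne
    refine hno _ hne ?_
    rw [map_prod]
    simp only [MonoidHom.id_apply]
    have h1 := Finset.prod_range_succ' (fun i => (y ^ i) v) s
    have h2 := Finset.prod_range_succ (fun i => (y ^ i) v) s
    rw [h1, hy, pow_zero, MulAut.one_apply] at h2
    refine Eq.trans (Finset.prod_congr rfl fun i _ => ?_) (mul_right_cancel h2)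
    rw [← MulAut.mul_apply, ← pow_succ']
  obtain ⟨a, ha, ha1⟩ := (bot_or_exists_ne_one A).resolve_left hA1
  exact ha1 (MulEquiv.ext fun v => fix_of_norm_eq_one (MonoidHom.id (MulAut ↥(S : Subgroup G))) A
    (h.auto_card_coprime_sylow hA) hs hy hyA hfpf hnorm ha v)

/-- The automizer is an `r`-group as soon as it has a nontrivial normal `r`-subgroup. -/
theorem auto_isPGroup_of_pCore (hS : 8 ≤ Nat.card (S : Subgroup G))
    (hO : Cfsg.pCore r ↥(auto S) ≠ ⊥) : IsPGroup r (auto S) := by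
  haveI := Fact.mk h.prime
  refine IsPGroup.of_card (n := (Nat.card (auto S)).primeFactorsList.length)
    (Nat.eq_prime_pow_of_unique_prime_dvd Nat.card_pos.ne' fun {s} hs hsd => ?_)
  by_contra hsr
  haveI := Fact.mk hs
  obtain ⟨⟨y, hy⟩, hyo⟩ := exists_prime_orderOf_dvd_card' (G := ↥(auto S)) s hsd
  rw [Subgroup.orderOf_mk] at hyo
  set O := Cfsg.pCore r ↥(auto S)
  haveI : Nontrivial O := (nontrivial_iff_ne_bot O).2 hO
  haveI := (Core.pCore_isPGroup r ↥(auto S)).center_nontrivial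
  set Z := (center O).map O.subtype
  haveI : Z.Normal := ConjAct.normal_of_characteristic_of_normal
  set A := Z.map (auto S).subtype
  have hA : A ≤ auto S := map_subtype_le _
  have hA1 : A ≠ ⊥ := by
    rw [Ne, map_eq_bot_iff_of_injective _ (auto S).subtype_injective,
      map_eq_bot_iff_of_injective _ O.subtype_injective]
    exact (nontrivial_iff_ne_bot _).1 inferInstance
  have hyA : ∀ a ∈ A, y * a * y⁻¹ ∈ A := by
    rintro _ ⟨a, ha, rfl⟩
    exact ⟨⟨y, hy⟩ * a * (⟨y, hy⟩ : ↥(auto S))⁻¹, Subgroup.Normal.conj_mem inferInstance a ha _, rfl⟩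
  have hys : y ^ s = 1 := hyo ▸ pow_orderOf_eq_one y
  have hfpf : ∀ a ∈ A, Commute a y → a = 1 := by
    rintro _ ⟨a, ha, rfl⟩ hc
    by_contra ha1
    obtain ⟨o, -, hoa⟩ := ha
    obtain ⟨k, hk⟩ := Core.pCore_isPGroup r ↥(auto S) o
    have hk' : (a : MulAut ↥(S : Subgroup G)) ^ r ^ k = 1 := by
      rw [← hoa]
      exact congrArg (fun z : ↥O => ((z : ↥(auto S)) : MulAut ↥(S : Subgroup G))) hk
    obtain ⟨i, -, hi⟩ := (Nat.dvd_prime_pow h.prime).1 (orderOf_dvd_of_pow_eq_one hk')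
    rcases i with _ | i
    · exact ha1 (orderOf_eq_one_iff.1 (hi.trans (pow_zero r)))
    have har := h.auto_r a.2 (hi ▸ dvd_pow_self r i.succ_ne_zero)
    have h1 := orderOf_dvd_of_pow_eq_one (h.auto_commute a.2 hy ha1 har hc)
    rw [hyo] at h1
    exact hsr ((Nat.prime_dvd_prime_iff_eq hs h.prime).1 h1)
  obtain ⟨v, hv, hyv⟩ := h.exists_fixed_of_abelian hS hA hA1 hs hys hyA hfpf
  have h1 := orderOf_dvd_of_pow_eq_one (h.auto_fixed hy hv hyv)
  rw [hyo] at h1
  exact hsr ((Nat.prime_dvd_prime_iff_eq hs h.prime).1 h1)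

variable [IsSimpleGroup G]

/-- The structure of an automizer of order divisible by `r` without a normal `r`-subgroup. -/
theorem exists_regularAuto (hS : 8 ≤ Nat.card (S : Subgroup G)) (hr : r ∣ Nat.card (auto S))
    (hO : Cfsg.pCore r ↥(auto S) = ⊥) :
    ∃ F : Subgroup (MulAut ↥(S : Subgroup G)), RegularAuto r S F := by
  classical
  haveI : Fact (Nat.Prime 2) := ⟨Nat.prime_two⟩
  haveI := Fact.mk h.prime
  haveI := h.sylow_comm S
  letI : CommGroup ↥(S : Subgroup G) :=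
    { (inferInstance : Group ↥(S : Subgroup G)) with mul_comm := mul_comm' }
  haveI : Nontrivial ↥(S : Subgroup G) := (nontrivial_iff_ne_bot _).2 (sylow_ne_bot hS)
  set K := auto S
  set F₀ := Cfsg.fittingSubgroup ↥K
  haveI : F₀.Normal := Core.fittingSubgroup_normal' ↥K
  haveI hFn : Group.IsNilpotent ↥F₀ := Core.fittingSubgroup_isNilpotent ↥K
  haveI : Group.IsSolvable ↥K := h.auto_solvable
  haveI : Nontrivial ↥K := by
    rw [nontrivial_iff_ne_bot]
    intro e
    rw [e, Subgroup.card_bot, Nat.dvd_one] at hr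
    exact h.prime.ne_one hr
  have hF₀r : ¬ r ∣ Nat.card ↥F₀ := by
    intro hd
    obtain ⟨P⟩ : Nonempty (Sylow r ↥F₀) := inferInstance
    haveI : (P : Subgroup ↥F₀).Normal :=
      ((Group.isNilpotent_of_finite_tfae (G := ↥F₀)).out 0 3 rfl rfl).mp hFn r inferInstance P
    haveI : (P : Subgroup ↥F₀).Characteristic := P.characteristic_of_normal ‹_›
    have h1 := Core.le_pCore' (Core.normal_map_char_of_normal (N := F₀) (P : Subgroup ↥F₀))
      (P.2.map F₀.subtype)
    rw [hO, le_bot_iff, map_eq_bot_iff_of_injective _ F₀.subtype_injective] at h1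
    exact P.ne_bot_of_dvd_card hd h1
  set F := F₀.map K.subtype with hF
  have hFK : F ≤ K := map_subtype_le _
  have hFcard : Nat.card F = Nat.card ↥F₀ := Core.card_map_subtype F₀
  have hFr : ∀ f ∈ F, f ^ r = 1 → f = 1 := fun f hf hfr => by
    refine orderOf_eq_one_iff.1 (Nat.eq_one_of_dvd_coprimes ?_ (orderOf_dvd_of_pow_eq_one hfr)
      (F.orderOf_dvd_natCard hf))
    rw [hFcard]
    exact h.prime.coprime_iff_not_dvd.2 hF₀r
  have hfpf : ∀ f ∈ F, f ≠ 1 → ∀ v : ↥(S : Subgroup G), f v = v → v = 1 := by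
    intro f hf hf1 v hfv
    by_contra hv
    exact hf1 (hFr f hf (h.auto_fixed (hFK hf) hv hfv))
  haveI : IsCyclic ↥F₀ := by
    refine Local.CN.isCyclic_of_odd (fun A hA => ?_) hFn (h.odd_auto.of_dvd_nat (card_subgroup_dvd_card _))
    set B := (A.map F₀.subtype).map K.subtype
    haveI : IsMulCommutative B := inferInstance
    haveI hB : IsCyclic B := isCyclic_of_fpf_mulAut
      (fun v => by rw [← pow_two]; exact Subtype.ext (h.sylow_sq S v.2))
      (fun a ha => hfpf a ((map_mono (map_subtype_le A)) ha))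
    exact ((A.equivMapOfInjective _ F₀.subtype_injective).trans
      ((A.map F₀.subtype).equivMapOfInjective _ K.subtype_injective)).isCyclic.mpr hB
  have hFcyc : IsCyclic F := (F₀.equivMapOfInjective _ K.subtype_injective).isCyclic.mp inferInstance
  have hCF : centralizer (F₀ : Set ↥K) ≤ F₀ := Core.centralizer_fitting_le_of_isSolvable
  obtain ⟨y₀, hy₀⟩ := exists_prime_orderOf_dvd_card' (G := ↥K) r hr
  -- the quotient by the cyclic normal subgroup is an `r`-group
  let π := QuotientGroup.mk' F₀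
  have hcomm : ∀ a b : ↥K, a * b * a⁻¹ * b⁻¹ ∈ F₀ := by
    intro a b
    refine hCF (mem_centralizer_iff.2 fun f hf => ?_)
    obtain ⟨g, hg⟩ := IsCyclic.exists_generator (α := ↥F₀)
    have hact : ∀ k : ↥K, ∃ m : ℤ, ∀ x ∈ F₀, k * x * k⁻¹ = x ^ m := by
      intro k
      obtain ⟨m, hm⟩ := mem_zpowers_iff.1
        (hg ⟨k * g * k⁻¹, Subgroup.Normal.conj_mem inferInstance _ g.2 k⟩)
      refine ⟨m, fun x hx => ?_⟩
      obtain ⟨i, hi⟩ := mem_zpowers_iff.1 (hg ⟨x, hx⟩)
      have hi' : (g : ↥K) ^ i = x := congrArg Subtype.val hi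
      have hm' : (g : ↥K) ^ m = k * g * k⁻¹ := congrArg Subtype.val hm
      rw [← hi', ← conj_zpow, ← hm', ← zpow_mul, ← zpow_mul, mul_comm]
    obtain ⟨m, hm⟩ := hact a
    obtain ⟨l, hl⟩ := hact b
    have h3 : a * b * a⁻¹ * b⁻¹ * f * (a * b * a⁻¹ * b⁻¹)⁻¹ = f := by
      have e2 : ∀ x ∈ F₀, a * b * x * (a * b)⁻¹ = b * a * x * (b * a)⁻¹ := by
        intro x hx
        have h1 : a * b * x * (a * b)⁻¹ = a * (b * x * b⁻¹) * a⁻¹ := by group
        have h2 : b * a * x * (b * a)⁻¹ = b * (a * x * a⁻¹) * b⁻¹ := by group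
        rw [h1, h2, hl x hx, hm x hx, hl _ (zpow_mem hx m), hm _ (zpow_mem hx l), ← zpow_mul, ← zpow_mul,
          mul_comm]
      have hx : (b * a)⁻¹ * f * (b * a) ∈ F₀ := by
        have := Subgroup.Normal.conj_mem (inferInstance : F₀.Normal) f hf (b * a)⁻¹
        rwa [inv_inv] at this
      calc a * b * a⁻¹ * b⁻¹ * f * (a * b * a⁻¹ * b⁻¹)⁻¹
          = a * b * ((b * a)⁻¹ * f * (b * a)) * (a * b)⁻¹ := by group
        _ = b * a * ((b * a)⁻¹ * f * (b * a)) * (b * a)⁻¹ := e2 _ hx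
        _ = f := by group
    exact (mul_inv_eq_iff_eq_mul.1 h3).symm
  have hy₀F : y₀ ∉ F₀ := fun hm => by
    have := F₀.orderOf_dvd_natCard hm
    rw [hy₀] at this
    exact hF₀r this
  have hQ : IsPGroup r (↥K ⧸ F₀) := by
    refine IsPGroup.of_card (n := (Nat.card (↥K ⧸ F₀)).primeFactorsList.length)
      (Nat.eq_prime_pow_of_unique_prime_dvd Nat.card_pos.ne' fun {s} hs hsd => ?_)
    by_contra hsr
    haveI := Fact.mk hs
    obtain ⟨q, hq⟩ := exists_prime_orderOf_dvd_card' (G := ↥K ⧸ F₀) s hsd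
    have hyo : orderOf (π y₀) = r := by
      refine orderOf_eq_prime (by rw [← map_pow, ← hy₀, pow_orderOf_eq_one, map_one]) ?_
      exact fun e => hy₀F ((QuotientGroup.eq_one_iff y₀).1 e)
    have hc : Commute (π y₀) q := by
      obtain ⟨x, rfl⟩ := QuotientGroup.mk'_surjective F₀ q
      have h1 : π (y₀ * x * y₀⁻¹ * x⁻¹) = 1 := (QuotientGroup.eq_one_iff _).2 (hcomm y₀ x)
      rw [map_mul, map_mul, map_mul, map_inv, map_inv, mul_inv_eq_one, mul_inv_eq_iff_eq_mul] at h1
      exact h1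
    have ho := hc.orderOf_mul_eq_mul_orderOf_of_coprime (by
      rw [hyo, hq]; exact (Nat.coprime_primes h.prime hs).2 fun e => hsr e.symm)
    rw [hyo, hq] at ho
    obtain ⟨w, hw⟩ := QuotientGroup.mk'_surjective F₀ (π y₀ * q)
    have hd : r * s ∣ orderOf (w : MulAut ↥(S : Subgroup G)) := by
      rw [← ho, orderOf_coe, ← hw]; exact orderOf_map_dvd _ w
    have h1 := orderOf_dvd_of_pow_eq_one (h.auto_r w.2 ((dvd_mul_right r s).trans hd))
    exact hsr ((Nat.prime_dvd_prime_iff_eq hs h.prime).1 ((dvd_mul_left s r).trans (hd.trans h1)))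
  -- a Sylow `r`-subgroup has order `r`
  obtain ⟨a, ha⟩ := IsPGroup.iff_card.1 hQ
  obtain ⟨R⟩ : Nonempty (Sylow r ↥K) := inferInstance
  have hRF : ∀ x ∈ (R : Subgroup ↥K), x ∈ F₀ → x = 1 := fun x hx hxF => by
    obtain ⟨k, hk⟩ := R.2 ⟨x, hx⟩
    refine orderOf_eq_one_iff.1 (Nat.eq_one_of_dvd_coprimes ?_
      (orderOf_dvd_of_pow_eq_one (congrArg Subtype.val hk)) (F₀.orderOf_dvd_natCard hxF))
    exact Nat.Coprime.pow_left k (h.prime.coprime_iff_not_dvd.2 hF₀r)
  have hF₀card : Nat.card ↥F₀ ≠ 1 := fun e => by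
    have hbot : F₀ = ⊥ := (eq_bot_iff_card _).2 e
    have : y₀ ∈ centralizer (F₀ : Set ↥K) := mem_centralizer_iff.2 fun x hx => by
      rw [hbot, SetLike.mem_coe, mem_bot] at hx
      rw [hx, one_mul, mul_one]
    exact hy₀F (hCF this)
  obtain ⟨s, hs, hsd⟩ := Nat.exists_prime_and_dvd hF₀card
  haveI := Fact.mk hs
  obtain ⟨f₀, hf₀⟩ := exists_prime_orderOf_dvd_card' (G := ↥F₀) s hsd
  set Fs := (zpowers f₀).map F₀.subtype
  haveI : Fs.Normal := by
    haveI : (zpowers f₀).Characteristic := by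
      rw [characteristic_iff_map_eq]
      intro φ
      letI : CommGroup ↥F₀ := IsCyclic.commGroup
      have hle : ∀ H : Subgroup ↥F₀, Nat.card H = s → H = (powMonoidHom s : ↥F₀ →* ↥F₀).ker := by
        intro H hH
        refine Subgroup.eq_of_le_of_card_ge (fun x hx => ?_) ?_
        · rw [MonoidHom.mem_ker, powMonoidHom_apply]
          exact orderOf_dvd_iff_pow_eq_one.1 (hH ▸ H.orderOf_dvd_natCard hx)
        · rw [IsCyclic.card_powMonoidHom_ker, hH]
          exact Nat.le_of_dvd hs.pos (Nat.gcd_dvd_right _ _)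
      exact (hle _ (by rw [Subgroup.card_map_of_injective φ.injective, Nat.card_zpowers, hf₀])).trans
        (hle _ (by rw [Nat.card_zpowers, hf₀])).symm
    exact ConjAct.normal_of_characteristic_of_normal
  let ψ : ↥(R : Subgroup ↥K) →* MulAut ↥Fs := (MulAut.conjNormal).comp (R : Subgroup ↥K).subtype
  have hψ : Function.Injective ψ := by
    refine (injective_iff_map_eq_one ψ).2 fun x hx => ?_
    by_contra hx1
    have hf : (f₀ : ↥K) ∈ Fs := ⟨f₀, mem_zpowers f₀, rfl⟩
    have h1 : (x : ↥K) * (f₀ : ↥K) * (x : ↥K)⁻¹ = f₀ :=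
      congrArg Subtype.val (DFunLike.congr_fun hx (⟨_, hf⟩ : ↥Fs))
    rw [mul_inv_eq_iff_eq_mul] at h1
    have hx1' : ((x : ↥K) : MulAut ↥(S : Subgroup G)) ≠ 1 := fun e => hx1 (Subtype.ext (Subtype.ext e))
    obtain ⟨k, hk⟩ := R.2 x
    obtain ⟨i, -, hi⟩ := (Nat.dvd_prime_pow h.prime).1 (orderOf_dvd_of_pow_eq_one
      (show ((x : ↥K) : MulAut ↥(S : Subgroup G)) ^ r ^ k = 1 from
        congrArg (fun z : ↥(R : Subgroup ↥K) => ((z : ↥K) : MulAut ↥(S : Subgroup G))) hk))
    rcases i with _ | i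
    · exact hx1' (orderOf_eq_one_iff.1 (hi.trans (pow_zero r)))
    have h2 := h.auto_commute (x : ↥K).2 (f₀ : ↥K).2 hx1'
      (h.auto_r (x : ↥K).2 (hi ▸ dvd_pow_self r i.succ_ne_zero))
      (congrArg Subtype.val h1)
    have h3 := orderOf_dvd_of_pow_eq_one h2
    rw [orderOf_coe, orderOf_coe, hf₀] at h3
    exact hF₀r ((Nat.prime_dvd_prime_iff_eq hs h.prime).1 h3 ▸ hsd)
  haveI : IsCyclic ↥Fs := ((zpowers f₀).equivMapOfInjective _ F₀.subtype_injective).isCyclic.mp inferInstance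
  have hFsc : Nat.card ↥Fs = s := by rw [Core.card_map_subtype, Nat.card_zpowers, hf₀]
  haveI : IsCyclic (MulAut ↥Fs) := by
    haveI : IsCyclic (ZMod (Nat.card ↥Fs))ˣ := by rw [hFsc]; infer_instance
    exact isCyclic_of_surjective (IsCyclic.mulAutMulEquiv ↥Fs).symm (IsCyclic.mulAutMulEquiv ↥Fs).symm.surjective
  haveI : IsCyclic ↥(R : Subgroup ↥K) := isCyclic_of_injective ψ hψ
  have hR1 : Nat.card ↥(R : Subgroup ↥K) ∣ r := by
    obtain ⟨g, hg⟩ := IsCyclic.exists_ofOrder_eq_natCard (α := ↥(R : Subgroup ↥K))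
    rw [← hg]
    obtain ⟨k, hk⟩ := R.2 g
    obtain ⟨i, -, hi⟩ := (Nat.dvd_prime_pow h.prime).1 (orderOf_dvd_of_pow_eq_one hk)
    rcases i with _ | i
    · rw [hi, pow_zero]; exact one_dvd r
    have hd : r ∣ orderOf ((g : ↥K) : MulAut ↥(S : Subgroup G)) := by
      rw [orderOf_coe, orderOf_coe, hi]; exact dvd_pow_self r i.succ_ne_zero
    have := orderOf_dvd_of_pow_eq_one (h.auto_r (g : ↥K).2 hd)
    rwa [orderOf_coe, orderOf_coe] at this
  have hKcard : Nat.card ↥K = Nat.card ↥F₀ * r := by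
    have h1 : Nat.card ↥K = Nat.card ↥F₀ * r ^ a := by
      rw [← ha, mul_comm]; exact Subgroup.card_eq_card_quotient_mul_card_subgroup F₀
    have h2 := R.card_eq_multiplicity
    rw [h1] at h2 hr
    have ha0 : a ≠ 0 := by
      rintro rfl
      rw [pow_zero, mul_one] at hr
      exact hF₀r hr
    rw [Nat.factorization_mul Nat.card_pos.ne' (pow_ne_zero _ h.prime.ne_zero), Finsupp.add_apply,
      Nat.factorization_eq_zero_of_not_dvd hF₀r, zero_add, h.prime.factorization_pow, Finsupp.single_eq_same] at h2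
    rw [h2] at hR1
    have : a ≤ 1 := by
      by_contra hlt
      have := (Nat.pow_lt_pow_right h.prime.one_lt (show 1 < a by omega))
      rw [pow_one] at this
      have := Nat.le_of_dvd h.prime.pos hR1
      omega
    rw [h1, show a = 1 by omega, pow_one]
  have hconj : ∀ k ∈ K, ∀ f ∈ F, k * f * k⁻¹ ∈ F := by
    rintro k hk _ ⟨f, hf, rfl⟩
    exact ⟨⟨k, hk⟩ * f * (⟨k, hk⟩ : ↥K)⁻¹, Subgroup.Normal.conj_mem inferInstance f hf _, rfl⟩
  have hmem : ∀ k ∈ K, (orderOf k).Coprime r → k ∈ F := by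
    intro k hk hco
    refine ⟨⟨k, hk⟩, ?_, rfl⟩
    refine (QuotientGroup.eq_one_iff _).1 (orderOf_eq_one_iff.1 (Nat.eq_one_of_dvd_coprimes (hco.pow_right 1)
      ((orderOf_map_dvd π ⟨k, hk⟩).trans (by rw [Subgroup.orderOf_mk])) ?_))
    have h1 := orderOf_dvd_natCard (π ⟨k, hk⟩)
    have h2 := Subgroup.card_eq_card_quotient_mul_card_subgroup F₀
    rw [hKcard, mul_comm (Nat.card (↥K ⧸ F₀))] at h2
    rwa [pow_one, Nat.eq_of_mul_eq_mul_left Nat.card_pos h2]
  -- elements of order `r` have fixed points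
  have hexfix : ∀ y ∈ K, y ≠ 1 → y ^ r = 1 → ∃ v : ↥(S : Subgroup G), v ≠ 1 ∧ y v = v := by
    intro y hy hy1 hyr
    haveI := hFcyc
    refine h.exists_fixed_of_abelian hS hFK (fun e => hF₀card ?_) h.prime hyr
      (fun f hf => hconj y hy f hf) (fun f hf hc => hFr f hf (h.auto_commute hy (hFK hf) hy1 hyr hc.symm))
    rw [← hFcard, e, Subgroup.card_bot]
  obtain ⟨v₀, hv₀, hyv₀⟩ := hexfix y₀ y₀.2 (fun e => hy₀F (by
    rw [show y₀ = 1 from Subtype.ext e]; exact one_mem _)) (by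
    rw [← SubgroupClass.coe_pow, ← hy₀, pow_orderOf_eq_one]; rfl)
  -- so the orbit of `F` is everything
  have horb : MulAction.orbit ↥K v₀ = {w : ↥(S : Subgroup G) | w ≠ 1} := by
    ext w
    constructor
    · rintro ⟨k, rfl⟩
      exact fun e => hv₀ ((k : MulAut ↥(S : Subgroup G)).injective (e.trans (map_one _).symm))
    · intro hw
      obtain ⟨k, hk, e⟩ := h.auto_transitive hS hv₀ hw
      exact ⟨⟨k, hk⟩, e⟩
  have hidx : (MulAction.stabilizer ↥K v₀).index = Nat.card (S : Subgroup G) - 1 := by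
    letI := Fintype.ofFinite ↥(S : Subgroup G)
    rw [MulAction.index_stabilizer, horb]
    show Nat.card {w : ↥(S : Subgroup G) // w ≠ 1} = _
    rw [Nat.card_eq_fintype_card, Nat.card_eq_fintype_card, Fintype.card_subtype_compl,
      Fintype.card_subtype_eq]
  have hst : ∀ v : ↥(S : Subgroup G), v ≠ 1 → Nat.card ↥(MulAction.stabilizer ↥K v) ∣ r := by
    intro v hv
    have hinj : Function.Injective (π.comp (MulAction.stabilizer ↥K v).subtype) := by
      refine (injective_iff_map_eq_one _).2 fun x hx => ?_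
      have hxF : ((x : ↥K) : MulAut ↥(S : Subgroup G)) ∈ F := ⟨x, (QuotientGroup.eq_one_iff _).1 hx, rfl⟩
      exact Subtype.ext (Subtype.ext (by_contra fun hne => hv (hfpf _ hxF hne v x.2)))
    have h1 := Subgroup.card_dvd_of_injective _ hinj
    have h2 := Subgroup.card_eq_card_quotient_mul_card_subgroup F₀
    rw [hKcard, mul_comm (Nat.card (↥K ⧸ F₀))] at h2
    rwa [← Nat.eq_of_mul_eq_mul_left Nat.card_pos h2] at h1
  have hst₀ : Nat.card ↥(MulAction.stabilizer ↥K v₀) = r := by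
    refine Nat.dvd_antisymm (hst v₀ hv₀) ?_
    rw [← hy₀]
    exact Subgroup.orderOf_dvd_natCard _ (show y₀ ∈ MulAction.stabilizer ↥K v₀ from hyv₀)
  have hFj : Nat.card F + 1 = Nat.card (S : Subgroup G) := by
    have h1 := (MulAction.stabilizer ↥K v₀).card_mul_index
    rw [hst₀, hidx, hKcard, mul_comm r] at h1
    have := Nat.eq_of_mul_eq_mul_right h.prime.pos h1
    rw [hFcard, ← this]
    omega
  have hreg : ∀ v w : ↥(S : Subgroup G), v ≠ 1 → w ≠ 1 → ∃ f ∈ F, f v = w := by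
    intro v w hv hw
    let g : ↥F → {x : ↥(S : Subgroup G) // x ≠ 1} := fun f =>
      ⟨(f : MulAut ↥(S : Subgroup G)) v, fun e =>
        hv ((f : MulAut ↥(S : Subgroup G)).injective (e.trans (map_one _).symm))⟩
    have hg : Function.Injective g := by
      intro f f' e
      have e' : (f : MulAut ↥(S : Subgroup G)) v = (f' : MulAut ↥(S : Subgroup G)) v := congrArg Subtype.val e
      refine Subtype.ext (inv_mul_eq_one.1 ?_).symm
      by_contra hne
      refine hv (hfpf _ (mul_mem (inv_mem f'.2) f.2) hne v ?_)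
      rw [MulAut.mul_apply, e']
      exact MulEquiv.symm_apply_apply _ v
    have hb := (Nat.bijective_iff_injective_and_card g).2 ⟨hg, by
      letI := Fintype.ofFinite ↥(S : Subgroup G)
      rw [Nat.card_eq_fintype_card (α := {x : ↥(S : Subgroup G) // x ≠ 1}), Fintype.card_subtype_compl,
        Fintype.card_subtype_eq, ← Nat.card_eq_fintype_card, ← hFj]
      omega⟩
    obtain ⟨f, hf⟩ := hb.2 ⟨w, hw⟩
    exact ⟨f, f.2, congrArg Subtype.val hf⟩
  refine ⟨F, hFK, hFcyc, hconj, by rw [hKcard, hFcard], by rwa [hFcard], hFj, hreg, hfpf, hmem, hexfix, ?_⟩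
  intro y hy hy1 hyr v w hv hw hyv hyw
  obtain ⟨f, hf, hfv⟩ := hreg v w hv hw
  have hmem1 : f⁻¹ * y * f * y⁻¹ ∈ F := by
    rw [show f⁻¹ * y * f * y⁻¹ = f⁻¹ * (y * f * y⁻¹) by group]
    exact mul_mem (inv_mem hf) (hconj y hy f hf)
  have h1 : f⁻¹ * y * f * y⁻¹ = 1 := by
    by_contra hne
    refine hv (hfpf _ hmem1 hne v ?_)
    have e : y⁻¹ v = v := by
      conv_lhs => rw [← hyv]
      exact MulEquiv.symm_apply_apply y v
    show f⁻¹ (y (f (y⁻¹ v))) = v
    rw [e, hfv, hyw, ← hfv]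
    exact MulEquiv.symm_apply_apply f v
  have hf1 : f = 1 := hFr f hf (h.auto_commute hy (hFK hf) hy1 hyr (by
    rw [mul_inv_eq_one, mul_assoc, inv_mul_eq_iff_eq_mul] at h1
    exact h1))
  rw [← hfv, hf1, MulAut.one_apply]

end Hyp

end Cfsg.Lib.CompOrd
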