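import Cfsg.Agent.Lib.CompositeOrder.Embedded
import Cfsg.Agent.S0205

/-!
The automorphisms induced on the Sylow 2-subgroup by its normalizer, and the `r`-part of its centralizer.
-/

set_option autoImplicit false
set_option linter.style.haveILetI false

namespace Cfsg.Lib.CompOrd

open Subgroup
open Cfsg.Lib

universe u

variable {G : Type u} [Group G] [Finite G] {r : ℕ}

/-- The `r`-part of the centralizer of `S`. -/
def rPart (r : ℕ) (S : Sylow 2 G) : Subgroup G :=
  (Cfsg.pCore r ↥(centralizer ((S : Subgroup G) : Set G))).map (centralizer ((S : Subgroup G) : Set G)).subtype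

/-- The automorphisms of `S` induced by its normalizer. -/
def auto (S : Sylow 2 G) : Subgroup (MulAut ↥(S : Subgroup G)) := (S : Subgroup G).normalizerMonoidHom.range

theorem mem_auto {S : Sylow 2 G} {k : MulAut ↥(S : Subgroup G)} :
    k ∈ auto S ↔ ∃ g : ↥(normalizer ((S : Subgroup G) : Set G)), (S : Subgroup G).normalizerMonoidHom g = k :=
  Iff.rfl

theorem normalizerHom_eq_one_iff {S : Sylow 2 G} (g : ↥(normalizer ((S : Subgroup G) : Set G))) :
    (S : Subgroup G).normalizerMonoidHom g = 1 ↔ (g : G) ∈ centralizer ((S : Subgroup G) : Set G) := by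
  rw [mem_centralizer_iff]
  constructor
  · intro e x hx
    have := congrArg Subtype.val (DFunLike.congr_fun e (⟨x, hx⟩ : ↥(S : Subgroup G)))
    have h' : (g : G) * x * (g : G)⁻¹ = x := this
    rw [mul_inv_eq_iff_eq_mul] at h'
    exact h'.symm
  · intro e
    refine MulEquiv.ext fun x => Subtype.ext ?_
    show (g : G) * x * (g : G)⁻¹ = x
    rw [← e x x.2, mul_inv_cancel_right]

namespace Hyp

variable (h : Hyp G r) {S : Sylow 2 G}
include h

theorem pow_r_gen {M : Type*} [Group M] {y : M} (hy : y ^ (2 * r) = 1) (hodd : Odd (orderOf y)) :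
    y ^ r = 1 :=
  orderOf_dvd_iff_pow_eq_one.1
    ((Nat.coprime_two_right.2 hodd).dvd_of_dvd_mul_left (orderOf_dvd_of_pow_eq_one hy))

theorem centS_pow {y : G} (hy : y ∈ centralizer ((S : Subgroup G) : Set G))
    (hS : 8 ≤ Nat.card (S : Subgroup G)) : y ^ (2 * r) = 1 := by
  obtain ⟨t, ht, ht1⟩ := (bot_or_exists_ne_one _).resolve_left (sylow_ne_bot (S := S) hS)
  exact h.centT t y (h.orderOf_of_mem_sylow S ht ht1) (mem_centralizer_iff.1 hy t ht)

theorem centS_nilpotent (hS : 8 ≤ Nat.card (S : Subgroup G)) :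
    Group.IsNilpotent ↥(centralizer ((S : Subgroup G) : Set G)) := by
  haveI := Fact.mk h.prime
  set L := centralizer ((S : Subgroup G) : Set G)
  let π := QuotientGroup.mk' (center ↥L)
  have hp : IsPGroup r (↥L ⧸ center ↥L) := by
    intro x
    obtain ⟨y, rfl⟩ := QuotientGroup.mk_surjective x
    refine ⟨1, ?_⟩
    rw [pow_one, ← QuotientGroup.mk_pow, QuotientGroup.eq_one_iff]
    have h1 := h.centS_pow y.2 hS
    have h2 : ((y : G) ^ r) ^ 2 = 1 := by rw [← pow_mul, mul_comm, h1]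
    have h3 : (y : G) ^ r ∈ (S : Subgroup G) :=
      h.mem_sylow_of_mem_normalizer S (centralizer_le_normalizer _ (pow_mem y.2 r)) h2
    exact mem_center_iff.2 fun z => Subtype.ext (by
      show (z : G) * (y : G) ^ r = (y : G) ^ r * (z : G)
      exact (mem_centralizer_iff.1 z.2 _ h3).symm)
  haveI := hp.isNilpotent
  exact _root_.isNilpotent_of_ker_le_center π (by rw [QuotientGroup.ker_mk'])

theorem mem_rPart (hS : 8 ≤ Nat.card (S : Subgroup G)) {x : G} :
    x ∈ rPart r S ↔ x ∈ centralizer ((S : Subgroup G) : Set G) ∧ x ^ r = 1 := by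
  haveI := Fact.mk h.prime
  set L := centralizer ((S : Subgroup G) : Set G)
  constructor
  · rintro ⟨y, hy, rfl⟩
    refine ⟨y.2, h.pow_r_of_odd (h.centS_pow y.2 hS) ?_⟩
    obtain ⟨k, hk⟩ := Core.pCore_isPGroup r ↥L ⟨y, hy⟩
    have hk' : (y : G) ^ r ^ k = 1 := congrArg (fun z : ↥(Cfsg.pCore r ↥L) => ((z : ↥L) : G)) hk
    exact h.odd_r.pow.of_dvd_nat (orderOf_dvd_of_pow_eq_one hk')
  · rintro ⟨hxL, hx⟩
    refine ⟨⟨x, hxL⟩, ?_, rfl⟩
    have hp : IsPGroup r (zpowers (⟨x, hxL⟩ : ↥L)) := fun z => by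
      obtain ⟨i, hi⟩ := mem_zpowers_iff.1 z.2
      exact ⟨1, Subtype.ext (by
        rw [pow_one, SubgroupClass.coe_pow, ← hi, ← zpow_natCast, ← zpow_mul, mul_comm, zpow_mul,
          zpow_natCast, show (⟨x, hxL⟩ : ↥L) ^ r = 1 from Subtype.ext (by simpa using hx), one_zpow]
        rfl)⟩
    obtain ⟨P, hP⟩ := hp.exists_le_sylow
    haveI : (P : Subgroup ↥L).Normal :=
      ((Group.isNilpotent_of_finite_tfae (G := ↥L)).out 0 3 rfl rfl).mp (h.centS_nilpotent hS) r
        inferInstance P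
    exact Core.le_pCore P.2 (hP (mem_zpowers _))

omit [Finite G] h in
theorem rPart_le : rPart r S ≤ centralizer ((S : Subgroup G) : Set G) := map_subtype_le _

theorem rPart_isPGroup (hS : 8 ≤ Nat.card (S : Subgroup G)) : IsPGroup r (rPart r S) := fun x =>
  ⟨1, Subtype.ext (by rw [pow_one]; exact ((h.mem_rPart hS).1 x.2).2)⟩

theorem normalizer_le_normalizer_rPart (hS : 8 ≤ Nat.card (S : Subgroup G)) :
    normalizer ((S : Subgroup G) : Set G) ≤ normalizer (rPart r S : Set G) := by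
  intro g hg
  refine mem_normalizer_fintype fun x hx => ?_
  obtain ⟨hxC, hxr⟩ := (h.mem_rPart hS).1 hx
  refine (h.mem_rPart hS).2 ⟨mem_centralizer_iff.2 fun s hs => ?_, by rw [conj_pow, hxr, mul_one, mul_inv_cancel]⟩
  have hs' : g⁻¹ * s * g ∈ (S : Subgroup G) := by
    have := (mem_normalizer_iff.1 (inv_mem hg) s).1 hs
    rwa [inv_inv] at this
  calc s * (g * x * g⁻¹) = g * (g⁻¹ * s * g * x) * g⁻¹ := by group
    _ = g * (x * (g⁻¹ * s * g)) * g⁻¹ := by rw [mem_centralizer_iff.1 hxC _ hs']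
    _ = g * x * g⁻¹ * s := by group

/-- The automizer has odd order. -/
theorem odd_auto : Odd (Nat.card (auto S)) := by
  haveI : Fact (Nat.Prime 2) := ⟨Nat.prime_two⟩
  set H := normalizer ((S : Subgroup G) : Set G)
  have hle : (S : Subgroup G).subgroupOf H ≤ (S : Subgroup G).normalizerMonoidHom.ker := fun x hx =>
    MonoidHom.mem_ker.2 ((normalizerHom_eq_one_iff x).2 (mem_centralizer_iff.2 fun s hs =>
      (h.commute_of_mem S hs hx).eq))
  have hd : Nat.card (auto S) ∣ ((S : Subgroup G).subgroupOf H).index := by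
    show Nat.card (S : Subgroup G).normalizerMonoidHom.range ∣ _
    rw [← Subgroup.index_ker]
    exact index_dvd_of_le hle
  have h2 : ¬ 2 ∣ ((S : Subgroup G).subgroupOf H).index := (S.subtype le_normalizer).not_dvd_index
  exact Nat.not_even_iff_odd.1 fun he => h2 ((even_iff_two_dvd.1 he).trans hd)

theorem auto_odd_order {k : MulAut ↥(S : Subgroup G)} (hk : k ∈ auto S) : Odd (orderOf k) :=
  h.odd_auto.of_dvd_nat (Subgroup.orderOf_dvd_natCard _ hk)

theorem auto_solvable : Group.IsSolvable (auto S) :=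
  Cfsg.Agent.S0205.result (G := ↥(auto S)) h.odd_auto

theorem auto_r {k : MulAut ↥(S : Subgroup G)} (hk : k ∈ auto S) (hd : r ∣ orderOf k) : k ^ r = 1 := by
  obtain ⟨g, rfl⟩ := hk
  have h1 := h.centR (g : G) (by rw [orderOf_coe]; exact hd.trans (orderOf_map_dvd _ g))
  refine h.pow_r_gen ?_ (h.auto_odd_order ⟨g, rfl⟩)
  rw [← map_pow, show g ^ (2 * r) = 1 from Subtype.ext (by rw [SubgroupClass.coe_pow]; exact h1), map_one]

theorem auto_fixed {k : MulAut ↥(S : Subgroup G)} (hk : k ∈ auto S) {v : ↥(S : Subgroup G)} (hv : v ≠ 1)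
    (hkv : k v = v) : k ^ r = 1 := by
  obtain ⟨g, rfl⟩ := hk
  have e : (g : G) * (v : G) * (g : G)⁻¹ = v := congrArg Subtype.val hkv
  rw [mul_inv_eq_iff_eq_mul] at e
  have h1 := h.centT (v : G) (g : G) (h.orderOf_of_mem_sylow S v.2 fun e => hv (Subtype.ext e))
    (show Commute (g : G) (v : G) from e).symm
  refine h.pow_r_gen ?_ (h.auto_odd_order ⟨g, rfl⟩)
  rw [← map_pow, show g ^ (2 * r) = 1 from Subtype.ext (by rw [SubgroupClass.coe_pow]; exact h1), map_one]

theorem auto_commute {k l : MulAut ↥(S : Subgroup G)} (hk : k ∈ auto S) (hl : l ∈ auto S) (hk1 : k ≠ 1)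
    (hkr : k ^ r = 1) (hc : Commute k l) : l ^ r = 1 := by
  haveI := Fact.mk h.prime
  by_cases hd : r ∣ orderOf l
  · exact h.auto_r hl hd
  have hko := orderOf_eq_prime hkr hk1
  have h1 := hc.orderOf_mul_eq_mul_orderOf_of_coprime (by
    rw [hko]; exact h.prime.coprime_iff_not_dvd.2 hd)
  have h2 := h.auto_r (mul_mem hk hl) (by rw [h1, hko]; exact dvd_mul_right r _)
  rwa [hc.mul_pow, hkr, one_mul] at h2

variable [IsSimpleGroup G]

theorem auto_transitive (hS : 8 ≤ Nat.card (S : Subgroup G)) {v w : ↥(S : Subgroup G)} (hv : v ≠ 1)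
    (hw : w ≠ 1) : ∃ k ∈ auto S, k v = w := by
  have hse := h.stronglyEmbedded hS
  obtain ⟨u, hu, hu2⟩ := Invol.se_exists_outside hse
  obtain ⟨d, hd, hdv⟩ := Invol.se_transitive hse hu2 hu
    (h.orderOf_of_mem_sylow S v.2 fun e => hv (Subtype.ext e)) (le_normalizer v.2)
    (h.orderOf_of_mem_sylow S w.2 fun e => hw (Subtype.ext e)) (le_normalizer w.2)
  exact ⟨_, ⟨⟨d, hd.1⟩, rfl⟩, Subtype.ext hdv⟩

end Hyp

end Cfsg.Lib.CompOrd
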