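import Cfsg.Agent.Lib.CompositeOrder.Automizer
import Cfsg.Agent.Lib.CIT.Consumers.FrobSystem
import Cfsg.Agent.Lib.CIT.TICount
import Cfsg.Agent.S0346

/-!
If `r` does not divide the order of the automizer, the centralizer of the Sylow 2-subgroup is a TI subgroup
containing the centralizers of its elements, so the TI counting theorem and the theorem on the degree of a
simple Zassenhaus group leave no room for an `r`-part.
-/

set_option autoImplicit false
set_option linter.style.haveILetI false

namespace Cfsg.Lib.CompOrd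

open Subgroup
open Cfsg.Lib

universe u

variable {G : Type u} [Group G] [Finite G] [IsSimpleGroup G] {r : ℕ}

namespace Hyp

variable (h : Hyp G r) {S : Sylow 2 G}
include h

theorem rPart_eq_bot_of_not_dvd (hS : 8 ≤ Nat.card (S : Subgroup G)) (hr : ¬ r ∣ Nat.card (auto S)) :
    rPart r S = ⊥ := by
  classical
  haveI : Fact (Nat.Prime 2) := ⟨Nat.prime_two⟩
  haveI := Fact.mk h.prime
  set H := normalizer ((S : Subgroup G) : Set G)
  set T := centralizer ((S : Subgroup G) : Set G)
  have hST : (S : Subgroup G) ≤ T := fun s hs => mem_centralizer_iff.2 fun x hx => (h.commute_of_mem S hx hs).eq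
  have hTH : T ≤ H := centralizer_le_normalizer _
  have hkey : ∀ y ∈ H, y ^ (2 * r) = 1 → y ∈ T := by
    intro y hy hy2
    refine (normalizerHom_eq_one_iff ⟨y, hy⟩).1 ?_
    set k := (S : Subgroup G).normalizerMonoidHom ⟨y, hy⟩ with hk
    have hk2 : k ^ r = 1 := h.pow_r_gen (by
      rw [hk, ← map_pow, show (⟨y, hy⟩ : H) ^ (2 * r) = 1 from Subtype.ext (by simpa using hy2), map_one])
      (h.auto_odd_order ⟨_, hk.symm⟩)
    by_contra hk1
    refine hr ?_
    rw [← orderOf_eq_prime hk2 hk1]
    exact Subgroup.orderOf_dvd_natCard (s := auto S) ⟨_, hk.symm⟩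
  have hinv : ∀ a ∈ (S : Subgroup G), a ≠ 1 → centralizer ({a} : Set G) ≤ T := fun a ha ha1 y hy =>
    hkey y (h.centralizer_le hS ha ha1 hy)
      (h.centT a y (h.orderOf_of_mem_sylow S ha ha1) (mem_centralizer_singleton_iff.1 hy).symm)
  have hcent : ∀ x ∈ T, x ≠ 1 → centralizer ({x} : Set G) ≤ T := by
    intro x hx hx1 y hy
    by_cases hxr : x ^ r = 1
    · exact hkey y (h.centralizer_r_le hS hx1 hxr hx hy)
        (h.commute_r hx1 hxr (mem_centralizer_singleton_iff.1 hy).symm)
    · have hmem : x ^ r ∈ (S : Subgroup G) := h.mem_sylow_of_mem_normalizer S (hTH (pow_mem hx r))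
        (by rw [← pow_mul, mul_comm, h.centS_pow hx hS])
      exact hinv _ hmem hxr (mem_centralizer_singleton_iff.2
        ((show Commute y x from mem_centralizer_singleton_iff.1 hy).pow_right r).eq)
  have hHT : H ≤ normalizer (T : Set G) := by
    intro g hg
    refine mem_normalizer_fintype fun x hx => mem_centralizer_iff.2 fun s hs => ?_
    have hs' : g⁻¹ * s * g ∈ (S : Subgroup G) := by
      have := (mem_normalizer_iff.1 (inv_mem hg) s).1 hs
      rwa [inv_inv] at this
    calc s * (g * x * g⁻¹) = g * (g⁻¹ * s * g * x) * g⁻¹ := by group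
      _ = g * (x * (g⁻¹ * s * g)) * g⁻¹ := by rw [mem_centralizer_iff.1 hx _ hs']
      _ = g * x * g⁻¹ * s := by group
  have hTN : normalizer (T : Set G) ≤ H := by
    intro g hg
    refine mem_normalizer_fintype fun s hs => h.mem_sylow_of_mem_normalizer S
      (hTH ((mem_normalizer_iff.1 hg s).1 (hST hs))) ?_
    rw [conj_pow, h.sylow_sq S hs, mul_one, mul_inv_cancel]
  obtain ⟨a, ha, ha1⟩ := (bot_or_exists_ne_one _).resolve_left (sylow_ne_bot (S := S) hS)
  obtain ⟨b, hb, hb1, hab⟩ : ∃ b ∈ (S : Subgroup G), b ≠ 1 ∧ b ≠ a := by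
    by_contra hc
    push Not at hc
    have hsub : (S : Subgroup G) ≤ zpowers a := fun x hx => by
      rcases eq_or_ne x 1 with rfl | hx1
      · exact one_mem _
      · rw [hc x hx hx1]; exact mem_zpowers a
    have h1 := card_le_of_le hsub
    rw [Nat.card_zpowers, h.orderOf_of_mem_sylow S ha ha1] at h1
    omega
  have hD : CIT.TIData T :=
    { proper := fun e => (h.stronglyEmbedded hS).1 (top_le_iff.1 (e ▸ hTN))
      hall := CIT.Consumers.coprime_index_of_cent hcent
      ti := fun g hg => by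
        rw [eq_bot_iff]
        rintro x ⟨hx, y, hy, hyx⟩
        rw [mem_bot]
        by_contra hx1
        have hy1 : y ≠ 1 := fun e => hx1 (by rw [← hyx, e]; simp)
        refine hg (hHT (mem_normalizer_fintype fun s hs => h.mem_sylow_of_mem_normalizer S
          (hTH (hcent x hx hx1 (mem_centralizer_singleton_iff.2 ?_))) ?_))
        · rw [← hyx]
          show g * s * g⁻¹ * (g * y * g⁻¹) = g * y * g⁻¹ * (g * s * g⁻¹)
          calc g * s * g⁻¹ * (g * y * g⁻¹) = g * (s * y) * g⁻¹ := by group
            _ = _ := by rw [mem_centralizer_iff.1 hy s hs]; group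
        · rw [conj_pow, h.sylow_sq S hs, mul_one, mul_inv_cancel]
      cent := hcent
      central := ⟨a, hST ha, h.orderOf_of_mem_sylow S ha ha1, fun x hx => (mem_centralizer_iff.1 hx a ha).symm⟩
      two_involutions := ⟨a, hST ha, b, hST hb, h.orderOf_of_mem_sylow S ha ha1,
        h.orderOf_of_mem_sylow S hb hb1, hab.symm⟩ }
  obtain ⟨E, t, hE⟩ := CIT.exists_tiShape hD
  letI : Fintype (G ⧸ normalizer (T : Set G)) := Fintype.ofFinite _
  have hpp := Cfsg.Agent.S0346.result (CIT.zassenhaus_of_shape hD hE)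
  rw [← Nat.card_eq_fintype_card, show Nat.card (G ⧸ normalizer (T : Set G)) = _ from hE.index_eq,
    Nat.add_sub_cancel] at hpp
  rw [eq_bot_iff]
  intro x hx
  rw [mem_bot]
  by_contra hx1
  obtain ⟨hxT, hxr⟩ := (h.mem_rPart hS).1 hx
  obtain ⟨q, -, hu⟩ := isPrimePow_iff_unique_prime_dvd.1 hpp
  have e1 := hu r ⟨h.prime, orderOf_eq_prime hxr hx1 ▸ Subgroup.orderOf_dvd_natCard T hxT⟩
  have e2 := hu 2 ⟨Nat.prime_two,
    h.orderOf_of_mem_sylow S ha ha1 ▸ Subgroup.orderOf_dvd_natCard T (hST ha)⟩
  exact h.ne_two (e1.trans e2.symm)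

end Hyp

end Cfsg.Lib.CompOrd
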