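import Cfsg.Agent.Lib.SelfNormNA.CA
import Cfsg.Agent.Lib.Fusion.HallWielandt
import Cfsg.Agent.S0074
import Cfsg.Agent.S1242

/-!
Transfer obstructions to simplicity: a central subgroup of a Sylow subgroup that is weakly closed has a
normalizer controlling fusion, and the focal subgroup of an abelian Sylow subgroup is the whole of it.
-/

set_option autoImplicit false
set_option linter.style.haveILetI false

namespace Cfsg.Lib.CompOrd

open Subgroup
open Cfsg.Lib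
open scoped commutatorElement

universe u

variable {G : Type u} [Group G] [Finite G] {r : ℕ} [hr : Fact r.Prime]

/-- The normalizer of a weakly closed subgroup of the centre of a Sylow subgroup controls fusion. -/
theorem fusion_of_weakly_closed (P : Sylow r G) {z : G} (hz : z ∈ (P : Subgroup G))
    (hzc : ∀ y ∈ (P : Subgroup G), Commute z y)
    (hweak : ∀ g : G, g * z * g⁻¹ ∈ (P : Subgroup G) → g * z * g⁻¹ ∈ zpowers z) :
    ∀ y ∈ normalizer (zpowers z : Set G), (∃ k : ℕ, orderOf y = r ^ k) →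
      ∀ a : G, a * y * a⁻¹ ∈ normalizer (zpowers z : Set G) →
      ∃ m ∈ normalizer (zpowers z : Set G), m * y * m⁻¹ = a * y * a⁻¹ := by
  set M := normalizer (zpowers z : Set G)
  have hM : ∀ g : G, g * z * g⁻¹ ∈ zpowers z → g ∈ M := fun g hg => by
    refine mem_normalizer_fintype fun x hx => ?_
    obtain ⟨i, rfl⟩ := mem_zpowers_iff.1 hx
    rw [← conj_zpow]
    exact zpow_mem hg i
  have hPM : (P : Subgroup G) ≤ M := fun y hy => hM y (by
    rw [← (hzc y hy).eq, mul_inv_cancel_right]; exact mem_zpowers z)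
  -- move `r`-elements of `M` into `P`
  have hinto : ∀ y ∈ M, (∃ k : ℕ, orderOf y = r ^ k) → ∃ m ∈ M, m * y * m⁻¹ ∈ (P : Subgroup G) := by
    rintro y hy ⟨k, hk⟩
    have hp : IsPGroup r (zpowers (⟨y, hy⟩ : ↥M)) :=
      IsPGroup.of_card (n := k) (by rw [Nat.card_zpowers, Subgroup.orderOf_mk, hk])
    obtain ⟨Q, hQ⟩ := hp.exists_le_sylow
    obtain ⟨m, hm⟩ := MulAction.exists_smul_eq ↥M Q (P.subtype hPM)
    refine ⟨m, m.2, ?_⟩
    have : m * ⟨y, hy⟩ * m⁻¹ ∈ ((P.subtype hPM : Sylow r ↥M) : Subgroup ↥M) := by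
      rw [← hm, Sylow.coe_subgroup_smul]
      exact ⟨_, hQ (mem_zpowers _), rfl⟩
    exact this
  -- fusion inside `P`
  have hP : ∀ y ∈ (P : Subgroup G), ∀ a : G, a * y * a⁻¹ ∈ (P : Subgroup G) →
      ∃ m ∈ M, m * y * m⁻¹ = a * y * a⁻¹ := by
    intro y hy a ha
    set C := centralizer ({y} : Set G)
    set w := a⁻¹ * z * a with hw
    have hzC : z ∈ C := mem_centralizer_singleton_iff.2 (hzc y hy).eq
    have hwC : w ∈ C := mem_centralizer_singleton_iff.2 (by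
      have := (hzc _ ha).map (MulAut.conj a⁻¹).toMonoidHom
      simpa [hw, mul_assoc] using this.eq)
    have hpz : IsPGroup r (zpowers (⟨z, hzC⟩ : ↥C)) := fun x => by
      obtain ⟨i, hi⟩ := mem_zpowers_iff.1 x.2
      obtain ⟨k, hk⟩ := P.2 ⟨z, hz⟩
      refine ⟨k, Subtype.ext ?_⟩
      rw [SubgroupClass.coe_pow, ← hi, ← zpow_natCast, ← zpow_mul, mul_comm, zpow_mul, zpow_natCast,
        show (⟨z, hzC⟩ : ↥C) ^ r ^ k = 1 from Subtype.ext (congrArg Subtype.val hk :), one_zpow]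
      rfl
    have hpw : IsPGroup r (zpowers (⟨w, hwC⟩ : ↥C)) := fun x => by
      obtain ⟨i, hi⟩ := mem_zpowers_iff.1 x.2
      obtain ⟨k, hk⟩ := P.2 ⟨z, hz⟩
      refine ⟨k, Subtype.ext ?_⟩
      rw [SubgroupClass.coe_pow, ← hi, ← zpow_natCast, ← zpow_mul, mul_comm, zpow_mul, zpow_natCast,
        show (⟨w, hwC⟩ : ↥C) ^ r ^ k = 1 from Subtype.ext (by
          show w ^ r ^ k = 1
          rw [hw, show a⁻¹ * z * a = a⁻¹ * z * a⁻¹⁻¹ by rw [inv_inv], conj_pow,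
            show z ^ r ^ k = 1 from congrArg Subtype.val hk]
          group), one_zpow]
      rfl
    obtain ⟨Q₁, hQ₁⟩ := hpz.exists_le_sylow
    obtain ⟨Q₂, hQ₂⟩ := hpw.exists_le_sylow
    obtain ⟨c, hc⟩ := MulAction.exists_smul_eq ↥C Q₂ Q₁
    have hmem : (c : G) * w * (c : G)⁻¹ ∈ (Q₁ : Subgroup ↥C).map C.subtype := by
      rw [← hc, Sylow.coe_subgroup_smul]
      exact ⟨c * ⟨w, hwC⟩ * c⁻¹, ⟨_, hQ₂ (mem_zpowers _), rfl⟩, rfl⟩
    have hzQ : z ∈ (Q₁ : Subgroup ↥C).map C.subtype := ⟨_, hQ₁ (mem_zpowers _), rfl⟩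
    obtain ⟨R, hR⟩ := (Q₁.2.map C.subtype).exists_le_sylow
    obtain ⟨b, hb⟩ := MulAction.exists_smul_eq G R P
    have hin : ∀ x ∈ (Q₁ : Subgroup ↥C).map C.subtype, b * x * b⁻¹ ∈ (P : Subgroup G) := fun x hx => by
      rw [← hb, Sylow.coe_subgroup_smul]
      exact ⟨x, hR hx, rfl⟩
    have hbM : b ∈ M := hM b (hweak b (hin z hzQ))
    set g := (c : G) * a⁻¹
    have hgw : g * z * g⁻¹ = (c : G) * w * (c : G)⁻¹ := by simp only [g, hw]; group
    have h2 := hweak (b * g) (by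
      rw [show b * g * z * (b * g)⁻¹ = b * (g * z * g⁻¹) * b⁻¹ by group, hgw]
      exact hin _ hmem)
    have hgM : g ∈ M := (M.mul_mem_cancel_left hbM).1 (hM _ h2)
    refine ⟨g⁻¹, inv_mem hgM, ?_⟩
    calc g⁻¹ * y * g⁻¹⁻¹ = a * ((c : G)⁻¹ * (y * (c : G))) * a⁻¹ := by simp only [g]; group
      _ = a * y * a⁻¹ := by
        rw [← mem_centralizer_singleton_iff.1 c.2]; group
  intro y hy hk a ha
  obtain ⟨m₁, hm₁, h₁⟩ := hinto y hy hk
  obtain ⟨m₂, hm₂, h₂⟩ := hinto _ ha (by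
    obtain ⟨k, hk⟩ := hk
    exact ⟨k, by rw [← hk]; exact (MulEquiv.orderOf_eq (MulAut.conj a) y)⟩)
  obtain ⟨m, hm, e⟩ := hP _ h₁ (m₂ * a * m₁⁻¹) (by
    rw [show m₂ * a * m₁⁻¹ * (m₁ * y * m₁⁻¹) * (m₂ * a * m₁⁻¹)⁻¹ = m₂ * (a * y * a⁻¹) * m₂⁻¹ by group]
    exact h₂)
  refine ⟨m₂⁻¹ * m * m₁, mul_mem (mul_mem (inv_mem hm₂) hm) hm₁, ?_⟩
  calc m₂⁻¹ * m * m₁ * y * (m₂⁻¹ * m * m₁)⁻¹ = m₂⁻¹ * (m * (m₁ * y * m₁⁻¹) * m⁻¹) * m₂ := by group
    _ = a * y * a⁻¹ := by rw [e]; group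

/-- In a nonabelian simple group, a subgroup controlling `r`-fusion has no abelian `r`-quotient. -/
theorem hom_eq_one_of_control [IsSimpleGroup G] (hna : ¬ IsMulCommutative G) (M : Subgroup G)
    (hidx : r.Coprime M.index)
    (hfus : ∀ g ∈ M, (∃ k : ℕ, orderOf g = r ^ k) → ∀ a : G, a * g * a⁻¹ ∈ M →
      ∃ h ∈ M, h * g * h⁻¹ = a * g * a⁻¹)
    {A : Type u} [CommGroup A] [Finite A] (hA : IsPGroup r A) (f : ↥M →* A) : f = 1 := by
  have h1 := Cfsg.Agent.S1242.result M hidx hfus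
  rw [SelfNormNA.commutator_eq_top_of_simple hna, sup_top_eq, top_inf_eq] at h1
  refine MonoidHom.ext fun x => ?_
  obtain ⟨y, hy, hyx⟩ := h1.le x.2
  have hyx' : y = x := Subtype.ext hyx
  subst hyx'
  exact MonoidHom.mem_ker.1
    ((sup_le (Fusion.pResidual_le_ker hA f) (Abelianization.commutator_subset_ker f)) hy)

/-- In a nonabelian simple group, the normalizer of an abelian Sylow subgroup has all of it as focal
subgroup. -/
theorem sylow_le_of_commutator_le [IsSimpleGroup G] (hna : ¬ IsMulCommutative G) (P : Sylow r G)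
    (hP : IsMulCommutative P) {I : Subgroup G}
    (hI : ⁅normalizer ((P : Subgroup G) : Set G), normalizer ((P : Subgroup G) : Set G)⁆ ≤ I) :
    (P : Subgroup G) ≤ I := by
  have h1 := Cfsg.Agent.S0074.result P hP
  rw [SelfNormNA.commutator_eq_top_of_simple hna, top_inf_eq] at h1
  exact fun x hx => hI ((h1.le hx).1)

end Cfsg.Lib.CompOrd
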