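import Cfsg.Agent.Lib.CompositeOrder.Geometry
import Cfsg.Agent.Lib.CompositeOrder.Fusion
import Cfsg.Agent.Lib.Local.Baumann.Setup
import Mathlib.GroupTheory.IndexNormal

/-!
The remaining configuration: the Sylow 3-subgroups have order 9 or 27, and transfer gives a quotient of
order 3.
-/

set_option autoImplicit false
set_option linter.style.haveILetI false

namespace Cfsg.Lib.CompOrd

open Subgroup
open Cfsg.Lib
open scoped commutatorElement

universe u

variable {G : Type u} [Group G] [Finite G] {r : ℕ}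

/-- Commuting conjugates in a group of exponent three. -/
theorem commute_conj_of_cube {M : Type*} [Group M] (hM : ∀ x : M, x ^ 3 = 1) (x g : M) :
    Commute x (g * x * g⁻¹) := by
  have h3 : ∀ a : M, a * a * a = 1 := fun a => by rw [← hM a, pow_succ, pow_succ, pow_one]
  have hinv : ∀ a : M, a⁻¹ = a * a := fun a => inv_eq_of_mul_eq_one_left (h3 a)
  -- `g * w * g = w⁻¹ * g⁻¹ * w⁻¹` for all `w`
  have key : ∀ w : M, g * w * g = w⁻¹ * g⁻¹ * w⁻¹ := fun w => by
    have h1 := h3 (w * g)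
    calc g * w * g = w⁻¹ * ((w * g) * (w * g) * (w * g)) * g⁻¹ * w⁻¹ := by group
      _ = _ := by rw [h1, mul_one]
  show x * (g * x * g⁻¹) = g * x * g⁻¹ * x
  have e1 : x * (g * x * g⁻¹) = g⁻¹ * x⁻¹ * g :=
    calc x * (g * x * g⁻¹) = x * (g * x * g) * g := by rw [hinv g]; group
      _ = g⁻¹ * x⁻¹ * g := by rw [key]; group
  have e2 : g * x * g⁻¹ * x = g⁻¹ * x⁻¹ * g :=
    calc g * x * g⁻¹ * x = g * (x * g⁻¹ * x) := by group
      _ = g * (g * x⁻¹ * g) := by rw [key x⁻¹, inv_inv]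
      _ = _ := by rw [hinv g]; group
  rw [e1, e2]

namespace Hyp

variable (h : Hyp G r) {S : Sylow 2 G}
include h

theorem false_of_threePoints [IsSimpleGroup G] (hS : 8 ≤ Nat.card (S : Subgroup G)) {y t : G}
    (T : ThreePoints r S y t) : False := by
  classical
  obtain ⟨hyo, hto, hty, hr3, -, hCy, hCt, hconj, hninv⟩ := T
  subst hr3
  haveI : Fact (Nat.Prime 3) := ⟨Nat.prime_three⟩
  haveI : Fact (Nat.Prime 2) := ⟨Nat.prime_two⟩
  have hna : ¬ IsMulCommutative G := h.not_commutative_of_sylow hS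
  have hy1 : y ≠ 1 := fun e => by rw [e, orderOf_one] at hyo; omega
  have hy3 : y ^ 3 = 1 := hyo ▸ pow_orderOf_eq_one y
  have htt : t * t = 1 := mul_self_invol hto
  have hti : t⁻¹ = t := inv_eq_of_mul_eq_one_left htt
  -- elements of 3-power order have order dividing 3
  have hexp : ∀ Q : Subgroup G, IsPGroup 3 Q → ∀ x ∈ Q, x ^ 3 = 1 := by
    intro Q hQ x hx
    obtain ⟨k, hk⟩ := hQ ⟨x, hx⟩
    have hk' : x ^ 3 ^ k = 1 := congrArg Subtype.val hk
    obtain ⟨i, -, hi⟩ := (Nat.dvd_prime_pow Nat.prime_three).1 (orderOf_dvd_of_pow_eq_one hk')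
    rcases i with _ | i
    · rw [orderOf_eq_one_iff.1 (hi.trans (pow_zero 3)), one_pow]
    exact h.pow_r_of_odd (h.centR x (hi ▸ dvd_pow_self 3 i.succ_ne_zero))
      (by rw [hi]; exact (by decide : Odd 3).pow)
  -- elements commuting with an involution have small centralizers
  have hsmall : ∀ x v : G, orderOf x = 3 → orderOf v = 2 → Commute v x →
      Nat.card ↥(centralizer ({x} : Set G)) = 18 := by
    intro x v hx hv hvx
    have hgen : ∀ (g w : G), g * x * g⁻¹ = w → centralizer ({w} : Set G) = centralizer ({y} : Set G) →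
        Nat.card ↥(centralizer ({x} : Set G)) = 18 := fun g w hgw hw => by
      rw [← hCy, ← hw]
      refine Nat.card_congr
        { toFun := fun z => ⟨g * (z : G) * g⁻¹, ?_⟩
          invFun := fun z => ⟨g⁻¹ * (z : G) * g, ?_⟩
          left_inv := fun z => Subtype.ext (by simp [mul_assoc])
          right_inv := fun z => Subtype.ext (by simp [mul_assoc]) }
      · refine mem_centralizer_singleton_iff.2 ?_
        rw [← hgw]
        calc g * (z : G) * g⁻¹ * (g * x * g⁻¹) = g * ((z : G) * x) * g⁻¹ := by group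
          _ = _ := by rw [mem_centralizer_singleton_iff.1 z.2]; group
      · refine mem_centralizer_singleton_iff.2 ?_
        calc g⁻¹ * (z : G) * g * x = g⁻¹ * ((z : G) * (g * x * g⁻¹)) * g := by group
          _ = g⁻¹ * ((g * x * g⁻¹) * (z : G)) * g := by
              rw [hgw, mem_centralizer_singleton_iff.1 z.2]
          _ = _ := by group
    rcases hconj x v hx hv hvx with hc | hc <;> obtain ⟨g, hg⟩ := isConj_iff.1 hc
    · exact hgen g y hg rfl
    · refine hgen g y⁻¹ hg ?_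
      ext z
      rw [mem_centralizer_singleton_iff, mem_centralizer_singleton_iff]
      exact ⟨fun e => by simpa using ((show Commute z y⁻¹ from e).inv_right).eq,
        fun e => ((show Commute z y from e).inv_right).eq⟩
  -- the Sylow 3-subgroup of the centralizer of `y`
  set Cy := centralizer ({y} : Set G)
  have hyC : y ∈ Cy := mem_centralizer_singleton_iff.2 rfl
  have htC : t ∈ Cy := mem_centralizer_singleton_iff.2 hty.eq
  obtain ⟨P⟩ : Nonempty (Sylow 3 ↥Cy) := inferInstance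
  have hPc : Nat.card ↥(P : Subgroup ↥Cy) = 9 := by
    rw [P.card_eq_multiplicity, hCy, show (18 : ℕ) = 2 * 3 ^ 2 from rfl,
      Nat.factorization_mul two_ne_zero (by norm_num), Finsupp.add_apply,
      Nat.factorization_eq_zero_of_not_dvd (show ¬ 3 ∣ 2 by norm_num), Nat.prime_three.factorization_pow,
      Finsupp.single_eq_same]
    norm_num
  haveI hPn : (P : Subgroup ↥Cy).Normal := normal_of_index_eq_two (by
    have h1 := (P : Subgroup ↥Cy).card_mul_index
    rw [hPc, hCy] at h1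
    omega)
  set A := (P : Subgroup ↥Cy).map Cy.subtype
  have hAc : Nat.card ↥A = 9 := by rw [Core.card_map_subtype, hPc]
  have hAC : A ≤ Cy := map_subtype_le _
  have hAp : IsPGroup 3 A := P.2.map _
  have hA3 := hexp A hAp
  have htA : ∀ x ∈ A, t * x * t⁻¹ ∈ A := by
    rintro _ ⟨x, hx, rfl⟩
    exact ⟨⟨t, htC⟩ * x * (⟨t, htC⟩ : ↥Cy)⁻¹, hPn.conj_mem x hx _, rfl⟩
  have hyA : y ∈ A := by
    have hp : IsPGroup 3 ↥(zpowers (⟨y, hyC⟩ : ↥Cy)) :=
      IsPGroup.of_card (n := 1) (by rw [Nat.card_zpowers, Subgroup.orderOf_mk, hyo, pow_one])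
    obtain ⟨P', hP'⟩ := hp.exists_le_sylow
    haveI := P.unique_of_normal hPn
    rw [Subsingleton.elim P' P] at hP'
    exact ⟨_, hP' (mem_zpowers _), rfl⟩
  -- an element inverted by `t`
  obtain ⟨a, haA, ha1, hat⟩ : ∃ a ∈ A, a ≠ 1 ∧ t * a * t⁻¹ = a⁻¹ := by
    have hnt : ¬ A ≤ centralizer ({t} : Set G) := fun hle => hCt (hAc ▸ card_dvd_of_le hle)
    obtain ⟨x, hxA, hxt⟩ := SetLike.not_le_iff_exists.1 hnt
    refine ⟨x * (t * x * t⁻¹)⁻¹, mul_mem hxA (inv_mem (htA x hxA)), fun e => hxt ?_, ?_⟩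
    · rw [mul_inv_eq_one, eq_mul_inv_iff_mul_eq] at e
      exact mem_centralizer_singleton_iff.2 e
    · rw [show t * (x * (t * x * t⁻¹)⁻¹) * t⁻¹ = t * x * t⁻¹ * ((t * t) * x * (t * t)⁻¹)⁻¹ by group, htt,
        one_mul, inv_one, mul_one, mul_inv_rev, inv_inv]
  have ha3 : a ^ 3 = 1 := hA3 a haA
  have hao : orderOf a = 3 := orderOf_eq_prime ha3 ha1
  have haW : ∀ v : G, orderOf v = 2 → ¬ Commute v a := fun v hv hva =>
    ha1 (h.not_inverted hS hv hva htt hat (by rw [hao]; decide))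
  have hya : Commute y a := (mem_centralizer_singleton_iff.1 (hAC haA)).symm
  -- the elements of `A`
  have hAform : ∀ x ∈ A, ∃ i k : Fin 3, x = y ^ (i : ℕ) * a ^ (k : ℕ) := by
    let g : Fin 3 × Fin 3 → ↥A := fun p => ⟨y ^ (p.1 : ℕ) * a ^ (p.2 : ℕ),
      mul_mem (pow_mem hyA _) (pow_mem haA _)⟩
    have hg : Function.Injective g := by
      rintro ⟨i, k⟩ ⟨i', k'⟩ e
      have e' : y ^ (i : ℕ) * a ^ (k : ℕ) = y ^ (i' : ℕ) * a ^ (k' : ℕ) := congrArg Subtype.val e
      have hk : k = k' := by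
        have hn : (y ^ (i : ℕ))⁻¹ * y ^ (i' : ℕ) = a ^ (k : ℕ) * (a ^ (k' : ℕ))⁻¹ := by
          calc (y ^ (i : ℕ))⁻¹ * y ^ (i' : ℕ)
              = (y ^ (i : ℕ))⁻¹ * (y ^ (i' : ℕ) * a ^ (k' : ℕ)) * (a ^ (k' : ℕ))⁻¹ := by group
            _ = (y ^ (i : ℕ))⁻¹ * (y ^ (i : ℕ) * a ^ (k : ℕ)) * (a ^ (k' : ℕ))⁻¹ := by rw [e']
            _ = _ := by group
        have hc : Commute t (a ^ (k : ℕ) * (a ^ (k' : ℕ))⁻¹) :=
          hn ▸ (hty.pow_right _).inv_right.mul_right (hty.pow_right _)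
        have h1 : t * (a ^ (k : ℕ) * (a ^ (k' : ℕ))⁻¹) * t⁻¹ = (a ^ (k : ℕ))⁻¹ * a ^ (k' : ℕ) := by
          rw [show t * (a ^ (k : ℕ) * (a ^ (k' : ℕ))⁻¹) * t⁻¹ =
            t * a ^ (k : ℕ) * t⁻¹ * (t * a ^ (k' : ℕ) * t⁻¹)⁻¹ by group, ← conj_pow, ← conj_pow, hat, inv_pow,
            inv_pow, inv_inv]
        rw [hc.eq, mul_inv_cancel_right] at h1
        have h2 : a ^ (2 * (k : ℕ)) = a ^ (2 * (k' : ℕ)) := by
          calc a ^ (2 * (k : ℕ))
              = a ^ (k : ℕ) * (a ^ (k : ℕ) * (a ^ (k' : ℕ))⁻¹) * a ^ (k' : ℕ) := by group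
            _ = a ^ (k : ℕ) * ((a ^ (k : ℕ))⁻¹ * a ^ (k' : ℕ)) * a ^ (k' : ℕ) := by rw [h1]
            _ = _ := by group
        rw [pow_eq_pow_iff_modEq, hao, Nat.ModEq] at h2
        exact Fin.ext (by omega)
      subst hk
      have h3 := mul_right_cancel e'
      rw [pow_eq_pow_iff_modEq, hyo, Nat.ModEq] at h3
      exact Prod.ext (Fin.ext (show (i : ℕ) = i' by omega)) rfl
    have hb := (Nat.bijective_iff_injective_and_card g).2 ⟨hg, by simp [hAc]⟩
    intro x hx
    obtain ⟨⟨i, k⟩, e⟩ := hb.2 ⟨x, hx⟩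
    exact ⟨i, k, (congrArg Subtype.val e).symm⟩
  have hAcomm : ∀ x ∈ A, Commute a x := fun x hx => by
    obtain ⟨i, k, rfl⟩ := hAform x hx
    exact (hya.symm.pow_right _).mul_right ((Commute.refl a).pow_right _)
  -- a Sylow 3-subgroup containing `A`
  obtain ⟨Q, hAQ⟩ := hAp.exists_le_sylow
  have hQ3 := hexp (Q : Subgroup G) Q.2
  have hCQy : ∀ x ∈ (Q : Subgroup G), Commute x y → x ∈ A := by
    intro x hx hxy
    set K := (Q : Subgroup G) ⊓ Cy
    have hKp : IsPGroup 3 K := Q.2.to_le inf_le_left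
    have hle : Nat.card ↥K ≤ 9 := by
      obtain ⟨n, hn⟩ := IsPGroup.iff_card.1 hKp
      have h1 : Nat.card ↥K ∣ 18 := hCy ▸ card_dvd_of_le (inf_le_right : K ≤ Cy)
      rw [hn] at h1 ⊢
      have h2 : 3 ^ n ∣ 9 :=
        (Nat.Coprime.pow_left n (show Nat.Coprime 3 2 by norm_num)).dvd_of_dvd_mul_left
          (show 3 ^ n ∣ 2 * 9 from h1)
      exact Nat.le_of_dvd (by norm_num) h2
    have e : A = K := Subgroup.eq_of_le_of_card_ge (le_inf hAQ hAC) (by rw [hAc]; exact hle)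
    exact e ▸ ⟨hx, mem_centralizer_singleton_iff.2 hxy.eq⟩
  by_cases hQA : (Q : Subgroup G) = A
  · -- abelian Sylow subgroup: compute the focal subgroup
    set N := normalizer (A : Set G)
    have hnormal : ∀ n ∈ N, Commute n y := by
      intro n hn
      have hnA : ∀ x ∈ A, n * x * n⁻¹ ∈ A := fun x hx => (mem_normalizer_iff.1 hn x).1 hx
      obtain ⟨i, k, hik⟩ := hAform _ (hnA y hyA)
      have hnyo : orderOf (n * y * n⁻¹) = 3 := by rw [Invol.orderOf_conj_eq, hyo]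
      have hnyW : Commute (n * t * n⁻¹) (n * y * n⁻¹) := hty.map (MulAut.conj n).toMonoidHom
      have hntn : orderOf (n * t * n⁻¹) = 2 := by rw [Invol.orderOf_conj_eq, hto]
      by_cases hk : (k : ℕ) = 0
      · rw [hk, pow_zero, mul_one] at hik
        rcases (by omega : (i : ℕ) = 0 ∨ (i : ℕ) = 1 ∨ (i : ℕ) = 2) with hi | hi | hi <;> rw [hi] at hik
        · rw [pow_zero] at hik
          rw [hik, orderOf_one] at hnyo
          omega
        · rw [pow_one, mul_inv_eq_iff_eq_mul] at hik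
          exact hik
        · refine absurd (isConj_iff.2 ⟨n, ?_⟩) hninv
          rw [hik, eq_inv_iff_mul_eq_one, ← pow_succ, hy3]
      exfalso
      have hi : (i : ℕ) ≠ 0 := fun hi => by
        rw [hi, pow_zero, one_mul] at hik
        refine haW (n * t * n⁻¹) hntn ?_
        rw [hik] at hnyW
        rcases (by omega : (k : ℕ) = 1 ∨ (k : ℕ) = 2) with e | e <;> rw [e] at hnyW
        · rwa [pow_one] at hnyW
        · have h2 := hnyW.pow_right 2
          rwa [← pow_mul, show (2 * 2 : ℕ) = 3 + 1 from rfl, pow_succ, ha3, one_mul] at h2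
      -- every element outside `⟨a⟩` commutes with an involution
      have hW : ∀ i' k' : ℕ, ¬ 3 ∣ i' → ∃ v, orderOf v = 2 ∧ Commute v (y ^ i' * a ^ k') := by
        intro i' k' hi'
        by_cases hk' : 3 ∣ k'
        · obtain ⟨c, rfl⟩ := hk'
          exact ⟨t, hto, by rw [pow_mul, ha3, one_pow, mul_one]; exact hty.pow_right i'⟩
        -- write it as a power of `y ^ i * a ^ k` or of its conjugate under `t`
        have key : ∀ m : ℕ, (y ^ (i : ℕ) * a ^ (k : ℕ)) ^ m = y ^ ((i : ℕ) * m) * a ^ ((k : ℕ) * m) :=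
          fun m => by rw [(hya.pow_pow _ _).mul_pow, ← pow_mul, ← pow_mul]
        have hti' : t * (y ^ (i : ℕ) * a ^ (k : ℕ)) * t⁻¹ = y ^ (i : ℕ) * a ^ (2 * (k : ℕ)) := by
          rw [show t * (y ^ (i : ℕ) * a ^ (k : ℕ)) * t⁻¹ =
            t * y ^ (i : ℕ) * t⁻¹ * (t * a ^ (k : ℕ) * t⁻¹) by group, (hty.pow_right _).eq,
            mul_inv_cancel_right, ← conj_pow, hat]
          congr 1
          rw [pow_mul, show a ^ 2 = a⁻¹ from (inv_eq_of_mul_eq_one_right (by rw [← pow_succ', ha3])).symm]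
        have key2 : ∀ m : ℕ, (y ^ (i : ℕ) * a ^ (2 * (k : ℕ))) ^ m =
            y ^ ((i : ℕ) * m) * a ^ (2 * (k : ℕ) * m) :=
          fun m => by rw [(hya.pow_pow _ _).mul_pow, ← pow_mul, ← pow_mul]
        have hmod : ∀ i₁ k₁ i₂ k₂ : ℕ, i₁ % 3 = i₂ % 3 → k₁ % 3 = k₂ % 3 →
            y ^ i₁ * a ^ k₁ = y ^ i₂ * a ^ k₂ := fun i₁ k₁ i₂ k₂ e1 e2 => by
          rw [pow_eq_pow_iff_modEq.2 (show i₁ ≡ i₂ [MOD orderOf y] by rw [hyo]; exact e1),
            pow_eq_pow_iff_modEq.2 (show k₁ ≡ k₂ [MOD orderOf a] by rw [hao]; exact e2)]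
        set m := (i : ℕ) * i'
        have hi0 : (i : ℕ) = 1 ∨ (i : ℕ) = 2 := by omega
        have hmi : (i : ℕ) * m % 3 = i' % 3 := by
          rcases hi0 with e | e <;> rw [show m = (i : ℕ) * i' from rfl, e] <;> omega
        by_cases hkm : (k : ℕ) * m % 3 = k' % 3
        · refine ⟨n * t * n⁻¹, hntn, ?_⟩
          rw [← hmod _ _ i' k' hmi hkm, ← key, ← hik]
          exact hnyW.pow_right m
        · refine ⟨t * (n * t * n⁻¹) * t⁻¹, by rw [Invol.orderOf_conj_eq, hntn], ?_⟩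
          have hkm' : 2 * (k : ℕ) * m % 3 = k' % 3 := by
            have hk0 : (k : ℕ) = 1 ∨ (k : ℕ) = 2 := by omega
            rw [show m = (i : ℕ) * i' from rfl] at hkm ⊢
            rcases (by omega : i' % 3 = 1 ∨ i' % 3 = 2) with f | f <;>
              rcases (by omega : k' % 3 = 1 ∨ k' % 3 = 2) with f' | f' <;>
              rcases hi0 with e | e <;> rcases hk0 with e' | e' <;>
              simp [Nat.mul_mod, e, e', f, f'] at hkm ⊢
          rw [← hmod _ _ i' k' hmi hkm', ← key2, ← hti', ← hik]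
          exact (hnyW.map (MulAut.conj t).toMonoidHom).pow_right m
      obtain ⟨i₁, e, hne⟩ := hAform _ (hnA a haA)
      have hi₁ : (i₁ : ℕ) = 0 := by
        by_contra hne0
        obtain ⟨v, hv, hva⟩ := hW i₁ e (fun hd => hne0 (by omega))
        rw [← hne] at hva
        refine haW (n⁻¹ * v * n) ?_ ?_
        · rw [show n⁻¹ * v * n = n⁻¹ * v * n⁻¹⁻¹ by rw [inv_inv], Invol.orderOf_conj_eq, hv]
        · have h2 := hva.map (MulAut.conj n⁻¹).toMonoidHom
          simp only [MulEquiv.coe_toMonoidHom, MulAut.conj_apply, inv_inv] at h2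
          rwa [show n⁻¹ * (n * a * n⁻¹) * n = a by group] at h2
      rw [hi₁, pow_zero, one_mul] at hne
      have he0 : (e : ℕ) ≠ 0 := fun e0 => by
        rw [e0, pow_zero, conj_eq_one_iff] at hne; exact ha1 hne
      -- choose the multiplier of `a` equal to that of `y`
      obtain ⟨n', hn', hn'y, hn'a⟩ : ∃ n' ∈ N, n' * y * n'⁻¹ = y ^ (i : ℕ) * a ^ (k : ℕ) ∧
          n' * a * n'⁻¹ = a ^ (i : ℕ) := by
        by_cases hei : (e : ℕ) = i
        · exact ⟨n, hn, hik, hei ▸ hne⟩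
        · have htN : t ∈ N := mem_normalizer_fintype htA
          refine ⟨n * t, mul_mem hn htN, ?_, ?_⟩
          · rw [show n * t * y * (n * t)⁻¹ = n * (t * y * t⁻¹) * n⁻¹ by group, hty.eq, mul_inv_cancel_right,
              hik]
          · rw [show n * t * a * (n * t)⁻¹ = n * (t * a * t⁻¹) * n⁻¹ by group, hat,
              show n * a⁻¹ * n⁻¹ = (n * a * n⁻¹)⁻¹ by group, hne]
            refine inv_eq_of_mul_eq_one_left ?_
            rw [← pow_add, ← ha3]
            congr 1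
            omega
      set w := n' * n'
      have hwa : w * a * w⁻¹ = a := by
        rw [show w * a * w⁻¹ = n' * (n' * a * n'⁻¹) * n'⁻¹ by simp [w, mul_assoc], hn'a, ← conj_pow, hn'a,
          ← pow_mul]
        rcases (by omega : (i : ℕ) = 1 ∨ (i : ℕ) = 2) with e1 | e1 <;> rw [e1]
        · rw [one_mul, pow_one]
        · rw [show (2 * 2 : ℕ) = 3 + 1 from rfl, pow_succ, ha3, one_mul]
      set m := 2 * (i : ℕ) * k
      have hwy : w * y * w⁻¹ = y * a ^ m := by
        rw [show w * y * w⁻¹ = n' * (n' * y * n'⁻¹) * n'⁻¹ by simp [w, mul_assoc], hn'y,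
          show n' * (y ^ (i : ℕ) * a ^ (k : ℕ)) * n'⁻¹ =
            n' * y ^ (i : ℕ) * n'⁻¹ * (n' * a ^ (k : ℕ) * n'⁻¹) by group,
          ← conj_pow, ← conj_pow, hn'y, hn'a, (hya.pow_pow _ _).mul_pow, ← pow_mul, ← pow_mul, ← pow_mul,
          mul_assoc, ← pow_add]
        rcases (by omega : (i : ℕ) = 1 ∨ (i : ℕ) = 2) with e1 | e1 <;> simp only [m, e1]
        · congr 1
          · rw [one_mul, pow_one]
          · congr 1; omega
        · congr 1
          · rw [show (2 * 2 : ℕ) = 3 + 1 from rfl, pow_succ, hy3, one_mul]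
          · congr 1; omega
      have hwl : ∀ l : ℕ, w ^ l * y * (w ^ l)⁻¹ = y * a ^ (l * m) := by
        intro l
        induction l with
        | zero => simp
        | succ l ih =>
          calc w ^ (l + 1) * y * (w ^ (l + 1))⁻¹ = w * (w ^ l * y * (w ^ l)⁻¹) * w⁻¹ := by
                rw [pow_succ']; group
            _ = w * y * w⁻¹ * (w * a * w⁻¹) ^ (l * m) := by rw [ih, conj_pow]; group
            _ = _ := by rw [hwy, hwa, mul_assoc, ← pow_add, add_mul, one_mul, add_comm]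
      have hm3 : ¬ 3 ∣ m := by
        simp only [m]
        rcases (by omega : (i : ℕ) = 1 ∨ (i : ℕ) = 2) with e1 | e1 <;> rw [e1] <;> omega
      have hdl : ∀ l : ℕ, Commute (w ^ l) y → 3 ∣ l := fun l hl => by
        have h1 := hwl l
        rw [hl.eq, mul_inv_cancel_right, left_eq_mul, ← orderOf_dvd_iff_pow_eq_one, hao] at h1
        exact (Nat.prime_three.dvd_mul.1 h1).resolve_right hm3
      have hwo : 3 ∣ orderOf w := hdl _ (by rw [pow_orderOf_eq_one]; exact Commute.one_left y)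
      have hw4 : (w ^ 4) ^ 3 = 1 := by
        rw [← pow_mul, show 4 * 3 = 2 * 3 * 2 from rfl, pow_mul, h.centR w hwo, one_pow]
      have hwN : w ^ 4 ∈ N := pow_mem (mul_mem hn' hn') 4
      have hp : IsPGroup 3 ↥(zpowers (w ^ 4)) := fun x => by
        obtain ⟨l, hl⟩ := mem_zpowers_iff.1 x.2
        exact ⟨1, Subtype.ext (by
          rw [pow_one, SubgroupClass.coe_pow, ← hl, ← zpow_natCast, ← zpow_mul, mul_comm, zpow_mul,
            zpow_natCast, hw4, one_zpow]; rfl)⟩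
      have h1 := hp.to_sup_of_normal_right' hAp (zpowers_le.2 hwN)
      have hw4A : w ^ 4 ∈ A := by
        have h2 := Q.3 h1 (hQA ▸ le_sup_right)
        rw [← hQA, ← h2]
        exact mem_sup_left (mem_zpowers _)
      have h3 : 3 ∣ 4 := hdl 4 (mem_centralizer_singleton_iff.1 (hAC hw4A))
      norm_num at h3
    have hcI : ⁅normalizer ((Q : Subgroup G) : Set G), normalizer ((Q : Subgroup G) : Set G)⁆ ≤ zpowers a := by
      rw [hQA, commutator_le]
      have hrep : ∀ b ∈ N, b ∈ A ∨ ∃ p ∈ A, b = t * p := by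
        intro b hb
        have hbC : b ∈ Cy := mem_centralizer_singleton_iff.2 (hnormal b hb).eq
        refine or_iff_not_imp_left.2 fun hbA => ⟨t * b, ?_, by rw [← mul_assoc, htt, one_mul]⟩
        have hnot : (⟨t, htC⟩ : ↥Cy) ∉ (P : Subgroup ↥Cy) := fun hm => by
          have h1 := orderOf_dvd_of_pow_eq_one (hA3 t ⟨_, hm, rfl⟩)
          rw [hto] at h1; norm_num at h1
        have hnb : (⟨b, hbC⟩ : ↥Cy) ∉ (P : Subgroup ↥Cy) := fun hm => hbA ⟨_, hm, rfl⟩
        have hidx : (P : Subgroup ↥Cy).index = 2 := by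
          have h1 := (P : Subgroup ↥Cy).card_mul_index
          rw [hPc, hCy] at h1
          omega
        exact ⟨_, (Subgroup.mul_mem_iff_of_index_two hidx).2 ⟨fun e => absurd e hnot, fun e => absurd e hnb⟩,
          rfl⟩
      have hti' : ∀ p ∈ A, p * (t * p⁻¹ * t⁻¹) ∈ zpowers a := by
        intro p hp
        obtain ⟨i, k, rfl⟩ := hAform p hp
        rw [show y ^ (i : ℕ) * a ^ (k : ℕ) * (t * (y ^ (i : ℕ) * a ^ (k : ℕ))⁻¹ * t⁻¹) =
          y ^ (i : ℕ) * a ^ (k : ℕ) * (t * a ^ (k : ℕ) * t⁻¹)⁻¹ * (t * y ^ (i : ℕ) * t⁻¹)⁻¹ by group,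
          (hty.pow_right _).eq, mul_inv_cancel_right, ← conj_pow, hat, inv_pow, inv_inv,
          mul_assoc (y ^ (i : ℕ)), ← pow_add, (hya.pow_pow _ _).eq, mul_inv_cancel_right]
        exact pow_mem (mem_zpowers a) _
      have hAA : ∀ p ∈ A, ∀ q ∈ A, Commute p q := fun p hp q hq => by
        obtain ⟨i, k, rfl⟩ := hAform p hp
        exact (((show Commute y q from (mem_centralizer_singleton_iff.1 (hAC hq)).symm)).pow_left _).mul_left
          ((hAcomm q hq).pow_left _)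
      intro x hx z hz
      have hpq : ∀ p ∈ A, ∀ q ∈ A, ⁅p, t * q⁆ ∈ zpowers a := fun p hp q hq => by
        rw [show ⁅p, t * q⁆ = p * (t * (q * p⁻¹ * q⁻¹) * t⁻¹) by rw [commutatorElement_def]; group,
          (hAA q hq _ (inv_mem hp)).eq, mul_inv_cancel_right]
        exact hti' p hp
      rcases hrep x hx with hp | ⟨p, hp, rfl⟩ <;> rcases hrep z hz with hq | ⟨q, hq, rfl⟩
      · rw [commutatorElement_eq_one_iff_commute.2 (hAA x hp z hq)]; exact one_mem _
      · exact hpq x hp q hq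
      · rw [← commutatorElement_inv]; exact inv_mem (hpq z hq p hp)
      · have e : ⁅t * p, t * q⁆ = t * p * t⁻¹ * (t * t) * q * p⁻¹ * (t * q⁻¹ * t⁻¹) := by
          rw [commutatorElement_def, htt, mul_one, mul_inv_rev, mul_inv_rev, hti]
          group
        rw [e, htt, mul_one]
        have h1 := mul_mem (hti' q hq) (inv_mem (hti' p hp))
        have hq' := htA _ (inv_mem hq)
        have hp' := htA p hp
        rw [mul_assoc (t * p * t⁻¹ * q), (hAA _ (inv_mem hp) _ hq').eq, mul_assoc (t * p * t⁻¹) q,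
          ← mul_assoc q, ← mul_assoc (t * p * t⁻¹), (hAA _ hp' _ (mul_mem hq hq')).eq]
        convert h1 using 1
        group
    have hQc : IsMulCommutative Q := ⟨⟨fun p q => Subtype.ext (by
      obtain ⟨i, k, e⟩ := hAform p (hQA ▸ p.2)
      obtain ⟨i', k', e'⟩ := hAform q (hQA ▸ q.2)
      show (p : G) * q = q * p
      rw [e, e']
      exact (((Commute.pow_pow_self y _ _).mul_right (hya.pow_pow _ _)).mul_left
        ((hya.symm.pow_pow _ _).mul_right (Commute.pow_pow_self a _ _))).eq)⟩⟩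
    obtain ⟨l, hl⟩ := mem_zpowers_iff.1 (sylow_le_of_commutator_le hna Q hQc hcI (hAQ hyA))
    refine haW t hto ?_
    have hc : Commute t (a ^ l) := hl ▸ hty
    by_cases h3 : (3 : ℤ) ∣ l
    · exfalso
      rw [show a ^ l = 1 by rw [← orderOf_dvd_iff_zpow_eq_one, hao]; exact h3] at hl
      exact hy1 hl.symm
    · obtain ⟨u, v, huv⟩ := (Int.prime_three.coprime_iff_not_dvd.2 h3)
      have : a = (a ^ (3 : ℤ)) ^ u * (a ^ l) ^ v := by
        rw [← zpow_mul, ← zpow_mul, ← zpow_add, mul_comm _ u, mul_comm l v, huv, zpow_one]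
      rw [this, show a ^ (3 : ℤ) = 1 by exact_mod_cast ha3, one_zpow, one_mul]
      exact hc.zpow_right v
  -- the Sylow subgroup has order 27
  have hQp := Q.2
  obtain ⟨b, hbQ, hbA⟩ := SetLike.exists_of_lt (lt_of_le_of_ne hAQ fun e => hQA e.symm)
  haveI : Nontrivial ↥(Q : Subgroup G) := ⟨⟨⟨b, hbQ⟩, 1, fun e => hbA (by
    have e' : b = 1 := congrArg Subtype.val e
    rw [e']; exact one_mem A)⟩⟩
  obtain ⟨z₀, -, hz₀c, hz₀o⟩ :=
    PGroup.exists_mem_center_orderOf_eq hQp (N := (⊤ : Subgroup ↥(Q : Subgroup G))) top_ne_bot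
  set z := (z₀ : G)
  have hzo : orderOf z = 3 := by rw [show z = (z₀ : G) from rfl, Subgroup.orderOf_coe, hz₀o]
  have hz3 : z ^ 3 = 1 := hzo ▸ pow_orderOf_eq_one z
  have hzQ : z ∈ (Q : Subgroup G) := z₀.2
  have hzc : ∀ x ∈ (Q : Subgroup G), Commute z x := fun x hx =>
    (congrArg Subtype.val (mem_center_iff.1 hz₀c ⟨x, hx⟩)).symm
  have hz1 : z ≠ 1 := fun e => by rw [e, orderOf_one] at hzo; omega
  have hzA : z ∈ A := hCQy z hzQ (hzc y (hAQ hyA))
  -- `z` commutes with no involution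
  have hzW : ∀ v : G, orderOf v = 2 → ¬ Commute v z := by
    intro v hv hvz
    have h1 := hsmall z v hzo hv hvz
    have hle : (Q : Subgroup G) ≤ centralizer ({z} : Set G) := fun x hx =>
      mem_centralizer_singleton_iff.2 (hzc x hx).eq.symm
    obtain ⟨n, hn⟩ := IsPGroup.iff_card.1 hQp
    have h2 : Nat.card ↥(Q : Subgroup G) ∣ 18 := h1 ▸ card_dvd_of_le hle
    rw [hn] at h2
    have h3 : 3 ^ n ∣ 9 :=
      (Nat.Coprime.pow_left n (show Nat.Coprime 3 2 by norm_num)).dvd_of_dvd_mul_left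
        (show 3 ^ n ∣ 2 * 9 from h2)
    exact hQA (Subgroup.eq_of_le_of_card_ge hAQ (by rw [hAc, hn]; exact Nat.le_of_dvd (by norm_num) h3)).symm
  have hzy : ∀ l : ℕ, z ≠ y ^ l := fun l e => hzW t hto (e ▸ hty.pow_right l)
  -- the elements of `A` in terms of `y` and `z`
  have hAz : ∀ x ∈ A, ∃ i k : Fin 3, x = y ^ (i : ℕ) * z ^ (k : ℕ) := by
    let g : Fin 3 × Fin 3 → ↥A := fun p => ⟨y ^ (p.1 : ℕ) * z ^ (p.2 : ℕ),
      mul_mem (pow_mem hyA _) (pow_mem hzA _)⟩
    have hyz : Commute y z := (hzc y (hAQ hyA)).symm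
    have hg : Function.Injective g := by
      rintro ⟨i, k⟩ ⟨i', k'⟩ e
      have e' : y ^ (i : ℕ) * z ^ (k : ℕ) = y ^ (i' : ℕ) * z ^ (k' : ℕ) := congrArg Subtype.val e
      have hk : k = k' := by
        by_contra hne
        have hne' : (k : ℕ) ≠ k' := fun e0 => hne (Fin.ext e0)
        -- solve for `z`
        have hz' : z ^ ((k : ℕ) + 2 * k') = y ^ ((i' : ℕ) + 2 * i) := by
          calc z ^ ((k : ℕ) + 2 * k')
              = (y ^ (i : ℕ))⁻¹ * (y ^ (i : ℕ) * z ^ (k : ℕ)) * z ^ (2 * (k' : ℕ)) := by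
                rw [pow_add, inv_mul_cancel_left]
            _ = (y ^ (i : ℕ))⁻¹ * (y ^ (i' : ℕ) * z ^ (k' : ℕ)) * z ^ (2 * (k' : ℕ)) := by rw [e']
            _ = y ^ ((i' : ℕ) + 2 * i) := by
                rw [mul_assoc, mul_assoc, ← pow_add z, show (k' : ℕ) + 2 * k' = 3 * k' by ring, pow_mul z, hz3,
                  one_pow, mul_one, inv_mul_eq_iff_eq_mul, ← pow_add y,
                  show (i : ℕ) + ((i' : ℕ) + 2 * i) = i' + 3 * i by ring, pow_add y, pow_mul y, hy3, one_pow,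
                  mul_one]
        set d := (k : ℕ) + 2 * k'
        have hd : ¬ 3 ∣ d := by omega
        rcases (by omega : d % 3 = 1 ∨ d % 3 = 2) with e1 | e1
        · rw [← pow_mod_orderOf, hzo, e1, pow_one] at hz'
          exact hzy _ hz'
        · rw [← pow_mod_orderOf, hzo, e1] at hz'
          have h2 := congrArg (· ^ 2) hz'
          simp only [← pow_mul] at h2
          rw [show (2 * 2 : ℕ) = 3 + 1 from rfl, pow_succ, hz3, one_mul] at h2
          exact hzy _ h2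
      subst hk
      have h3 := mul_right_cancel e'
      rw [pow_eq_pow_iff_modEq, hyo, Nat.ModEq] at h3
      exact Prod.ext (Fin.ext (show (i : ℕ) = i' by omega)) rfl
    have hb := (Nat.bijective_iff_injective_and_card g).2 ⟨hg, by simp [hAc]⟩
    intro x hx
    obtain ⟨⟨i, k⟩, e⟩ := hb.2 ⟨x, hx⟩
    exact ⟨i, k, (congrArg Subtype.val e).symm⟩
  -- commutators of `y` lie in `⟨z⟩`
  have hQy : ∀ c ∈ (Q : Subgroup G), ∃ k : Fin 3, c * y * c⁻¹ = y * z ^ (k : ℕ) := by
    intro c hc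
    have hcA : c * y * c⁻¹ ∈ A := by
      refine hCQy _ (mul_mem (mul_mem hc (hAQ hyA)) (inv_mem hc)) ?_
      have h1 := commute_conj_of_cube (M := ↥(Q : Subgroup G))
        (fun x => Subtype.ext (by rw [SubgroupClass.coe_pow]; exact hQ3 x x.2))
        ⟨y, hAQ hyA⟩ ⟨c, hc⟩
      exact (congrArg Subtype.val h1.eq).symm
    obtain ⟨i, k, hik⟩ := hAz _ hcA
    rcases (by omega : (i : ℕ) = 0 ∨ (i : ℕ) = 1 ∨ (i : ℕ) = 2) with hi | hi | hi <;> rw [hi] at hik
    · exfalso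
      rw [pow_zero, one_mul] at hik
      have h1 : Commute (c * t * c⁻¹) (z ^ (k : ℕ)) := hik ▸ hty.map (MulAut.conj c).toMonoidHom
      have hco : orderOf (c * t * c⁻¹) = 2 := by rw [Invol.orderOf_conj_eq, hto]
      rcases (by omega : (k : ℕ) = 0 ∨ (k : ℕ) = 1 ∨ (k : ℕ) = 2) with hk | hk | hk <;> rw [hk] at h1 hik
      · rw [pow_zero, conj_eq_one_iff] at hik; exact hy1 hik
      · exact hzW _ hco (by rwa [pow_one] at h1)
      · refine hzW _ hco ?_
        have h2 := h1.pow_right 2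
        rwa [← pow_mul, show (2 * 2 : ℕ) = 3 + 1 from rfl, pow_succ, hz3, one_mul] at h2
    · exact ⟨k, by rwa [pow_one] at hik⟩
    · exfalso
      have hc2 : c * (c * y * c⁻¹) * c⁻¹ = y := by
        rw [hik, show c * (y ^ 2 * z ^ (k : ℕ)) * c⁻¹ = c * y ^ 2 * c⁻¹ * (c * z ^ (k : ℕ) * c⁻¹) by group,
          ← conj_pow, hik, ← ((hzc c hc).pow_left (k : ℕ)).eq, mul_inv_cancel_right,
          (((hzc y (hAQ hyA)).symm.pow_pow 2 (k : ℕ))).mul_pow, ← pow_mul, ← pow_mul, mul_assoc, ← pow_add,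
          show (2 * 2 : ℕ) = 3 + 1 from rfl, pow_succ, hy3, one_mul,
          show (k : ℕ) * 2 + k = 3 * k by ring, pow_mul, hz3, one_pow, mul_one]
      have hcy : c * y * c⁻¹ = y := by
        calc c * y * c⁻¹ = c * (c * (c * y * c⁻¹) * c⁻¹) * c⁻¹ := by rw [hc2]
          _ = c * c * c * y * (c * c * c)⁻¹ := by group
          _ = y := by
              rw [show c * c * c = c ^ 3 by rw [pow_succ, pow_two], hQ3 c hc, one_mul, inv_one, mul_one]
      rw [hcy, show y ^ 2 = y * y from pow_two y, mul_assoc, left_eq_mul] at hik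
      rcases (by omega : (k : ℕ) = 0 ∨ (k : ℕ) = 1 ∨ (k : ℕ) = 2) with hk | hk | hk <;> rw [hk] at hik
      · rw [pow_zero, mul_one] at hik; exact hy1 hik
      · rw [pow_one, ← inv_eq_iff_mul_eq_one] at hik
        refine hzy 2 ?_
        rw [← hik]
        exact inv_eq_of_mul_eq_one_right (by rw [← pow_succ', hy3])
      · refine hzy 1 ?_
        rw [← inv_eq_iff_mul_eq_one, eq_comm] at hik
        rw [pow_one, ← inv_inj (a := z), ← hik]
        exact inv_eq_of_mul_eq_one_right (by rw [← pow_succ', hz3])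
  have hQ27 : Nat.card ↥(Q : Subgroup G) = 27 := by
    have hle : Nat.card ↥(Q : Subgroup G) ≤ 27 := by
      choose κ hκ using fun c : ↥(Q : Subgroup G) => hQy c c.2
      let π : ↥(Q : Subgroup G) ⧸ (A.subgroupOf (Q : Subgroup G)) → Fin 3 := fun c => κ c.out
      have hπ : Function.Injective π := by
        intro c d e
        refine Quotient.out_equiv_out.1 (QuotientGroup.leftRel_apply.2 ?_)
        show ((c.out : G))⁻¹ * (d.out : G) ∈ A
        refine hCQy _ (mul_mem (inv_mem c.out.2) d.out.2) ?_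
        have h1 : (c.out : G) * y * (c.out : G)⁻¹ = (d.out : G) * y * (d.out : G)⁻¹ := by
          rw [hκ, hκ, show κ c.out = κ d.out from e]
        calc (c.out : G)⁻¹ * (d.out : G) * y
            = (c.out : G)⁻¹ * ((d.out : G) * y * (d.out : G)⁻¹) * (d.out : G) := by group
          _ = (c.out : G)⁻¹ * ((c.out : G) * y * (c.out : G)⁻¹) * (d.out : G) := by rw [h1]
          _ = _ := by group
      have h2 := Nat.card_le_card_of_injective π hπ
      rw [Nat.card_fin] at h2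
      have h3 := Subgroup.card_eq_card_quotient_mul_card_subgroup (A.subgroupOf (Q : Subgroup G))
      rw [Nat.card_congr (subgroupOfEquivOfLe hAQ).toEquiv, hAc] at h3
      omega
    obtain ⟨n, hn⟩ := IsPGroup.iff_card.1 hQp
    have h9 : 9 < Nat.card ↥(Q : Subgroup G) := by
      have := card_le_of_le hAQ
      rw [hAc] at this
      refine lt_of_le_of_ne this fun e => hQA (Subgroup.eq_of_le_of_card_ge hAQ (by omega)).symm
    rw [hn] at hle h9 ⊢
    have h1 : n < 4 := by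
      by_contra hc
      have : 3 ^ 4 ≤ 3 ^ n := Nat.pow_le_pow_right (by norm_num) (by omega)
      omega
    interval_cases n <;> omega
  -- the centralizer of `z`
  have hCz : centralizer ({z} : Set G) = (Q : Subgroup G) := by
    refine Q.3 (fun x => ⟨1, Subtype.ext ?_⟩) fun x hx => mem_centralizer_singleton_iff.2 (hzc x hx).eq.symm
    rw [pow_one, SubgroupClass.coe_pow]
    have hxz : Commute (x : G) z := mem_centralizer_singleton_iff.1 x.2
    have h6 := h.commute_r hz1 hz3 hxz.symm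
    by_contra hne
    refine hzW _ (orderOf_eq_prime ?_ hne) (hxz.pow_left 3)
    rw [← pow_mul, mul_comm, h6]
  -- commutators in `Q` lie in `⟨z⟩`
  haveI hZn : (zpowers z₀).Normal := ⟨fun x hx g => by
    obtain ⟨l, rfl⟩ := mem_zpowers_iff.1 hx
    rw [(mem_center_iff.1 (zpow_mem hz₀c l) g), mul_inv_cancel_right]
    exact zpow_mem (mem_zpowers _) l⟩
  have hQbar : Nat.card (↥(Q : Subgroup G) ⧸ zpowers z₀) = 3 ^ 2 := by
    have h1 := Subgroup.card_eq_card_quotient_mul_card_subgroup (zpowers z₀)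
    rw [hQ27, Nat.card_zpowers, hz₀o] at h1
    omega
  have hcommQ : ∀ p ∈ (Q : Subgroup G), ∀ q ∈ (Q : Subgroup G), ∃ l : ℤ, p * q * p⁻¹ = q * z ^ l := by
    intro p hp q hq
    have h1 : (QuotientGroup.mk (⟨q, hq⟩ : ↥(Q : Subgroup G)) : ↥(Q : Subgroup G) ⧸ zpowers z₀) =
        QuotientGroup.mk (⟨p, hp⟩ * ⟨q, hq⟩ * ⟨p, hp⟩⁻¹) := by
      rw [QuotientGroup.mk_mul, QuotientGroup.mk_mul, QuotientGroup.mk_inv,
        IsPGroup.commutative_of_card_eq_prime_sq hQbar (QuotientGroup.mk (⟨p, hp⟩ : ↥(Q : Subgroup G)))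
          (QuotientGroup.mk (⟨q, hq⟩ : ↥(Q : Subgroup G))), mul_inv_cancel_right]
    obtain ⟨l, hl⟩ := mem_zpowers_iff.1 (QuotientGroup.eq.1 h1)
    refine ⟨l, ?_⟩
    have hl' : z ^ l = q⁻¹ * (p * q * p⁻¹) := congrArg Subtype.val hl
    rw [hl', mul_inv_cancel_left]
  -- `⟨z⟩` is weakly closed
  have hweak : ∀ g : G, g * z * g⁻¹ ∈ (Q : Subgroup G) → g * z * g⁻¹ ∈ zpowers z := by
    intro g hgQ
    by_contra hgz
    set z' := g * z * g⁻¹ with hz'
    have hz'o : orderOf z' = 3 := by rw [hz', Invol.orderOf_conj_eq, hzo]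
    have hz'3 : z' ^ 3 = 1 := hz'o ▸ pow_orderOf_eq_one z'
    have hz'W : ∀ v : G, orderOf v = 2 → ¬ Commute v z' := fun v hv hvz => by
      refine hzW (g⁻¹ * v * g) ?_ ?_
      · rw [show g⁻¹ * v * g = g⁻¹ * v * g⁻¹⁻¹ by rw [inv_inv], Invol.orderOf_conj_eq, hv]
      · have h2 := hvz.map (MulAut.conj g⁻¹).toMonoidHom
        simp only [MulEquiv.coe_toMonoidHom, MulAut.conj_apply, inv_inv] at h2
        rwa [hz', show g⁻¹ * (g * z * g⁻¹) * g = z by group] at h2
    have hzz' : Commute z z' := hzc z' hgQ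
    -- two transvections
    obtain ⟨c, hc, hc'⟩ : ∃ c ∈ (Q : Subgroup G), c * z' * c⁻¹ ≠ z' := by
      by_contra hall
      push Not at hall
      have h1 : Commute z' y := by
        have := hall y (hAQ hyA)
        rw [mul_inv_eq_iff_eq_mul] at this
        exact this.symm
      obtain ⟨i, k, hik⟩ := hAz z' (hCQy z' hgQ h1)
      have hb := hall b hbQ
      rw [hik] at hb
      by_cases hi : (i : ℕ) = 0
      · apply hgz
        rw [hik, hi, pow_zero, one_mul]
        exact pow_mem (mem_zpowers z) _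
      · obtain ⟨m, hm⟩ := hQy b hbQ
        rw [show b * (y ^ (i : ℕ) * z ^ (k : ℕ)) * b⁻¹ = b * y ^ (i : ℕ) * b⁻¹ * (b * z ^ (k : ℕ) * b⁻¹) by group,
          ← conj_pow, hm, ← ((hzc b hbQ).pow_left (k : ℕ)).eq, mul_inv_cancel_right, mul_left_inj,
          (((hzc y (hAQ hyA)).symm).pow_right (m : ℕ)).mul_pow, mul_eq_left, ← pow_mul,
          ← orderOf_dvd_iff_pow_eq_one, hzo] at hb
        have hm0 : (m : ℕ) = 0 := by
          rcases Nat.prime_three.dvd_mul.1 hb with h' | h' <;> omega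
        rw [hm0, pow_zero, mul_one, mul_inv_eq_iff_eq_mul] at hm
        exact hbA (hCQy b hbQ hm)
    obtain ⟨l, hl⟩ := hcommQ c hc z' hgQ
    have hl3 : ¬ (3 : ℤ) ∣ l := fun hd => hc' (by
      rw [hl, show z ^ l = 1 by rw [← orderOf_dvd_iff_zpow_eq_one, hzo]; exact hd, mul_one])
    -- normalise both to exponent one
    have hpow : ∀ (p w v : G) (e : ℤ), Commute p w → p * v * p⁻¹ = v * w ^ e → ∀ j : ℕ,
        p ^ j * v * (p ^ j)⁻¹ = v * w ^ (e * j) := by
      intro p w v e hpw hpv j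
      induction j with
      | zero => simp
      | succ j ih =>
        calc p ^ (j + 1) * v * (p ^ (j + 1))⁻¹ = p * (p ^ j * v * (p ^ j)⁻¹) * p⁻¹ := by rw [pow_succ']; group
          _ = p * v * p⁻¹ * (p * w ^ (e * j) * p⁻¹) := by rw [ih]; group
          _ = v * w ^ (e * (j + 1 : ℕ)) := by
              rw [hpv, (hpw.zpow_right _).eq, mul_inv_cancel_right, mul_assoc, ← zpow_add]
              congr 2; push_cast; ring
    obtain ⟨p, hpz, hpz'⟩ : ∃ p : G, p * z * p⁻¹ = z ∧ p * z' * p⁻¹ = z' * z := by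
      refine ⟨c ^ (l % 3).toNat, ?_, ?_⟩
      · rw [((hzc c hc).symm.pow_left _).eq, mul_inv_cancel_right]
      · rw [hpow c z z' l (hzc c hc).symm hl]
        congr 1
        conv_rhs => rw [← zpow_one z]
        rw [← orderOf_dvd_sub_iff_zpow_eq_zpow, hzo, Int.toNat_of_nonneg (Int.emod_nonneg _ (by norm_num))]
        rcases (by omega : l % 3 = 1 ∨ l % 3 = 2) with e | e <;> rw [e] <;> omega
    obtain ⟨p', hp'z', hp'z⟩ : ∃ p' : G, p' * z' * p'⁻¹ = z' ∧ p' * z * p'⁻¹ = z * z'⁻¹ := by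
      have hzg : g⁻¹ * z * g ∈ (Q : Subgroup G) := by
        rw [← hCz]
        refine mem_centralizer_singleton_iff.2 ?_
        have h2 := hzz'.map (MulAut.conj g⁻¹).toMonoidHom
        simp only [MulEquiv.coe_toMonoidHom, MulAut.conj_apply, inv_inv] at h2
        rw [hz', show g⁻¹ * (g * z * g⁻¹) * g = z by group] at h2
        exact h2.eq
      obtain ⟨c₀, hc₀, hc₀'⟩ : ∃ c₀ ∈ (Q : Subgroup G), c₀ * (g⁻¹ * z * g) * c₀⁻¹ ≠ g⁻¹ * z * g := by
        by_contra hall
        push Not at hall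
        -- then the conjugate would be central, so in `⟨z⟩`
        set x := g⁻¹ * z * g with hx
        have h1 : Commute x y := by
          have := hall y (hAQ hyA)
          rw [mul_inv_eq_iff_eq_mul] at this
          exact this.symm
        obtain ⟨i, k, hik⟩ := hAz x (hCQy x hzg h1)
        obtain ⟨m, hm⟩ := hQy b hbQ
        have hb := hall b hbQ
        rw [hik] at hb
        by_cases hi : (i : ℕ) = 0
        · rw [hi, pow_zero, one_mul] at hik
          apply hgz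
          rw [← show g * x * g⁻¹ = z by rw [hx]; group, hik, ← conj_pow] at hzz'
          have hk0 : (k : ℕ) ≠ 0 := fun e => by
            rw [e, pow_zero, hx, mul_assoc, inv_mul_eq_one] at hik
            exact hz1 (mul_right_cancel (b := g) (by rw [one_mul]; exact hik.symm))
          have hz'k : z = z' ^ (k : ℕ) := by
            rw [hz', conj_pow, ← hik, hx]; group
          rw [hz'k]
          rcases (by omega : (k : ℕ) = 1 ∨ (k : ℕ) = 2) with e | e <;> rw [e]
          · rw [pow_one]; exact mem_zpowers z'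
          · refine mem_zpowers_iff.2 ⟨2, ?_⟩
            rw [zpow_two, ← pow_two, ← pow_mul, show (2 * 2 : ℕ) = 3 + 1 from rfl, pow_succ, hz'3, one_mul]
        · rw [show b * (y ^ (i : ℕ) * z ^ (k : ℕ)) * b⁻¹ = b * y ^ (i : ℕ) * b⁻¹ * (b * z ^ (k : ℕ) * b⁻¹) by group,
            ← conj_pow, hm, ← ((hzc b hbQ).pow_left (k : ℕ)).eq, mul_inv_cancel_right, mul_left_inj,
            (((hzc y (hAQ hyA)).symm).pow_right (m : ℕ)).mul_pow, mul_eq_left, ← pow_mul,
            ← orderOf_dvd_iff_pow_eq_one, hzo] at hb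
          have hm0 : (m : ℕ) = 0 := by
            rcases Nat.prime_three.dvd_mul.1 hb with h' | h' <;> omega
          rw [hm0, pow_zero, mul_one, mul_inv_eq_iff_eq_mul] at hm
          exact hbA (hCQy b hbQ hm)
      obtain ⟨l₀, hl₀⟩ := hcommQ c₀ hc₀ _ hzg
      have hl₀3 : ¬ (3 : ℤ) ∣ l₀ := fun hd => hc₀' (by
        rw [hl₀, show z ^ l₀ = 1 by rw [← orderOf_dvd_iff_zpow_eq_one, hzo]; exact hd, mul_one])
      set d := g * c₀ * g⁻¹
      have hdz' : Commute d z' := (hzc c₀ hc₀).symm.map (MulAut.conj g).toMonoidHom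
      have hdz : d * z * d⁻¹ = z * z' ^ l₀ := by
        have := congrArg (MulAut.conj g) hl₀
        simp only [MulAut.conj_apply] at this
        rw [hz', conj_zpow]
        calc d * z * d⁻¹ = g * (c₀ * (g⁻¹ * z * g) * c₀⁻¹) * g⁻¹ := by simp only [d]; group
          _ = _ := by rw [this]; group
      refine ⟨d ^ ((-l₀) % 3).toNat, by rw [(hdz'.pow_left _).eq, mul_inv_cancel_right], ?_⟩
      rw [hpow d z' z l₀ hdz' hdz]
      congr 1
      rw [← zpow_neg_one z', ← orderOf_dvd_sub_iff_zpow_eq_zpow, hz'o,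
        Int.toNat_of_nonneg (Int.emod_nonneg _ (by norm_num))]
      rcases (by omega : l₀ % 3 = 1 ∨ l₀ % 3 = 2) with e | e
      · rw [show -l₀ % 3 = 2 by omega]; omega
      · rw [show -l₀ % 3 = 1 by omega]; omega
    set w := p * p' * p
    have hzi : z * z'⁻¹ = z'⁻¹ * z := hzz'.inv_right.eq
    have hwz : w * z * w⁻¹ = z'⁻¹ := by
      rw [show w * z * w⁻¹ = p * (p' * (p * z * p⁻¹) * p'⁻¹) * p⁻¹ by simp [w, mul_assoc], hpz, hp'z,
        show p * (z * z'⁻¹) * p⁻¹ = p * z * p⁻¹ * (p * z' * p⁻¹)⁻¹ by group, hpz, hpz', mul_inv_rev,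
        mul_inv_cancel_left]
    have hwz' : w * z' * w⁻¹ = z := by
      rw [show w * z' * w⁻¹ = p * (p' * (p * z' * p⁻¹) * p'⁻¹) * p⁻¹ by simp [w, mul_assoc], hpz',
        show p' * (z' * z) * p'⁻¹ = p' * z' * p'⁻¹ * (p' * z * p'⁻¹) by group, hp'z', hp'z, hzi,
        mul_inv_cancel_left, hpz]
    have hw2 : w ^ 2 * z * (w ^ 2)⁻¹ = z⁻¹ := by
      rw [show w ^ 2 * z * (w ^ 2)⁻¹ = w * (w * z * w⁻¹) * w⁻¹ by rw [pow_two]; group, hwz,
        show w * z'⁻¹ * w⁻¹ = (w * z' * w⁻¹)⁻¹ by group, hwz']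
    have hw4 : ∀ j : ℕ, w ^ (4 * j) * z * (w ^ (4 * j))⁻¹ = z := by
      intro j
      induction j with
      | zero => simp
      | succ j ih =>
        rw [show 4 * (j + 1) = 4 * j + 2 + 2 from rfl, pow_add, pow_add,
          show w ^ (4 * j) * w ^ 2 * w ^ 2 * z * (w ^ (4 * j) * w ^ 2 * w ^ 2)⁻¹ =
            w ^ (4 * j) * (w ^ 2 * (w ^ 2 * z * (w ^ 2)⁻¹) * (w ^ 2)⁻¹) * (w ^ (4 * j))⁻¹ by group, hw2,
          show w ^ 2 * z⁻¹ * (w ^ 2)⁻¹ = (w ^ 2 * z * (w ^ 2)⁻¹)⁻¹ by group, hw2, inv_inv, ih]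
    have hzne : z⁻¹ ≠ z := fun e => by
      rw [inv_eq_iff_mul_eq_one, ← pow_two] at e
      have := orderOf_dvd_of_pow_eq_one e
      rw [hzo] at this; norm_num at this
    rcases Nat.even_or_odd (orderOf w) with he | ⟨j, hj⟩
    · have h6 := h.pow_two_r_of_even (even_iff_two_dvd.1 he)
      have e := hw4 1
      have h8 : w ^ 4 * z * (w ^ 4)⁻¹ = z := by simpa using e
      have h2 : w ^ 6 * z * (w ^ 6)⁻¹ = z⁻¹ := by
        rw [show (6 : ℕ) = 4 + 2 from rfl, pow_add,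
          show w ^ 4 * w ^ 2 * z * (w ^ 4 * w ^ 2)⁻¹ = w ^ 4 * (w ^ 2 * z * (w ^ 2)⁻¹) * (w ^ 4)⁻¹ by group,
          hw2, show w ^ 4 * z⁻¹ * (w ^ 4)⁻¹ = (w ^ 4 * z * (w ^ 4)⁻¹)⁻¹ by group, h8]
      rw [show w ^ 6 = 1 from h6, one_mul, inv_one, mul_one] at h2
      exact hzne h2.symm
    · refine hgz ?_
      have h1 := hw4 (orderOf w)
      obtain ⟨k, hk⟩ : ∃ k, w = (w ^ 4) ^ k := by
        have hco : Nat.Coprime 4 (orderOf w) := Nat.Coprime.pow_left 2 (Nat.coprime_two_left.2 ⟨j, hj⟩)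
        obtain ⟨k, hk⟩ := exists_pow_eq_self_of_coprime (x := w) hco
        exact ⟨k, hk.symm⟩
      have h2 : w * z * w⁻¹ = z := by rw [hk, ← pow_mul]; exact hw4 k
      rw [hwz] at h2
      rw [← inv_inv z', h2]
      exact inv_mem (mem_zpowers z)
  -- the normalizer of `⟨z⟩` has a quotient of order 3
  set M := normalizer (zpowers z : Set G)
  have hfus := fusion_of_weakly_closed Q hzQ (fun x hx => hzc x hx) hweak
  have hMz : ∀ m ∈ M, m * z * m⁻¹ = z ∨ m * z * m⁻¹ = z⁻¹ := by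
    intro m hm
    obtain ⟨l, hl⟩ := mem_zpowers_iff.1 ((mem_normalizer_iff.1 hm z).1 (mem_zpowers z))
    have hne : ¬ (3 : ℤ) ∣ l := fun hd => hz1 (conj_eq_one_iff.1
      (hl.symm.trans (by rw [← orderOf_dvd_iff_zpow_eq_one, hzo]; exact hd)))
    rcases (by omega : (3 : ℤ) ∣ l - 1 ∨ (3 : ℤ) ∣ l - (-1)) with hd | hd
    · left; rw [← hl]; conv_rhs => rw [← zpow_one z]
      rw [← orderOf_dvd_sub_iff_zpow_eq_zpow, hzo]; exact hd
    · right; rw [← hl, ← zpow_neg_one z, ← orderOf_dvd_sub_iff_zpow_eq_zpow, hzo]; exact hd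
  have hQM : (Q : Subgroup G) ≤ M := fun x hx => mem_normalizer_fintype fun c hc => by
    obtain ⟨l, rfl⟩ := mem_zpowers_iff.1 hc
    rw [← ((hzc x hx).zpow_left l).eq, mul_inv_cancel_right]
    exact zpow_mem (mem_zpowers z) l
  -- `t` inverts `z`
  have htz : t * z * t⁻¹ = z⁻¹ := by
    obtain ⟨i, k, hik⟩ := hAz a haA
    by_cases hi : (i : ℕ) = 0
    · rw [hi, pow_zero, one_mul] at hik
      rcases (by omega : (k : ℕ) = 0 ∨ (k : ℕ) = 1 ∨ (k : ℕ) = 2) with hk | hk | hk <;> rw [hk] at hik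
      · rw [pow_zero] at hik; exact absurd hik ha1
      · rw [pow_one] at hik; rw [← hik]; exact hat
      · have e : z = a⁻¹ := by
          rw [hik]; exact (inv_eq_of_mul_eq_one_right (by rw [← pow_succ, hz3])).symm
        rw [e, show t * a⁻¹ * t⁻¹ = (t * a * t⁻¹)⁻¹ by group, hat]
    exfalso
    -- otherwise `a` is a power of a conjugate of `y`
    obtain ⟨m, hm⟩ := hQy b hbQ
    have hm0 : (m : ℕ) ≠ 0 := fun e => by
      rw [e, pow_zero, mul_one, mul_inv_eq_iff_eq_mul] at hm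
      exact hbA (hCQy b hbQ hm)
    have hyz : Commute y z := (hzc y (hAQ hyA)).symm
    have hpowb : ∀ j : ℕ, b ^ j * y * (b ^ j)⁻¹ = y * z ^ ((m : ℕ) * j) := by
      intro j
      induction j with
      | zero => simp
      | succ j ih =>
        calc b ^ (j + 1) * y * (b ^ (j + 1))⁻¹ = b * (b ^ j * y * (b ^ j)⁻¹) * b⁻¹ := by
              rw [pow_succ']; group
          _ = b * y * b⁻¹ * (b * z ^ ((m : ℕ) * j) * b⁻¹) := by rw [ih]; group
          _ = _ := by
              rw [hm, ← ((hzc b hbQ).pow_left _).eq, mul_inv_cancel_right, mul_assoc, ← pow_add]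
              congr 2; ring
    set j := (i : ℕ) * k * m
    have hi0 : (i : ℕ) = 1 ∨ (i : ℕ) = 2 := by omega
    have hm1 : (m : ℕ) = 1 ∨ (m : ℕ) = 2 := by omega
    have hexpk : (m : ℕ) * j * i % 3 = (k : ℕ) % 3 := by
      simp only [j]
      rcases hi0 with e | e <;> rcases hm1 with e' | e' <;> rw [e, e'] <;> omega
    refine haW (b ^ j * t * (b ^ j)⁻¹) (by rw [Invol.orderOf_conj_eq, hto]) ?_
    have h1 := (hty.map (MulAut.conj (b ^ j)).toMonoidHom).pow_right (i : ℕ)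
    simp only [MulEquiv.coe_toMonoidHom, MulAut.conj_apply] at h1
    rw [hpowb, (hyz.pow_right _).mul_pow, ← pow_mul, ← pow_mod_orderOf z, hzo, hexpk,
      Nat.mod_eq_of_lt k.2, ← hik] at h1
    exact h1
  have htM : t ∈ M := mem_normalizer_fintype fun c hc => by
    obtain ⟨l, rfl⟩ := mem_zpowers_iff.1 hc
    rw [← conj_zpow, htz]
    exact zpow_mem (inv_mem (mem_zpowers z)) l
  haveI : Fact (Nat.Prime 3) := ⟨Nat.prime_three⟩
  letI : CommGroup (↥(Q : Subgroup G) ⧸ zpowers z₀) := IsPGroup.commGroupOfCardEqPrimeSq hQbar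
  set H' := (Q : Subgroup G).subgroupOf M
  let f : ↥H' →* ↥(Q : Subgroup G) ⧸ zpowers z₀ :=
    (QuotientGroup.mk' (zpowers z₀)).comp (subgroupOfEquivOfLe hQM).toMonoidHom
  have hrepM : ∀ m : ↥M, m ∈ H' ∨ m * ⟨t, htM⟩ ∈ H' := by
    intro m
    rcases hMz m m.2 with e | e
    · left
      show (m : G) ∈ (Q : Subgroup G)
      rw [← hCz]
      exact mem_centralizer_singleton_iff.2 (mul_inv_eq_iff_eq_mul.1 e)
    · right
      show (m : G) * t ∈ (Q : Subgroup G)
      rw [← hCz]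
      refine mem_centralizer_singleton_iff.2 (mul_inv_eq_iff_eq_mul.1 ?_)
      rw [show (m : G) * t * z * ((m : G) * t)⁻¹ = (m : G) * (t * z * t⁻¹) * (m : G)⁻¹ by group, htz,
        show (m : G) * z⁻¹ * (m : G)⁻¹ = ((m : G) * z * (m : G)⁻¹)⁻¹ by group, e, inv_inv]
  set yM : ↥M := ⟨y, hQM (hAQ hyA)⟩
  have hyH' : yM ∈ H' := hAQ hyA
  have hfy : ∀ x ∈ (Q : Subgroup G), ∀ hx : x⁻¹ * y * x ∈ (Q : Subgroup G),
      (QuotientGroup.mk (⟨x⁻¹ * y * x, hx⟩ : ↥(Q : Subgroup G)) : ↥(Q : Subgroup G) ⧸ zpowers z₀) =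
        QuotientGroup.mk ⟨y, hAQ hyA⟩ := by
    intro x hxQ hx
    rw [show (⟨x⁻¹ * y * x, hx⟩ : ↥(Q : Subgroup G)) = ⟨x, hxQ⟩⁻¹ * ⟨y, hAQ hyA⟩ * ⟨x, hxQ⟩ from rfl,
      QuotientGroup.mk_mul, QuotientGroup.mk_mul, QuotientGroup.mk_inv, inv_mul_cancel_comm]
  have hfix : ∀ g : ↥M, ∀ hg : g⁻¹ * yM * g ∈ H', f ⟨g⁻¹ * yM * g, hg⟩ = f ⟨yM, hyH'⟩ := by
    intro g hg
    show QuotientGroup.mk (⟨(g : G)⁻¹ * y * (g : G), hg⟩ : ↥(Q : Subgroup G)) = QuotientGroup.mk ⟨y, hAQ hyA⟩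
    rcases hrepM g with h1 | h1
    · exact hfy _ h1 hg
    · set x := (g : G) * t
      have e : (g : G)⁻¹ * y * (g : G) = t * (x⁻¹ * y * x) * t⁻¹ := by simp only [x]; group
      obtain ⟨k, hk⟩ := hQy x⁻¹ (inv_mem h1)
      rw [inv_inv] at hk
      rw [QuotientGroup.eq]
      refine mem_zpowers_iff.2 ⟨((k : ℕ) : ℤ), Subtype.ext ?_⟩
      show (((z₀ : ↥(Q : Subgroup G)) ^ ((k : ℕ) : ℤ) : ↥(Q : Subgroup G)) : G) =
        ((g : G)⁻¹ * y * (g : G))⁻¹ * y
      rw [e, hk, show t * (y * z ^ (k : ℕ)) * t⁻¹ = t * y * t⁻¹ * (t * z ^ (k : ℕ) * t⁻¹) by group, hty.eq,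
        mul_inv_cancel_right, ← conj_pow, htz, inv_pow, mul_inv_rev, inv_inv, inv_mul_cancel_right,
        SubgroupClass.coe_zpow, zpow_natCast]
  have hfixed : ∀ x : ↥M ⧸ H', yM • x = x := by
    intro x
    obtain ⟨g, rfl⟩ := QuotientGroup.mk_surjective x
    rw [Invol.smul_coset_eq_iff]
    show (g : G)⁻¹ * y * (g : G) ∈ (Q : Subgroup G)
    rcases hrepM g with h1 | h1
    · exact mul_mem (mul_mem (inv_mem h1) (hAQ hyA)) h1
    · set x' := (g : G) * t
      obtain ⟨k, hk⟩ := hQy x'⁻¹ (inv_mem h1)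
      rw [inv_inv] at hk
      rw [show (g : G)⁻¹ * y * (g : G) = t * (x'⁻¹ * y * x') * t⁻¹ by simp only [x']; group, hk,
        show t * (y * z ^ (k : ℕ)) * t⁻¹ = t * y * t⁻¹ * (t * z ^ (k : ℕ) * t⁻¹) by group, hty.eq,
        mul_inv_cancel_right, ← conj_pow, htz, inv_pow]
      exact mul_mem (hAQ hyA) (inv_mem (pow_mem hzQ _))
  have hindex : Nat.card {x : ↥M ⧸ H' // yM • x = x} = 2 := by
    rw [Nat.card_congr (Equiv.subtypeUnivEquiv hfixed), Nat.card_eq_two_iff]
    refine ⟨QuotientGroup.mk 1, QuotientGroup.mk ⟨t, htM⟩, fun e => ?_, ?_⟩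
    · have h1 : t ∈ (Q : Subgroup G) := by
        have := QuotientGroup.eq.1 e
        rw [inv_one, one_mul] at this
        exact this
      have h2 := orderOf_dvd_of_pow_eq_one (hQ3 t h1)
      rw [hto] at h2; norm_num at h2
    · rw [Set.eq_univ_iff_forall]
      intro x
      obtain ⟨g, rfl⟩ := QuotientGroup.mk_surjective x
      rcases hrepM g⁻¹ with h1 | h1
      · left
        rw [QuotientGroup.eq, mul_one]
        exact h1
      · right
        rw [Set.mem_singleton_iff, QuotientGroup.eq]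
        exact h1
  have h1 := transfer_fixed f Nat.prime_three (y := yM)
    (Subtype.ext (by rw [SubgroupClass.coe_pow]; exact hy3)) hyH' hfix
  rw [hindex] at h1
  have hp : IsPGroup 3 (↥(Q : Subgroup G) ⧸ zpowers z₀) := hQp.to_quotient _
  have hidx : Nat.Coprime 3 M.index :=
    Nat.prime_three.coprime_iff_not_dvd.2 fun hd => Q.not_dvd_index (hd.trans (index_dvd_of_le hQM))
  rw [hom_eq_one_of_control hna M hidx hfus hp (MonoidHom.transfer f), MonoidHom.one_apply] at h1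
  have h2 : f ⟨yM, hyH'⟩ = 1 := by
    have h3 : f ⟨yM, hyH'⟩ ^ 3 = 1 := by
      rw [← map_pow]
      convert f.map_one
      exact Subtype.ext (Subtype.ext (by simp only [SubgroupClass.coe_pow]; exact hy3))
    calc f ⟨yM, hyH'⟩ = f ⟨yM, hyH'⟩ ^ 3 * (f ⟨yM, hyH'⟩ ^ 2)⁻¹ := by group
      _ = 1 := by rw [h3, ← h1, inv_one, mul_one]
  obtain ⟨l, hl⟩ := mem_zpowers_iff.1 ((QuotientGroup.eq_one_iff (⟨y, hAQ hyA⟩ : ↥(Q : Subgroup G))).1 h2)
  have hl' : z ^ l = y := congrArg Subtype.val hl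
  by_cases h3 : (3 : ℤ) ∣ l
  · rw [show z ^ l = 1 by rw [← orderOf_dvd_iff_zpow_eq_one, hzo]; exact h3] at hl'
    exact hy1 hl'.symm
  · obtain ⟨u, v, huv⟩ := Int.prime_three.coprime_iff_not_dvd.2 h3
    refine hzW t hto ?_
    have : z = (z ^ (3 : ℤ)) ^ u * (z ^ l) ^ v := by
      rw [← zpow_mul, ← zpow_mul, ← zpow_add, mul_comm _ u, mul_comm l v, huv, zpow_one]
    rw [this, show z ^ (3 : ℤ) = 1 by exact_mod_cast hz3, one_zpow, one_mul, hl']
    exact hty.zpow_right v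

end Hyp

end Cfsg.Lib.CompOrd
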