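import Cfsg.Agent.Lib.CompositeOrder.CyclicCase
import Cfsg.Agent.Lib.CompositeOrder.TICase
import Cfsg.Agent.Lib.CompositeOrder.ThreeCase

/-!
In a simple group satisfying `Hyp` with Sylow 2-subgroups of order at least 8, centralizers of involutions
are elementary abelian 2-groups.
-/

set_option autoImplicit false
set_option linter.style.haveILetI false

namespace Cfsg.Lib.CompOrd

open Subgroup
open Cfsg.Lib

universe u

variable {G : Type u} [Group G] [Finite G] {r : ℕ}

namespace Hyp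

variable (h : Hyp G r)
include h

theorem sq_eq_one_of_commute [IsSimpleGroup G] (T : Sylow 2 G) (hT : 8 ≤ Nat.card (T : Subgroup G)) {t y : G}
    (ht : orderOf t = 2) (hc : Commute t y) : y ^ 2 = 1 := by
  classical
  haveI : Fact (Nat.Prime 2) := ⟨Nat.prime_two⟩
  haveI := Fact.mk h.prime
  obtain ⟨S, hS'⟩ := (IsPGroup.of_card (p := 2) (n := 1)
    (by rw [Nat.card_zpowers, ht, pow_one]) : IsPGroup 2 (zpowers t)).exists_le_sylow
  have hS : 8 ≤ Nat.card (S : Subgroup G) := by
    rwa [S.card_eq_multiplicity, ← T.card_eq_multiplicity]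
  have htS : t ∈ (S : Subgroup G) := hS' (mem_zpowers t)
  have ht1 : t ≠ 1 := fun e => by rw [e, orderOf_one] at ht; omega
  have hyN : y ∈ normalizer ((S : Subgroup G) : Set G) :=
    h.centralizer_le hS htS ht1 (mem_centralizer_singleton_iff.2 hc.eq.symm)
  -- the `r`-part of the centralizer is trivial, and no automorphism of order `r` fixes an involution
  obtain ⟨hW, hfix⟩ : rPart r S = ⊥ ∧
      ∀ k ∈ auto S, ∀ v : ↥(S : Subgroup G), v ≠ 1 → k v = v → k = 1 := by
    by_cases hr : r ∣ Nat.card (auto S)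
    · by_cases hO : Cfsg.pCore r ↥(auto S) = ⊥
      · obtain ⟨F, hF⟩ := h.exists_regularAuto hS hr hO
        obtain ⟨y', t', hT'⟩ := h.exists_threePoints hS hF
        exact (h.false_of_threePoints hS hT').elim
      · have hp := h.auto_isPGroup_of_pCore hS hO
        exact ⟨h.rPart_eq_bot_of_pGroup hS hp, (h.auto_card_of_pGroup hS hp).2⟩
    · refine ⟨h.rPart_eq_bot_of_not_dvd hS hr, fun k hk v hv hkv => ?_⟩
      by_contra hk1
      exact hr (orderOf_eq_prime (h.auto_fixed hk hv hkv) hk1 ▸ Subgroup.orderOf_dvd_natCard _ hk)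
  have hy2r : y ^ (2 * r) = 1 := h.centT t y ht hc
  have hyC : y ∈ centralizer ((S : Subgroup G) : Set G) := by
    refine (normalizerHom_eq_one_iff ⟨y, hyN⟩).1 (hfix _ ⟨_, rfl⟩ ⟨t, htS⟩
      (fun e => ht1 (congrArg Subtype.val e)) (Subtype.ext ?_))
    show y * t * y⁻¹ = t
    rw [← hc.eq, mul_inv_cancel_right]
  obtain ⟨j, hj⟩ := h.odd_r
  have hmem : y ^ (r + 1) ∈ rPart r S := (h.mem_rPart hS).2 ⟨pow_mem hyC _, by
    rw [← pow_mul, show (r + 1) * r = 2 * r * (j + 1) by rw [hj]; ring, pow_mul, hy2r, one_pow]⟩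
  rw [hW, mem_bot] at hmem
  have h2 : y ^ (2 * (r + 1)) = 1 := by rw [mul_comm, pow_mul, hmem, one_pow]
  rw [mul_add, mul_one, pow_add, hy2r, one_mul] at h2
  exact h2

end Hyp

end Cfsg.Lib.CompOrd
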