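import Cfsg.Agent.Lib.CompositeOrder.Reduce

/-!
A CIT group with a suitable odd section modulo a normal 2-subgroup has that subgroup trivial.
-/

set_option autoImplicit false
set_option linter.style.haveILetI false

namespace Cfsg.Lib.CompOrd

open Subgroup
open Cfsg.Lib

universe u

variable {G : Type u} [Group G] [Finite G]

/-- An elementary abelian normal subgroup on which the odd elements of the quotient act without fixed
points. -/
theorem exists_module (hG : CIT.IsCIT G) {R : Subgroup G} [R.Normal] (hR : IsPGroup 2 R) (hR1 : R ≠ ⊥) :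
    ∃ (V : Subgroup G) (_ : IsMulCommutative V) (φ : G ⧸ R →* MulAut V), IsPGroup 2 V ∧ (∀ v : V, v * v = 1) ∧
      Nontrivial V ∧ V ≤ R ∧ (∀ (g : G) (v : V), ((φ (g : G ⧸ R) v : V) : G) = g * v * g⁻¹) ∧
      ∀ a : G ⧸ R, Odd (orderOf a) → ∀ v : V, v ≠ 1 → φ a v = v → a = 1 := by
  haveI : Fact (Nat.Prime 2) := ⟨Nat.prime_two⟩
  obtain ⟨V, hV, hVR⟩ := Core.exists_isMinNormal (inferInstance : R.Normal) hR1
  haveI := hV.1
  haveI := (hR.to_le hVR).isNilpotent
  obtain ⟨hVc, p, hp, hVe, hVp⟩ := Core.minimal_solvable_elementary hV inferInstance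
  haveI : Nontrivial V := (nontrivial_iff_ne_bot V).2 hV.2.1
  have hp2 : p = 2 := by
    obtain ⟨⟨v, hv⟩, hv1⟩ := exists_ne (1 : V)
    have h1 : orderOf v ∣ p := orderOf_dvd_of_pow_eq_one (hVe v hv)
    obtain ⟨k, hk⟩ := IsPGroup.iff_orderOf.1 (hR.to_le hVR) ⟨v, hv⟩
    rw [Subgroup.orderOf_mk] at hk
    rcases (Nat.dvd_prime hp).1 h1 with h | h
    · exact absurd (Subtype.ext (orderOf_eq_one_iff.1 h)) hv1
    · exact (Nat.prime_dvd_prime_iff_eq hp Nat.prime_two).1 (hp.dvd_of_dvd_pow (n := k) (by rw [← hk, h]))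
  subst hp2
  -- `V` is central in `R`
  set C := centralizer (V : Set G)
  have hRC : R ≤ C := by
    set Z := (center R).map R.subtype
    haveI : Z.Normal := ConjAct.normal_of_characteristic_of_normal
    rcases hV.2.2 (V ⊓ Z) inferInstance inf_le_left with h | h
    · exfalso
      haveI : (V.subgroupOf R).Normal := Subgroup.Normal.subgroupOf hV.1 R
      haveI : Nontrivial ↥(V.subgroupOf R) := by
        rw [nontrivial_iff_ne_bot, Ne, subgroupOf_eq_bot, disjoint_iff, inf_eq_left.2 hVR]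
        exact hV.2.1
      obtain ⟨z, hzV, hzc, hzo⟩ := PGroup.exists_mem_center_orderOf_eq hR (N := V.subgroupOf R)
        ((nontrivial_iff_ne_bot _).1 inferInstance)
      have : ((z : R) : G) ∈ V ⊓ Z := ⟨hzV, z, hzc, rfl⟩
      rw [h, mem_bot] at this
      rw [← orderOf_coe, this, orderOf_one] at hzo
      omega
    · intro x hx
      refine mem_centralizer_iff.2 fun v hv => ?_
      obtain ⟨z, hz, hzv⟩ := (inf_eq_left.1 h) hv
      rw [← hzv]
      exact (congrArg Subtype.val (mem_center_iff.1 hz ⟨x, hx⟩)).symm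
  let φ₀ : G →* MulAut V := MulAut.conjNormal
  have hker : R ≤ φ₀.ker := fun x hx => by
    refine MonoidHom.mem_ker.2 (MulEquiv.ext fun v => Subtype.ext ?_)
    show x * (v : G) * x⁻¹ = v
    rw [← mem_centralizer_iff.1 (hRC hx) v v.2, mul_inv_cancel_right]
  refine ⟨V, hVc, QuotientGroup.lift R φ₀ hker, hR.to_le hVR,
    fun v => Subtype.ext (by rw [Subgroup.coe_mul, ← pow_two]; exact hVe v v.2), inferInstance, hVR,
    fun g v => rfl, fun a ha v hv hav => ?_⟩
  obtain ⟨g, rfl⟩ := QuotientGroup.mk_surjective a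
  have hc : (g : G) * (v : G) * g⁻¹ = v := congrArg Subtype.val hav
  -- replace `g` by a power of odd order
  obtain ⟨k, m, hm, hkm⟩ := Nat.exists_eq_two_pow_mul_odd (n := orderOf g) (orderOf_pos g).ne'
  have h1 : (g ^ 2 ^ k) ∈ centralizer ({(v : G)} : Set G) :=
    pow_mem (mem_centralizer_singleton_iff.2 (mul_inv_eq_iff_eq_mul.1 hc)) _
  have h2 : g ^ 2 ^ k = 1 := CIT.eq_one_of_odd_two
    (hG (v : G) (orderOf_eq_prime (hVe v v.2) fun e => hv (Subtype.ext e))) h1 (by
      rw [orderOf_pow_of_dvd (Nat.two_pow_pos k).ne' ⟨m, hkm⟩, hkm, Nat.mul_div_cancel_left _ (Nat.two_pow_pos k)]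
      exact hm)
  have h3 : (g : G ⧸ R) ^ 2 ^ k = 1 := by rw [← QuotientGroup.mk_pow, h2, QuotientGroup.mk_one]
  exact orderOf_eq_one_iff.1 (((Nat.coprime_two_right.2 ha).pow_right k).eq_one_of_dvd (orderOf_dvd_of_pow_eq_one h3))

/-- A Frobenius section of odd kernel and lifts of bounded order. -/
theorem radical_eq_bot_of_frobenius (hG : CIT.IsCIT G) {R : Subgroup G} [R.Normal] (hR : IsPGroup 2 R)
    {A : Subgroup (G ⧸ R)} (hA : Odd (Nat.card A)) (hA1 : A ≠ ⊥) {u : G ⧸ R} {n : ℕ} (hn : 2 ≤ n)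
    (huA : ∀ a ∈ A, u * a * u⁻¹ ∈ A)
    (hfpf : ∀ i : ℕ, 0 < i → i < n → ∀ a ∈ A, Commute a (u ^ i) → a = 1)
    (hlift : ∀ g : G, (g : G ⧸ R) = u → g ^ n = 1) : R = ⊥ := by
  classical
  by_contra hR1
  obtain ⟨V, hVc, φ, hVp, -, hVn, hVR, hφ, hfix⟩ := exists_module hG hR hR1
  haveI := hVn
  letI : CommGroup V := { (inferInstance : Group V) with mul_comm := mul_comm' }
  obtain ⟨g, hg⟩ := QuotientGroup.mk_surjective u
  have hnorm : ∀ v : V, ∏ i ∈ Finset.range n, φ (u ^ i) v = 1 := by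
    intro v
    refine Subtype.ext ?_
    have h1 := hlift ((v : G) * g) (by
      rw [QuotientGroup.mk_mul, (QuotientGroup.eq_one_iff (v : G)).2 (hVR v.2), one_mul, hg])
    rw [conj_pow_prod, hlift g hg, mul_one] at h1
    rw [Finset.prod_eq_multiset_prod, Finset.range_val, Multiset.range]
    simp only [Multiset.map_coe, Multiset.prod_coe]
    rw [SubmonoidClass.coe_list_prod, List.map_map]
    refine Eq.trans (congrArg List.prod (List.map_congr_left fun i _ => ?_)) h1
    show ((φ (u ^ i) v : V) : G) = g ^ i * (v : G) * (g ^ i)⁻¹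
    rw [← hφ (g ^ i) v, QuotientGroup.mk_pow, hg]
  obtain ⟨a, ha, ha1⟩ := (bot_or_exists_ne_one A).resolve_left hA1
  obtain ⟨v, hv⟩ := exists_ne (1 : V)
  obtain ⟨k, hk⟩ := IsPGroup.iff_card.1 hVp
  exact ha1 (hfix a (hA.of_dvd_nat (Subgroup.orderOf_dvd_natCard _ ha)) v hv
    (fix_of_norm_eq_one_of_powers φ A (by rw [hk]; exact (Nat.coprime_two_right.2 hA).pow_right k) hn huA hfpf
      hnorm ha v))

/-- A non-cyclic abelian section of odd order. -/
theorem radical_eq_bot_of_not_cyclic (hG : CIT.IsCIT G) {R : Subgroup G} [R.Normal] (hR : IsPGroup 2 R)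
    {A : Subgroup (G ⧸ R)} [IsMulCommutative A] (hA : Odd (Nat.card A)) (hnc : ¬ IsCyclic A) : R = ⊥ := by
  by_contra hR1
  obtain ⟨V, hVc, φ, -, hV2, hVn, -, -, hfix⟩ := exists_module hG hR hR1
  haveI := hVn
  letI : CommGroup V := { (inferInstance : Group V) with mul_comm := mul_comm' }
  refine hnc ?_
  have hinj : Function.Injective ((φ.comp A.subtype).rangeRestrict) := by
    refine (injective_iff_map_eq_one _).2 fun a ha => ?_
    obtain ⟨v, hv⟩ := exists_ne (1 : V)
    refine Subtype.ext (hfix a (hA.of_dvd_nat (Subgroup.orderOf_dvd_natCard _ a.2)) v hv ?_)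
    have h1 : φ (a : G ⧸ R) = 1 := congrArg Subtype.val ha
    rw [h1, MulAut.one_apply]
  haveI : IsMulCommutative (φ.comp A.subtype).range := ⟨⟨fun x y => Subtype.ext (by
    obtain ⟨a, ha⟩ := x.2
    obtain ⟨b, hb⟩ := y.2
    show (x : MulAut V) * y = y * x
    rw [← ha, ← hb, ← map_mul, ← map_mul, mul_comm'])⟩⟩
  haveI := isCyclic_of_fpf_mulAut hV2 (A := (φ.comp A.subtype).range) (by
    rintro _ ⟨a, rfl⟩ hne v hav
    by_contra hv
    refine hne ?_
    show φ (a : G ⧸ R) = 1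
    rw [hfix a (hA.of_dvd_nat (Subgroup.orderOf_dvd_natCard _ a.2)) v hv hav, map_one])
  exact isCyclic_of_injective _ hinj

end Cfsg.Lib.CompOrd
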