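import Cfsg.Agent.Lib.CompositeOrder.Reduce
import Cfsg.Agent.Lib.Linear.Suzuki.LieForm
import Cfsg.Agent.S0333
import Cfsg.Agent.S2126

/-!
A Suzuki group is the whole of an almost simple group whose involution centralizers are 2-groups: an
element of odd prime power order normalising a torus `U` of order `q ± r + 1` fixes one of the `|U|`
involutions inverting `U`.
-/

set_option autoImplicit false
set_option linter.style.haveILetI false

namespace Cfsg.Lib.CompOrd

open Subgroup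
open Cfsg.Lib

universe u

variable {G : Type u} [Group G] [Finite G]

/-- With trivial centralizer the index of a normal subgroup divides the order of the outer automorphism
group. -/
theorem index_dvd_out (N : Subgroup G) [N.Normal] (hC : centralizer (N : Set G) = ⊥) {H : Type} [Group H]
    (e : N ≃* H) : N.index ∣ Nat.card (Cfsg.Out H) := by
  set φ : G →* Cfsg.Out H := (QuotientGroup.mk' (Cfsg.Inn H)).comp
    ((MulAut.congr e).toMonoidHom.comp (MulAut.conjNormal (H := N)))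
  have hker : φ.ker = N := by
    ext x
    constructor
    · intro hx
      obtain ⟨h, hh⟩ := (QuotientGroup.eq_one_iff _).1 (MonoidHom.mem_ker.1 hx)
      set n : N := e.symm h
      have key : (n : G)⁻¹ * x ∈ centralizer (N : Set G) := by
        refine mem_centralizer_iff.2 fun a ha => ?_
        have h1 := DFunLike.congr_fun hh (e ⟨a, ha⟩)
        have h2 : h * e ⟨a, ha⟩ * h⁻¹ = e (MulAut.conjNormal x ⟨a, ha⟩) := by
          simpa [MulAut.congr, MulAut.conj_apply] using h1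
        have h3 : n * ⟨a, ha⟩ * n⁻¹ = MulAut.conjNormal x ⟨a, ha⟩ := e.injective (by
          rw [← h2, map_mul, map_mul, map_inv, e.apply_symm_apply])
        have h4 : (n : G) * a * (n : G)⁻¹ = x * a * x⁻¹ := by
          simpa [MulAut.conjNormal_apply] using congrArg Subtype.val h3
        calc a * ((n : G)⁻¹ * x) = (n : G)⁻¹ * ((n : G) * a * (n : G)⁻¹) * x := by group
          _ = (n : G)⁻¹ * (x * a * x⁻¹) * x := by rw [h4]
          _ = _ := by group
      rw [hC, mem_bot, inv_mul_eq_one] at key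
      exact key ▸ n.2
    · intro hx
      refine MonoidHom.mem_ker.2 ((QuotientGroup.eq_one_iff _).2 ⟨e ⟨x, hx⟩, ?_⟩)
      refine MulEquiv.ext fun a => ?_
      show e ⟨x, hx⟩ * a * (e ⟨x, hx⟩)⁻¹ = e (MulAut.conjNormal x (e.symm a))
      conv_lhs => rw [← e.apply_symm_apply a, ← map_inv, ← map_mul, ← map_mul]
      exact congrArg e (Subtype.ext (by simp [MulAut.conjNormal_apply]))
  rw [← hker, Subgroup.index_ker]
  exact Subgroup.card_subgroup_dvd_card _

/-- A cyclic torus with normalizer four times as large. -/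
structure TorusData (N U : Subgroup G) (k : ℕ) : Prop where
  le : U ≤ N
  card : Nat.card U = k
  comm : IsMulCommutative U
  cent : ∀ u ∈ U, u ≠ 1 → ∀ x ∈ N, Commute x u → x ∈ U
  card_norm : Nat.card ↥(N ⊓ normalizer (U : Set G)) = 4 * k
  one_lt : 1 < k
  odd : Odd k

namespace TorusData

variable {N U : Subgroup G} {k : ℕ} (T : TorusData N U k)
include T

theorem eq_one_of_two {u : G} (hu : u ∈ U) {j : ℕ} (h : u ^ 2 ^ j = 1) : u = 1 := by
  refine orderOf_eq_one_iff.1 (Nat.Coprime.eq_one_of_dvd ?_ (orderOf_dvd_of_pow_eq_one h))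
  exact ((Nat.coprime_two_right.2 (T.odd.of_dvd_nat (T.card ▸ Subgroup.orderOf_dvd_natCard U hu))).pow_right j)

/-- An involution of the normalizer inverts the torus. -/
theorem inv_of_involution {t : G} (ht : orderOf t = 2) (htN : t ∈ N) (htU : t ∈ normalizer (U : Set G))
    {u : G} (hu : u ∈ U) : t * u * t⁻¹ = u⁻¹ := by
  have hw : u * (t * u * t⁻¹) ∈ U := mul_mem hu ((mem_normalizer_iff.1 htU u).1 hu)
  haveI := T.comm
  have hcu : Commute u (t * u * t⁻¹) :=
    congrArg Subtype.val (mul_comm' (⟨u, hu⟩ : U) ⟨_, (mem_normalizer_iff.1 htU u).1 hu⟩)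
  have hc : Commute t (u * (t * u * t⁻¹)) := by
    show t * (u * (t * u * t⁻¹)) = u * (t * u * t⁻¹) * t
    calc t * (u * (t * u * t⁻¹)) = (t * u * t⁻¹) * (t * t) * u * t⁻¹ := by group
      _ = (t * u * t⁻¹) * u * t⁻¹ := by rw [mul_self_invol ht, mul_one]
      _ = u * (t * u * t⁻¹) * t⁻¹ := by rw [hcu.eq]
      _ = _ := by rw [CIT.inv_eq_self_of_two ht]
  refine eq_inv_of_mul_eq_one_right ?_
  by_contra hne
  have h1 := T.eq_one_of_two (T.cent _ hw hne t htN hc) (j := 1) (by rw [pow_one]; exact sq_invol ht)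
  rw [h1, orderOf_one] at ht
  omega

theorem exists_four : ∃ y ∈ N ⊓ normalizer (U : Set G), orderOf y = 4 ∧
    ∀ i : ℕ, 0 < i → i < 4 → ∀ a ∈ U, Commute a (y ^ i) → a = 1 := by
  haveI : Fact (Nat.Prime 2) := ⟨Nat.prime_two⟩
  set M := N ⊓ normalizer (U : Set G)
  obtain ⟨P⟩ : Nonempty (Sylow 2 ↥M) := inferInstance
  have hP : Nat.card (P : Subgroup ↥M) = 4 := by
    rw [P.card_eq_multiplicity, T.card_norm, Nat.factorization_mul (by norm_num) (by have := T.one_lt; omega),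
      Finsupp.add_apply, show (4 : ℕ) = 2 ^ 2 from rfl, Nat.prime_two.factorization_pow, Finsupp.single_eq_same,
      Nat.factorization_eq_zero_of_not_dvd (fun h => by
        have := Nat.odd_iff.1 T.odd; omega)]
  obtain ⟨⟨y, hy⟩, hyo⟩ : ∃ y : (P : Subgroup ↥M), orderOf y = 4 := by
    by_contra hall
    push Not at hall
    have hsq : ∀ x : (P : Subgroup ↥M), x * x = 1 := fun x => by
      obtain ⟨i, hi, hxi⟩ := (Nat.dvd_prime_pow Nat.prime_two).1
        ((orderOf_dvd_natCard x).trans (by rw [hP]; norm_num) : orderOf x ∣ 2 ^ 2)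
      rw [← pow_two, ← orderOf_dvd_iff_pow_eq_one]
      rcases (by omega : i = 0 ∨ i = 1 ∨ i = 2) with e | e | e <;> subst e
      · rw [hxi]; norm_num
      · rw [hxi]; norm_num
      · exact absurd (hxi.trans (by norm_num)) (hall x)
    obtain ⟨u, hu, hu1⟩ := (bot_or_exists_ne_one U).resolve_left fun e => by
      have := T.card; rw [e, Subgroup.card_bot] at this; have := T.one_lt; omega
    haveI := Fintype.ofFinite (P : Subgroup ↥M)
    obtain ⟨a, b, ha, hb, hab⟩ : ∃ a b : (P : Subgroup ↥M), a ≠ 1 ∧ b ≠ 1 ∧ a ≠ b := by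
      classical
      have h4 : (Finset.univ : Finset (P : Subgroup ↥M)).card = 4 := by
        rw [Finset.card_univ, ← Nat.card_eq_fintype_card, hP]
      have : 1 < ((Finset.univ : Finset (P : Subgroup ↥M)).erase 1).card := by
        rw [Finset.card_erase_of_mem (Finset.mem_univ _), h4]; norm_num
      obtain ⟨a, ha, b, hb, hab⟩ := Finset.one_lt_card.1 this
      exact ⟨a, b, Finset.ne_of_mem_erase ha, Finset.ne_of_mem_erase hb, hab⟩
    have hinv : ∀ x : (P : Subgroup ↥M), x ≠ 1 → ((x : ↥M) : G) * u * ((x : ↥M) : G)⁻¹ = u⁻¹ := fun x hx =>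
      T.inv_of_involution (by
        rw [orderOf_coe, orderOf_coe]
        exact orderOf_eq_prime (by rw [pow_two]; exact hsq x) hx) (x : ↥M).2.1 (x : ↥M).2.2 hu
    have hc : Commute ((a * b : (P : Subgroup ↥M)) : ↥M).1 u := by
      refine mul_inv_eq_iff_eq_mul.1 ?_
      show ((a : ↥M) : G) * ((b : ↥M) : G) * u * (((a : ↥M) : G) * ((b : ↥M) : G))⁻¹ = u
      rw [show ((a : ↥M) : G) * ((b : ↥M) : G) * u * (((a : ↥M) : G) * ((b : ↥M) : G))⁻¹ =
        ((a : ↥M) : G) * (((b : ↥M) : G) * u * ((b : ↥M) : G)⁻¹) * ((a : ↥M) : G)⁻¹ by group, hinv b hb,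
        show ∀ c : G, c * u⁻¹ * c⁻¹ = (c * u * c⁻¹)⁻¹ from fun c => by group, hinv a ha, inv_inv]
    have hne : a * b ≠ 1 := fun e => hab ((eq_inv_of_mul_eq_one_left e).trans
      (inv_eq_of_mul_eq_one_left (hsq b)))
    have hab2 := T.eq_one_of_two (T.cent u hu hu1 _ ((a * b : (P : Subgroup ↥M)) : ↥M).2.1 hc) (j := 1) (by
      rw [pow_one, ← SubgroupClass.coe_pow, ← SubgroupClass.coe_pow, pow_two, hsq]; rfl)
    exact hne (Subtype.ext (Subtype.ext hab2))
  rw [Subgroup.orderOf_mk] at hyo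
  refine ⟨(y : G), y.2, by rw [orderOf_coe, hyo], fun i hi0 hi a ha hc => ?_⟩
  by_contra ha1
  have hiU := T.cent a ha ha1 _ (pow_mem y.2.1 i) hc.symm
  have h1 := T.eq_one_of_two hiU (j := 2) (by
    rw [← pow_mul, mul_comm, pow_mul, show ((y : G)) ^ 2 ^ 2 = 1 by
      rw [show (2 : ℕ) ^ 2 = orderOf (y : G) by rw [orderOf_coe, hyo]; norm_num, pow_orderOf_eq_one], one_pow])
  have := Nat.le_of_dvd hi0 (orderOf_dvd_of_pow_eq_one h1)
  rw [orderOf_coe, hyo] at this
  omega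

/-- Odd primes dividing the index divide the order of the torus. -/
theorem dvd_of_index (hG : CIT.IsCIT G) [N.Normal] {ℓ : ℕ} (hℓ : ℓ.Prime) (hℓ2 : ℓ ≠ 2) (hℓN : ℓ ∣ N.index) :
    ℓ ∣ k := by
  classical
  haveI : Fact (Nat.Prime 2) := ⟨Nat.prime_two⟩
  haveI := Fact.mk hℓ
  set M := normalizer (U : Set G)
  obtain ⟨p, hp, hpk⟩ := Nat.exists_prime_and_dvd (n := k) (by have := T.one_lt; omega)
  haveI := Fact.mk hp
  obtain ⟨⟨u, hu⟩, huo⟩ := exists_prime_orderOf_dvd_card' (G := U) p (T.card.symm ▸ hpk)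
  rw [Subgroup.orderOf_mk] at huo
  have hu1 : u ≠ 1 := fun e => by rw [e, orderOf_one] at huo; exact hp.ne_one huo.symm
  obtain ⟨P, hP⟩ := (IsPGroup.of_card (p := p) (n := 1) (by
    rw [Nat.card_zpowers, Subgroup.orderOf_mk, huo, pow_one]) :
      IsPGroup p (zpowers (⟨u, T.le hu⟩ : N))).exists_le_sylow
  have huP := hP (mem_zpowers (⟨u, T.le hu⟩ : N))
  haveI : Nontrivial (P : Subgroup N) := ⟨⟨⟨_, huP⟩, 1, fun e => hu1 (by
    have := congrArg (fun x : (P : Subgroup N) => ((x : N) : G)) e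
    simpa using this)⟩⟩
  obtain ⟨z, -, hzc, hzo⟩ := PGroup.exists_mem_center_orderOf_eq P.2 (N := (⊤ : Subgroup (P : Subgroup N)))
    top_ne_bot
  have hz1 : ((z : N) : G) ≠ 1 := fun e => by
    rw [← orderOf_coe, ← orderOf_coe, e, orderOf_one] at hzo
    exact hp.ne_one hzo.symm
  have hzU : ((z : N) : G) ∈ U := T.cent u hu hu1 _ (z : N).2
    (congrArg (fun x : (P : Subgroup N) => ((x : N) : G)) (mem_center_iff.1 hzc ⟨_, huP⟩)).symm
  have hPU : ∀ x ∈ (P : Subgroup N), (x : G) ∈ U := fun x hx => T.cent _ hzU hz1 _ x.2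
    (congrArg (fun x : (P : Subgroup N) => ((x : N) : G)) (mem_center_iff.1 hzc ⟨x, hx⟩))
  have htop : M ⊔ N = ⊤ := by
    refine top_le_iff.1 ((Sylow.normalizer_sup_eq_top P).ge.trans (sup_le_sup_right ?_ N))
    intro g hg
    refine mem_normalizer_fintype fun a ha => ?_
    have hgu : g * u * g⁻¹ ∈ (P : Subgroup N).map N.subtype := (mem_normalizer_iff.1 hg u).1 ⟨_, huP, rfl⟩
    obtain ⟨w, hw, hwe⟩ := hgu
    have hwU : g * u * g⁻¹ ∈ U := hwe ▸ hPU w hw
    refine T.cent _ hwU (fun e => hu1 (conj_eq_one_iff.1 e)) _ ((inferInstance : N.Normal).conj_mem a (T.le ha) g) ?_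
    haveI := T.comm
    exact (show Commute a u from congrArg Subtype.val (mul_comm' (⟨a, ha⟩ : U) ⟨u, hu⟩)).map
      (MulAut.conj g).toMonoidHom
  have hcard : Nat.card M = 4 * k * N.index := by
    have h1 := Local.Baumann.card_sup_mul_inf (A := N) (B := M)
      (by rw [normalizer_eq_top_iff.2 (inferInstance : N.Normal)]; exact le_top)
    rw [sup_comm, htop, Subgroup.card_top, T.card_norm, ← N.card_mul_index, mul_assoc] at h1
    refine Nat.eq_of_mul_eq_mul_left (Nat.card_pos (α := N)) ?_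
    rw [← h1]; ring
  by_contra hℓk
  obtain ⟨Y⟩ : Nonempty (Sylow ℓ ↥M) := inferInstance
  obtain ⟨y, hy, hyN⟩ : ∃ y ∈ (Y : Subgroup ↥M), (y : G) ∉ N := by
    by_contra hall
    push Not at hall
    have h1 : Nat.card (Y : Subgroup ↥M) ∣ 4 * k := by
      rw [← T.card_norm, ← Core.card_map_subtype (Y : Subgroup ↥M)]
      refine card_dvd_of_le ?_
      rintro _ ⟨x, hx, rfl⟩
      exact ⟨hall x hx, x.2⟩
    have h2 : ℓ ∣ Nat.card (Y : Subgroup ↥M) := Y.dvd_card_of_dvd_card (hcard ▸ hℓN.mul_left _)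
    rcases hℓ.dvd_mul.1 (h2.trans h1) with h3 | h3
    · rw [show (4 : ℕ) = 2 ^ 2 from rfl] at h3
      exact hℓ2 ((Nat.prime_dvd_prime_iff_eq hℓ Nat.prime_two).1 (hℓ.dvd_of_dvd_pow h3))
    · exact hℓk h3
  -- the involutions of the normalizer
  obtain ⟨t, ht, hto⟩ : ∃ t ∈ N ⊓ M, orderOf t = 2 := by
    obtain ⟨⟨t, ht⟩, hto⟩ := exists_prime_orderOf_dvd_card' (G := ↥(N ⊓ M)) 2
      (T.card_norm ▸ dvd_mul_of_dvd_left (by norm_num) k)
    exact ⟨t, ht, by rwa [Subgroup.orderOf_mk] at hto⟩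
  let Ω := {s : G // s ∈ N ⊓ M ∧ orderOf s = 2}
  have hΩ : Nat.card Ω = k := by
    rw [← T.card]
    refine (Nat.card_congr
      { toFun := fun u : U => (⟨t * (u : G), ⟨mul_mem ht.1 (T.le u.2), mul_mem ht.2 (le_normalizer u.2)⟩, ?_⟩ : Ω)
        invFun := fun s : Ω => (⟨t * (s : G), ?_⟩ : U)
        left_inv := fun u => Subtype.ext (by simp [← mul_assoc, mul_self_invol hto])
        right_inv := fun s => Subtype.ext (by simp [← mul_assoc, mul_self_invol hto]) }).symm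
    · refine orderOf_eq_prime ?_ ?_
      · rw [pow_two]
        calc t * (u : G) * (t * (u : G)) = t * (u : G) * t⁻¹ * (u : G) := by
              rw [CIT.inv_eq_self_of_two hto]; group
          _ = 1 := by rw [T.inv_of_involution hto ht.1 ht.2 u.2, inv_mul_cancel]
      · intro e
        have h1 : t ∈ U := eq_inv_of_mul_eq_one_left e ▸ inv_mem u.2
        have h2 := T.eq_one_of_two h1 (j := 1) (by rw [pow_one]; exact sq_invol hto)
        rw [h2, orderOf_one] at hto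
        omega
    · obtain ⟨u, hu, hu1⟩ := (bot_or_exists_ne_one U).resolve_left fun e => by
        have := T.card; rw [e, Subgroup.card_bot] at this; have := T.one_lt; omega
      refine T.cent u hu hu1 _ (mul_mem ht.1 s.2.1.1) (mul_inv_eq_iff_eq_mul.1 ?_)
      rw [show t * (s : G) * u * (t * (s : G))⁻¹ = t * ((s : G) * u * (s : G)⁻¹) * t⁻¹ by group,
        T.inv_of_involution s.2.2 s.2.1.1 s.2.1.2 hu, show t * u⁻¹ * t⁻¹ = (t * u * t⁻¹)⁻¹ by group,
        T.inv_of_involution hto ht.1 ht.2 hu, inv_inv]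
  letI act : MulAction (Y : Subgroup ↥M) Ω :=
    { smul := fun c s => ⟨((c : ↥M) : G) * s * ((c : ↥M) : G)⁻¹,
        ⟨(inferInstance : N.Normal).conj_mem _ s.2.1.1 _,
          mul_mem (mul_mem (show ((c : ↥M) : G) ∈ M from (c : ↥M).2) s.2.1.2)
            (M.inv_mem (show ((c : ↥M) : G) ∈ M from (c : ↥M).2))⟩,
        (Invol.orderOf_conj_eq _ _).trans s.2.2⟩
      one_smul := fun s => Subtype.ext (show ((1 : (Y : Subgroup ↥M)) : ↥M).1 * (s : G) *
        (((1 : (Y : Subgroup ↥M)) : ↥M).1)⁻¹ = s by simp)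
      mul_smul := fun c d s => Subtype.ext (by
        show ((c * d : (Y : Subgroup ↥M)) : ↥M).1 * (s : G) * (((c * d : (Y : Subgroup ↥M)) : ↥M).1)⁻¹ =
          ((c : ↥M) : G) * (((d : ↥M) : G) * s * ((d : ↥M) : G)⁻¹) * ((c : ↥M) : G)⁻¹
        push_cast; group) }
  obtain ⟨s, hs⟩ := Y.2.nonempty_fixed_point_of_prime_not_dvd_card Ω (hΩ.symm ▸ hℓk)
  have hfix : (y : G) * s * (y : G)⁻¹ = (s : G) := congrArg Subtype.val (hs ⟨y, hy⟩)
  obtain ⟨i, hi⟩ := IsPGroup.iff_orderOf.1 Y.2 ⟨y, hy⟩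
  have hy1 : (y : G) = 1 := CIT.eq_one_of_odd_two (hG _ s.2.2)
    (mem_centralizer_singleton_iff.2 (mul_inv_eq_iff_eq_mul.1 hfix)) (by
      rw [Subgroup.orderOf_mk] at hi
      rw [orderOf_coe, hi]
      exact (hℓ.odd_of_ne_two hℓ2).pow)
  exact hyN (hy1 ▸ one_mem N)

end TorusData

/-- The tori of order `q ± r + 1`. -/
theorem exists_torusData {F : Type} [Field F] [Fintype F] {m : ℕ} (hm : 1 ≤ m)
    (hF : Fintype.card F = 2 ^ (2 * m + 1)) (N : Subgroup G) (e : N ≃* ↥(Cfsg.Sz F m)) {k : ℕ}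
    (hk : k ∈ ({2 ^ (2 * m + 1) + 2 ^ (m + 1) + 1, 2 ^ (2 * m + 1) - 2 ^ (m + 1) + 1} : Set ℕ)) :
    ∃ U : Subgroup G, TorusData N U k := by
  obtain ⟨U₀, hcyc, hcard, hcent, hnorm⟩ := Cfsg.Agent.S0333.result hm hF k hk
  haveI := hcyc
  set f : ↥(Cfsg.Sz F m) →* G := N.subtype.comp e.symm.toMonoidHom
  have hf : Function.Injective f := N.subtype_injective.comp e.symm.injective
  have hfN : ∀ x ∈ N, ∃ z, f z = x := fun x hx => ⟨e ⟨x, hx⟩, by simp [f]⟩
  have hqr : 2 ^ (m + 1) < 2 ^ (2 * m + 1) := Nat.pow_lt_pow_right (by norm_num) (by omega)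
  have he : 2 ^ (2 * m + 1) % 2 = 0 ∧ 2 ^ (m + 1) % 2 = 0 := by rw [pow_succ, pow_succ]; omega
  have hpos : 0 < 2 ^ (m + 1) ∧ 0 < 2 ^ (2 * m + 1) := ⟨Nat.two_pow_pos _, Nat.two_pow_pos _⟩
  refine ⟨U₀.map f, map_le_iff_le_comap.2 fun x _ => (e.symm x).2,
    (Subgroup.card_map_of_injective hf).trans hcard, ?_, ?_, ?_, ?_, ?_⟩
  · exact ⟨⟨fun a b => by
      obtain ⟨a', ha, ea⟩ := a.2
      obtain ⟨b', hb, eb⟩ := b.2
      refine Subtype.ext ?_
      show (a : G) * b = b * a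
      rw [← ea, ← eb, ← map_mul, ← map_mul]
      exact congrArg f (congrArg Subtype.val
        ((IsCyclic.commGroup (α := U₀)).mul_comm ⟨a', ha⟩ ⟨b', hb⟩))⟩⟩
  · rintro _ ⟨u, hu, rfl⟩ hu1 x hx hc
    obtain ⟨z, rfl⟩ := hfN x hx
    refine ⟨z, ?_, rfl⟩
    rw [← hcent u hu fun e => hu1 (by rw [e, map_one])]
    exact mem_centralizer_singleton_iff.2 (hf (by rw [map_mul, map_mul]; exact hc.eq))
  · rw [← hnorm, ← Subgroup.card_map_of_injective hf]
    have : N ⊓ normalizer ((U₀.map f : Subgroup G) : Set G) = (normalizer (U₀ : Set ↥(Cfsg.Sz F m))).map f := by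
      refine le_antisymm ?_ ?_
      · rintro x ⟨hxN, hxU⟩
        obtain ⟨z, rfl⟩ := hfN x hxN
        refine ⟨z, mem_normalizer_fintype fun a ha => ?_, rfl⟩
        obtain ⟨b, hb, hbe⟩ := (mem_normalizer_iff.1 hxU (f a)).1 ⟨a, ha, rfl⟩
        rw [← map_inv, ← map_mul, ← map_mul] at hbe
        exact hf hbe ▸ hb
      · rintro _ ⟨z, hz, rfl⟩
        refine ⟨(e.symm z).2, mem_normalizer_fintype ?_⟩
        rintro _ ⟨a, ha, rfl⟩
        exact ⟨z * a * z⁻¹, (mem_normalizer_iff.1 hz a).1 ha, by simp [map_mul]⟩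
    rw [this]
  · rcases hk with rfl | rfl <;> omega
  · rcases hk with rfl | rfl <;> (rw [Nat.odd_iff]; omega)

/-- A Suzuki group with trivial centralizer in a CIT group is the whole group. -/
theorem top_of_suzuki (hG : CIT.IsCIT G) (N : Subgroup G) [N.Normal] (hC : centralizer (N : Set G) = ⊥)
    {F : Type} [Field F] [Fintype F] {m : ℕ} (hm : 1 ≤ m) (hF : Fintype.card F = 2 ^ (2 * m + 1))
    (e : N ≃* ↥(Cfsg.Sz F m)) : N = ⊤ := by
  obtain ⟨f, -⟩ := Cfsg.Lib.Linear.Suz.exists_lie_equiv (F := F) (m := m) ⟨hm, hF⟩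
  rw [← Subgroup.index_eq_one]
  by_contra hne
  obtain ⟨ℓ, hℓ, hℓN⟩ := Nat.exists_prime_and_dvd hne
  have hd := index_dvd_out N hC (e.trans f)
  rw [Cfsg.Agent.S2126.result hm hF] at hd
  have hℓ2 : ℓ ≠ 2 := fun e => by
    have := hℓN.trans hd
    subst e
    omega
  obtain ⟨U, T⟩ := exists_torusData hm hF N e (Or.inl rfl : _ ∈ ({_, _} : Set ℕ))
  obtain ⟨U', T'⟩ := exists_torusData hm hF N e (Or.inr rfl : _ ∈ ({_, _} : Set ℕ))
  have h1 := T.dvd_of_index hG hℓ hℓ2 hℓN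
  have h2 := T'.dvd_of_index hG hℓ hℓ2 hℓN
  have hqr : 2 ^ (m + 1) ≤ 2 ^ (2 * m + 1) := Nat.pow_le_pow_right two_pos (by omega)
  have h3 := Nat.dvd_sub h1 h2
  rw [show 2 ^ (2 * m + 1) + 2 ^ (m + 1) + 1 - (2 ^ (2 * m + 1) - 2 ^ (m + 1) + 1) = 2 ^ (m + 2) by
    rw [pow_succ 2 (m + 1)]; omega] at h3
  exact hℓ2 ((Nat.prime_dvd_prime_iff_eq hℓ Nat.prime_two).1 (hℓ.dvd_of_dvd_pow h3))

end Cfsg.Lib.CompOrd
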