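import Cfsg.Agent.Lib.CompositeOrder.LThreeFourTop
import Cfsg.Agent.Lib.CompositeOrder.SuzukiTop
import Cfsg.Agent.Lib.CompositeOrder.AutTop
import Cfsg.Agent.Lib.CompositeOrder.Radical
import Cfsg.Agent.Lib.CompositeOrder.Main
import Cfsg.Agent.Lib.CIT.Consumers.Inputs
import Cfsg.Agent.S0324
import Cfsg.Agent.S0325
import Cfsg.Agent.S0328
import Cfsg.Agent.S0333

/-!
Groups that are not solvable in which every prime divides at most two element orders.
-/

set_option autoImplicit false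
set_option linter.style.haveILetI false

namespace Cfsg.Lib.CompOrd

open Subgroup
open Cfsg.Lib

universe u

/-- The groups that are not solvable in which every prime divides at most two element orders. -/
def TwoOrdersList (G : Type u) [Group G] : Prop :=
  (∃ (F : Type) (_ : Field F) (_ : Fintype F), CharP F 2 ∧ 4 ≤ Fintype.card F ∧
      (Fintype.card F + 1).primeFactorsList.length ≤ 2 ∧ (Fintype.card F - 1).primeFactorsList.length ≤ 2 ∧
      Nonempty (G ⧸ Cfsg.pCore 2 G ≃* Matrix.ProjectiveSpecialLinearGroup (Fin 2) F)) ∨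
  (∃ (F : Type) (_ : Field F) (_ : Fintype F), 5 < Fintype.card F ∧
      (Fintype.card F % 8 = 3 ∨ Fintype.card F % 8 = 5) ∧
      ((Fintype.card F + 1) / 2).primeFactorsList.length ≤ 2 ∧
      ((Fintype.card F - 1) / 2).primeFactorsList.length ≤ 2 ∧
      Nonempty (G ≃* Matrix.ProjectiveSpecialLinearGroup (Fin 2) F)) ∨
  (∃ (F : Type) (_ : Field F) (_ : Fintype F), (Fintype.card F = 7 ∨ Fintype.card F = 9) ∧
      Nonempty (G ≃* Matrix.ProjectiveSpecialLinearGroup (Fin 2) F)) ∨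
  (∃ (F : Type) (_ : Field F) (_ : Fintype F), Fintype.card F = 4 ∧
      Nonempty (G ≃* Matrix.ProjectiveSpecialLinearGroup (Fin 3) F)) ∨
  (∃ n : ℕ, 1 ≤ n ∧ IsSimpleGroup G ∧
      Nat.card G = (2 ^ (2 * n + 1)) ^ 2 * ((2 ^ (2 * n + 1)) ^ 2 + 1) * (2 ^ (2 * n + 1) - 1) ∧
      (2 ^ (2 * n + 1) - 1).primeFactorsList.length ≤ 2 ∧
      (2 ^ (2 * n + 1) - 2 ^ (n + 1) + 1).primeFactorsList.length ≤ 2 ∧
      (2 ^ (2 * n + 1) + 2 ^ (n + 1) + 1).primeFactorsList.length ≤ 2)

variable {G : Type u} [Group G] [Finite G]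

/-- A group isomorphic to its top subgroup. -/
noncomputable def equivOfTop {H : Type} [Group H] {N : Subgroup G} (hN : N = ⊤) (e : N ≃* H) : G ≃* H :=
  (Subgroup.topEquiv.symm.trans (MulEquiv.subgroupCongr hN.symm)).trans e

/-- The group itself when the radical is trivial. -/
noncomputable def equivOfBot {H : Type} [Group H] {R : Subgroup G} [R.Normal] (hR : R = ⊥) (e : G ⧸ R ≃* H) :
    G ≃* H :=
  (QuotientGroup.quotientBot.symm.trans (QuotientGroup.quotientMulEquivOfEq hR.symm)).trans e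

/-- All elements of even order are involutions: `PSL(2, 2^f)`. -/
theorem allTwo (hns : ¬ Group.IsSolvable G) (h : ∀ x : G, 2 ∣ orderOf x → orderOf x = 2) :
    ∃ (F : Type) (_ : Field F) (_ : Fintype F), CharP F 2 ∧ 4 ≤ Fintype.card F ∧
      Nonempty (G ≃* Matrix.ProjectiveSpecialLinearGroup (Fin 2) F) := by
  classical
  haveI : Fact (Nat.Prime 2) := ⟨Nat.prime_two⟩
  have hev : Even (Nat.card G) := by
    by_contra h
    exact hns (Cfsg.Agent.S0205.result (Nat.not_even_iff_odd.1 h))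
  have hsq : ∀ t y : G, orderOf t = 2 → Commute t y → y ^ 2 = 1 := by
    intro t y ht hc
    by_cases h2 : 2 ∣ orderOf y
    · rw [← h y h2, pow_orderOf_eq_one]
    have h1 := hc.orderOf_mul_eq_mul_orderOf_of_coprime (by
      rw [ht]; exact Nat.prime_two.coprime_iff_not_dvd.2 h2)
    rw [ht] at h1
    have h3 := h (t * y) (h1 ▸ dvd_mul_right 2 _)
    rw [orderOf_eq_one_iff.1 (show orderOf y = 1 by omega), one_pow]
  have hab : ∀ t : G, orderOf t = 2 → IsMulCommutative ↥(centralizer ({t} : Set G)) := fun t ht =>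
    ⟨⟨fun a b => by
      have hx : ∀ c : ↥(centralizer ({t} : Set G)), c * c = 1 := fun c => Subtype.ext (by
        rw [Subgroup.coe_mul, ← pow_two]
        exact hsq t c ht (mem_centralizer_singleton_iff.1 c.2).symm)
      have hi : ∀ c : ↥(centralizer ({t} : Set G)), c⁻¹ = c := fun c => inv_eq_of_mul_eq_one_left (hx c)
      calc a * b = (a * b)⁻¹ := (hi _).symm
        _ = b * a := by rw [mul_inv_rev, hi, hi]⟩⟩
  obtain ⟨S⟩ : Nonempty (Sylow 2 G) := inferInstance
  obtain hc | hn | ⟨F, i, j, A, iA, jA, hF, hA, ⟨e⟩⟩ := Cfsg.Agent.S2202.result hev hab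
  · exact absurd (hc S) (GW.not_isCyclic_sylow hns S)
  · exfalso
    haveI := hn S
    refine hns ?_
    haveI : Group.IsSolvable (G ⧸ (S : Subgroup G)) := Cfsg.Agent.S0205.result (Nat.odd_iff.2 (by
      rw [← Subgroup.index_eq_card]
      have := S.not_dvd_index
      omega))
    haveI := S.2.isNilpotent
    exact Group.isSolvable_of_ker_le_range (S : Subgroup G).subtype (QuotientGroup.mk' (S : Subgroup G))
      (by rw [QuotientGroup.ker_mk', range_subtype])
  haveI := hF
  have hA1 : ∀ a : A, a = 1 := by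
    intro a
    have hev' : 2 ∣ Nat.card (Matrix.SpecialLinearGroup (Fin 2) F) := by
      have h1 : 2 ∣ Nat.card G := hev.two_dvd
      rw [Nat.card_congr e.toEquiv, Nat.card_prod] at h1
      exact (Nat.coprime_two_left.2 hA).dvd_of_dvd_mul_right h1
    obtain ⟨s, hs⟩ := exists_prime_orderOf_dvd_card' 2 hev'
    have h1 : orderOf (e.symm (s, a)) = 2 * orderOf a := by
      rw [MulEquiv.orderOf_eq, Prod.orderOf, hs]
      exact (Nat.coprime_two_left.2 (hA.of_dvd_nat (orderOf_dvd_natCard a))).lcm_eq_mul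
    have h2 := h _ (h1 ▸ dvd_mul_right 2 _)
    rw [h1] at h2
    exact orderOf_eq_one_iff.1 (by omega)
  haveI : Unique A := ⟨⟨1⟩, hA1⟩
  let e' : G ≃* Matrix.ProjectiveSpecialLinearGroup (Fin 2) F :=
    (e.trans MulEquiv.prodUnique).trans Cfsg.Lib.Spec.pslEquivOfCharTwo.symm
  refine ⟨F, i, j, hF, ?_, ⟨e'⟩⟩
  by_contra h4
  obtain ⟨n, -, hn⟩ := FiniteField.card F 2
  have hq : Fintype.card F = 2 := by
    obtain ⟨n, hn1⟩ := n
    rcases n with _ | _ | n
    · omega
    · simpa using hn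
    · have : 2 ^ 2 ≤ Fintype.card F := hn ▸ Nat.pow_le_pow_right two_pos (by simp)
      omega
  refine hns (GW.isSolvable_of_not_four_dvd ?_)
  rw [Nat.card_congr (e.trans MulEquiv.prodUnique).toEquiv, Cfsg.Lib.Linear.Two.card_SL_two, hq]
  norm_num

theorem allTwo_quotient (hns : ¬ Group.IsSolvable G) (h2 : TwoOrders G) (R : Subgroup G) [R.Normal]
    (hR : R = Cfsg.pCore 2 G) (hnsR : ¬ Group.IsSolvable (G ⧸ R))
    (h : ∀ x : G ⧸ R, 2 ∣ orderOf x → orderOf x = 2) : TwoOrdersList G := by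
  obtain ⟨F, i, j, hF, h4, ⟨e⟩⟩ := allTwo hnsR h
  haveI := hF
  obtain ⟨n, -, hn⟩ := FiniteField.card F 2
  have hgcd : Nat.gcd 2 (Fintype.card F - 1) = 1 := Nat.coprime_two_left.2 (Nat.odd_iff.2 (by
    have : 2 ∣ Fintype.card F := hn ▸ dvd_pow_self 2 n.pos.ne'
    omega))
  subst hR
  refine Or.inl ⟨F, i, j, hF, h4, ?_, ?_, ⟨e⟩⟩
  · exact (h2.quotient _).omega_le_two fun d hd =>
      exists_order_of_iso h4 e (Or.inr (by rwa [hgcd, Nat.div_one]))
  · exact (h2.quotient _).omega_le_two fun d hd =>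
      exists_order_of_iso h4 e (Or.inl (by rwa [hgcd, Nat.div_one]))

/-- All elements of even order are involutions. -/
theorem case_two (hns : ¬ Group.IsSolvable G) (h2 : TwoOrders G)
    (h : ∀ x : G, 2 ∣ orderOf x → orderOf x = 2) : TwoOrdersList G := by
  refine allTwo_quotient hns h2 _ rfl (not_isSolvable_quotient_pCore hns) fun x hx => ?_
  obtain ⟨g, hg⟩ := TwoOrders.exists_order_of_quotient (Cfsg.pCore 2 G) x
  rw [← hg] at hx ⊢
  exact h g hx

/-- Lifts of elements of order four or of odd order. -/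
theorem lift_pow (hev : ∀ g : G, 2 ∣ orderOf g → orderOf g = 2 ∨ orderOf g = 4) {R : Subgroup G} [R.Normal]
    (hR : IsPGroup 2 R) {u : G ⧸ R} {n : ℕ} (hu : orderOf u = n) (hn : n = 4 ∨ (Odd n ∧ 1 < n)) (g : G)
    (hg : (g : G ⧸ R) = u) : g ^ n = 1 := by
  have hd : n ∣ orderOf g := by
    rw [← hu, ← hg]; exact orderOf_map_dvd (QuotientGroup.mk' R) g
  rcases hn with rfl | ⟨hn, hn1⟩
  · rcases hev g ((by norm_num : 2 ∣ 4).trans hd) with e | e
    · rw [e] at hd; norm_num at hd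
    · rw [← e, pow_orderOf_eq_one]
  have hodd : ¬ 2 ∣ orderOf g := fun h2 => by
    rcases hev g h2 with e | e <;> rw [e] at hd
    · have := Nat.le_of_dvd (by norm_num) hd
      interval_cases n
      revert hn; decide
    · have := Nat.le_of_dvd (by norm_num) hd
      interval_cases n <;> revert hn hd <;> decide
  have hmem : g ^ n ∈ R := by
    rw [← QuotientGroup.eq_one_iff, QuotientGroup.mk_pow, hg, ← hu, pow_orderOf_eq_one]
  obtain ⟨k, hk⟩ := IsPGroup.iff_orderOf.1 hR ⟨g ^ n, hmem⟩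
  rw [Subgroup.orderOf_mk] at hk
  refine orderOf_eq_one_iff.1 (Nat.Coprime.eq_one_of_dvd ?_ (orderOf_pow_dvd n))
  rw [hk]
  exact ((Nat.prime_two.coprime_iff_not_dvd.2 hodd).pow_left k)

/-- The Frobenius group of order 21 kills the radical. -/
theorem radical_eq_bot_of_seven (hG : CIT.IsCIT G)
    (hev : ∀ g : G, 2 ∣ orderOf g → orderOf g = 2 ∨ orderOf g = 4) {R : Subgroup G} [R.Normal]
    (hR : IsPGroup 2 R) (hE : CIT.IsEppo (G ⧸ R))
    (hc : Nat.card (G ⧸ R) = 168 ∨ Nat.card (G ⧸ R) = 20160) : R = ⊥ := by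
  haveI : Fact (Nat.Prime 3) := ⟨Nat.prime_three⟩
  haveI : Fact (Nat.Prime 7) := ⟨by norm_num⟩
  obtain ⟨P, x, hP, hx, hxn⟩ : ∃ (P : Subgroup (G ⧸ R)) (x : G ⧸ R),
      Nat.card P = 7 ∧ orderOf x = 3 ∧ x ∈ normalizer (P : Set (G ⧸ R)) := by
    rcases hc with hc | hc
    · exact hE.exists_pair (M := ⊤) ((Subgroup.card_top).trans hc) (by norm_num) (by norm_num) (by decide)
    · exact hE.exists_pair (M := ⊤) ((Subgroup.card_top).trans hc) (by norm_num) (by norm_num) (by decide)
  refine radical_eq_bot_of_frobenius hG hR (A := P) (by rw [hP]; decide)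
    (fun e => by rw [e, Subgroup.card_bot] at hP; norm_num at hP) (u := x) (n := 3) (by norm_num)
    (fun a ha => (mem_normalizer_iff.1 hxn a).1 ha) ?_
    (fun g hg => lift_pow hev hR hx (Or.inr ⟨by decide, by norm_num⟩) g hg)
  intro i hi0 hi a ha hcom
  by_contra ha1
  have hao : orderOf a = 7 := by
    rcases (Nat.dvd_prime (by norm_num)).1 (hP ▸ Subgroup.orderOf_dvd_natCard P ha) with h | h
    · exact absurd (orderOf_eq_one_iff.1 h) ha1
    · exact h
  have hio : orderOf (x ^ i) = 3 := by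
    rw [Nat.Coprime.orderOf_pow (by rw [hx]; interval_cases i <;> decide), hx]
  have h21 : orderOf (a * x ^ i) = 21 := by
    rw [hcom.orderOf_mul_eq_mul_orderOf_of_coprime (by rw [hao, hio]; norm_num), hao, hio]
  obtain ⟨w, k, hw, -, hwk⟩ := hE (a * x ^ i) fun e => by rw [e, orderOf_one] at h21; norm_num at h21
  rw [h21] at hwk
  have h7 := (Nat.prime_dvd_prime_iff_eq (show Nat.Prime 7 by norm_num) (Nat.prime_iff.2 hw)).1
    ((show Nat.Prime 7 by norm_num).dvd_of_dvd_pow (hwk ▸ (by norm_num : 7 ∣ 21)))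
  have h3 := (Nat.prime_dvd_prime_iff_eq Nat.prime_three (Nat.prime_iff.2 hw)).1
    (Nat.prime_three.dvd_of_dvd_pow (hwk ▸ (by norm_num : 3 ∣ 21)))
  omega

/-- The orders in `PSL(2, q)`, `q` an odd prime power. -/
theorem order_of_iso_odd {L : Type u} [Group L] {F : Type} [Field F] [Fintype F] {p f : ℕ} [Fact p.Prime]
    (hq : Fintype.card F = p ^ f) (hodd : Fintype.card F % 2 = 1) (h4 : 4 ≤ Fintype.card F)
    (e : L ≃* Matrix.ProjectiveSpecialLinearGroup (Fin 2) F) (x : L) :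
    orderOf x ∣ p ∨ orderOf x ∣ (Fintype.card F - 1) / 2 ∨ orderOf x ∣ (Fintype.card F + 1) / 2 := by
  haveI : CharP F p := charP_of_card_eq_prime_pow (R := F) (p := p) (f := f) (by simpa using hq)
  have hk : orderOf x ∈ Set.range (orderOf : Matrix.ProjectiveSpecialLinearGroup (Fin 2) F → ℕ) :=
    ⟨e x, MulEquiv.orderOf_eq e x⟩
  rw [Cfsg.Lib.Spec.psl_two_spectrum p h4, Nat.gcd_eq_left (by omega : 2 ∣ Fintype.card F - 1)] at hk
  exact hk

theorem isEppo_psl7 {L : Type u} [Group L] [Finite L] {F : Type} [Field F] [Fintype F]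
    (hq : Fintype.card F = 7) (e : L ≃* Matrix.ProjectiveSpecialLinearGroup (Fin 2) F) : CIT.IsEppo L := by
  haveI : Fact (Nat.Prime 7) := ⟨by norm_num⟩
  intro g hg
  have h1 : orderOf g ≠ 1 := fun h => hg (orderOf_eq_one_iff.1 h)
  have hk := order_of_iso_odd (p := 7) (f := 1) (by rw [hq]; norm_num) (by omega) (by omega) e g
  rw [hq] at hk
  norm_num at hk
  have hmem : orderOf g = 2 ∨ orderOf g = 3 ∨ orderOf g = 4 ∨ orderOf g = 7 := by
    rcases hk with h | h | h <;> have hle := Nat.le_of_dvd (by norm_num) h <;>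
      interval_cases hn : orderOf g <;> simp_all
  rcases hmem with h | h | h | h <;> rw [h]
  · exact Nat.prime_two.isPrimePow
  · exact Nat.prime_three.isPrimePow
  · exact ⟨2, 2, Nat.prime_two.prime, by norm_num, by norm_num⟩
  · exact (show Nat.Prime 7 by norm_num).isPrimePow

/-- A Sylow 3-subgroup of `PSL(2, 9)` kills the radical. -/
theorem radical_eq_bot_of_nine (hG : CIT.IsCIT G) {R : Subgroup G} [R.Normal] (hR : IsPGroup 2 R)
    {F : Type} [Field F] [Fintype F] (hq : Fintype.card F = 9)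
    (e : G ⧸ R ≃* Matrix.ProjectiveSpecialLinearGroup (Fin 2) F) : R = ⊥ := by
  haveI : Fact (Nat.Prime 3) := ⟨Nat.prime_three⟩
  have hc : Nat.card (G ⧸ R) = 360 := by
    rw [Nat.card_congr e.toEquiv]
    have := GW.DGroup.card_psl_two (F := F) (by rw [hq]; decide)
    rw [hq] at this
    omega
  obtain ⟨P⟩ : Nonempty (Sylow 3 (G ⧸ R)) := inferInstance
  have hf : (360 : ℕ).factorization 3 = 2 := by
    rw [show (360 : ℕ) = 3 ^ 2 * 40 by norm_num, Nat.factorization_mul (by norm_num) (by norm_num),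
      Finsupp.add_apply, Nat.prime_three.factorization_pow, Finsupp.single_eq_same,
      Nat.factorization_eq_zero_of_not_dvd (by norm_num)]
  have hP : Nat.card (P : Subgroup (G ⧸ R)) = 3 ^ 2 := by rw [P.card_eq_multiplicity, hc, hf]
  haveI := IsPGroup.isMulCommutative_of_card_eq_prime_sq hP
  refine radical_eq_bot_of_not_cyclic hG hR (A := (P : Subgroup (G ⧸ R))) (by rw [hP]; decide) fun hcyc => ?_
  haveI := hcyc
  obtain ⟨g, hg⟩ := IsCyclic.exists_ofOrder_eq_natCard (α := ↥(P : Subgroup (G ⧸ R)))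
  have hk := order_of_iso_odd (p := 3) (f := 2) (by rw [hq]; norm_num) (by omega) (by omega) e (g : G ⧸ R)
  rw [hq, Subgroup.orderOf_coe, hg, hP] at hk
  norm_num at hk

/-- A torus normalised by an element of order four kills the radical. -/
theorem radical_eq_bot_of_suzuki (hG : CIT.IsCIT G)
    (hev : ∀ g : G, 2 ∣ orderOf g → orderOf g = 2 ∨ orderOf g = 4) {R : Subgroup G} [R.Normal]
    (hR : IsPGroup 2 R) {F : Type} [Field F] [Fintype F] {m : ℕ} (hm : 1 ≤ m)
    (hF : Fintype.card F = 2 ^ (2 * m + 1)) (e : G ⧸ R ≃* ↥(Cfsg.Sz F m)) : R = ⊥ := by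
  obtain ⟨U, T⟩ := exists_torusData (G := G ⧸ R) hm hF ⊤ (Subgroup.topEquiv.trans e)
    (Or.inl rfl : _ ∈ ({_, _} : Set ℕ))
  obtain ⟨y, hy, hyo, hfpf⟩ := T.exists_four
  exact radical_eq_bot_of_frobenius hG hR (A := U) (by rw [T.card]; exact T.odd)
    (fun e => by have := T.card; rw [e, Subgroup.card_bot] at this; have := T.one_lt; omega)
    (u := y) (n := 4) (by norm_num) (fun a ha => (mem_normalizer_iff.1 hy.2 a).1 ha) hfpf
    (fun g hg => lift_pow hev hR hyo (Or.inl rfl) g hg)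

theorem exists_order_suzuki {F : Type} [Field F] [Fintype F] {m : ℕ} (hm : 1 ≤ m)
    (hF : Fintype.card F = 2 ^ (2 * m + 1)) (e : G ≃* ↥(Cfsg.Sz F m)) {k d : ℕ}
    (hk : k = 2 ^ (2 * m + 1) - 1 ∨ k = 2 ^ (2 * m + 1) - 2 ^ (m + 1) + 1 ∨
      k = 2 ^ (2 * m + 1) + 2 ^ (m + 1) + 1) (hd : d ∣ k) : ∃ x : G, orderOf x = d := by
  classical
  obtain ⟨z, hz⟩ : ∃ z : ↥(Cfsg.Sz F m), orderOf z = k := by
    have htor : k ∈ ({2 ^ (2 * m + 1) + 2 ^ (m + 1) + 1, 2 ^ (2 * m + 1) - 2 ^ (m + 1) + 1} : Set ℕ) →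
        ∃ z : ↥(Cfsg.Sz F m), orderOf z = k := fun hk => by
      obtain ⟨U, hU, hUc, -, -⟩ := Cfsg.Agent.S0333.result hm hF k hk
      haveI := hU
      obtain ⟨z, hz⟩ := IsCyclic.exists_ofOrder_eq_natCard (α := U)
      exact ⟨z, by rw [orderOf_coe, hz, hUc]⟩
    rcases hk with h | h | h
    · obtain ⟨f⟩ := Cfsg.Agent.S0328.result hm hF
      obtain ⟨z, hz⟩ := IsCyclic.exists_ofOrder_eq_natCard (α := Fˣ)
      refine ⟨(f.symm z).1, ?_⟩
      rw [orderOf_coe, MulEquiv.orderOf_eq, hz, Nat.card_eq_fintype_card, Fintype.card_units, hF, h]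
    · exact htor (Or.inr h)
    · exact htor (Or.inl h)
  refine ⟨e.symm (z ^ (orderOf z / d)), ?_⟩
  rw [MulEquiv.orderOf_eq]
  exact orderOf_pow_orderOf_div (orderOf_pos z).ne' (hz ▸ hd)

/-- An element of order four. -/
theorem case_four (hns : ¬ Group.IsSolvable G) (h2 : TwoOrders G) {x : G} (hx : orderOf x = 4) :
    TwoOrdersList G := by
  haveI : Fact (Nat.Prime 2) := ⟨Nat.prime_two⟩
  have hG := h2.isCIT_of_four hx
  have hev : ∀ g : G, 2 ∣ orderOf g → orderOf g = 2 ∨ orderOf g = 4 := fun g hg =>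
    hx ▸ (h2.even_cases (x := x) (by rw [hx]; norm_num) (by rw [hx]; norm_num)).2 g hg
  set R := Cfsg.pCore 2 G with hRdef
  have hR : IsPGroup 2 R := Core.pCore_isPGroup 2 G
  have hQns : ¬ Group.IsSolvable (G ⧸ R) := not_isSolvable_quotient_pCore hns
  by_cases hall : ∀ y : G ⧸ R, 2 ∣ orderOf y → orderOf y = 2
  · exact allTwo_quotient hns h2 R hRdef hQns hall
  push Not at hall
  obtain ⟨y, hy2, hy⟩ := hall
  have hy4 : orderOf y = 4 := by
    obtain ⟨g, hg⟩ := TwoOrders.exists_order_of_quotient R y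
    rw [← hg] at hy hy2 ⊢
    exact (hev g hy2).resolve_left hy
  have hQ : CIT.IsCIT (G ⧸ R) := isCIT_quotient_pCore hG
  have hrad : ∀ N : Subgroup (G ⧸ R), N.Normal → Group.IsSolvable N → N = ⊥ := fun N hN hs =>
    haveI := hN
    solvable_normal_eq_bot_of_cit hQns hQ Core.pCore_quotient_pCore_eq_bot hs
  obtain ⟨N, hN, hNs, hNna, hNC⟩ := exists_simple_normal hQns hrad fun t ht => solvable_centralizer_of_cit hQ ht
  haveI := hN
  haveI := hNs
  have hNcit : CIT.IsCIT ↥N := hQ.subgroup N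
  rcases CIT.citListHolds ↥N hNna hNcit with ⟨F, i, j, hl, ⟨e⟩⟩ | ⟨F, i, j, hF, ⟨e⟩⟩ | hs
  · have h4 := CIT.four_le_of_iso hNna e
    have hNT := top_of_psl (h2.quotient R) N hNC h4 e
    let eQ : G ⧸ R ≃* Matrix.ProjectiveSpecialLinearGroup (Fin 2) F := equivOfTop hNT e
    have hq : Fintype.card F = 7 ∨ Fintype.card F = 9 := by
      rcases hl with h | ⟨n, hn⟩ | ⟨hp, k, hk⟩
      · exact Or.inr h
      · exfalso
        have he : 2 ^ n % 2 = 0 := by
          rcases n with _ | n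
          · rw [pow_zero] at hn; omega
          · rw [pow_succ]; omega
        have hpos := Nat.two_pow_pos n
        rcases order_of_iso_two hn h4 eQ y with h | h | h <;> rw [hy4] at h
        · norm_num at h
        · have := (dvd_trans (by norm_num : 2 ∣ 4) h); omega
        · have := (dvd_trans (by norm_num : 2 ∣ 4) h); omega
      · have ho : Fintype.card F % 2 = 1 := by rcases hp.eq_two_or_odd with h | h <;> omega
        have hgcd : Nat.gcd 2 (Fintype.card F - 1) = 2 := Nat.gcd_eq_left (by omega)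
        rcases k with _ | k
        · rw [pow_zero] at hk; omega
        rw [pow_succ] at hk
        obtain ⟨z, hz⟩ := exists_order_of_iso (k := 2 ^ k) h4 eQ (by
          rw [hgcd]
          rcases hk with hk | hk
          · left; rw [show (Fintype.card F - 1) / 2 = 2 ^ k by omega]
          · right; rw [show (Fintype.card F + 1) / 2 = 2 ^ k by omega])
        have hk2 : 2 ^ k = 1 ∨ 2 ^ k = 2 ∨ 2 ^ k = 4 := by
          rcases k with _ | k
          · exact Or.inl (pow_zero 2)
          obtain ⟨g, hg⟩ := TwoOrders.exists_order_of_quotient R z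
          rw [← hz, ← hg]
          exact Or.inr (hev g (hg ▸ hz ▸ dvd_pow_self 2 k.succ_ne_zero))
        have hne : Fintype.card F ≠ 5 := fun h5 => by
          haveI : Fact (Nat.Prime 5) := ⟨by norm_num⟩
          have := order_of_iso_odd (p := 5) (f := 1) (by rw [h5]; norm_num) ho h4 eQ y
          rw [hy4, h5] at this
          norm_num at this
        omega
    have hRbot : R = ⊥ := by
      rcases hq with hq | hq
      · refine radical_eq_bot_of_seven hG hev hR (isEppo_psl7 hq eQ) (Or.inl ?_)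
        rw [Nat.card_congr eQ.toEquiv]
        have := GW.DGroup.card_psl_two (F := F) (by rw [hq]; decide)
        rw [hq] at this
        omega
      · exact radical_eq_bot_of_nine hG hR hq eQ
    exact Or.inr (Or.inr (Or.inl ⟨F, i, j, hq, ⟨equivOfBot hRbot eQ⟩⟩))
  · have hZ : center ↥N = ⊥ := (IsSimpleGroup.eq_bot_or_eq_top_of_normal _ inferInstance).resolve_right fun h =>
      hNna ⟨⟨fun a b => (mem_center_iff.1 (h ▸ mem_top b) a)⟩⟩
    have hNT := top_of_psl34 (h2.quotient R) hQ N hNC hZ hF e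
    let eQ : G ⧸ R ≃* Matrix.ProjectiveSpecialLinearGroup (Fin 3) F := equivOfTop hNT e
    have hRbot : R = ⊥ := radical_eq_bot_of_seven hG hev hR (isEppo_psl34 hF eQ)
      (Or.inr ((Nat.card_congr eQ.toEquiv).trans (CIT.card_psl_three_four hF)))
    exact Or.inr (Or.inr (Or.inr (Or.inl ⟨F, i, j, hF, ⟨equivOfBot hRbot eQ⟩⟩)))
  · obtain ⟨F, i, j, m, hm, hF, ⟨e⟩⟩ := CIT.suzukiIso ↥N hNna hNcit hs
    obtain ⟨f, -⟩ := Cfsg.Lib.Linear.Suz.exists_lie_equiv (F := F) (m := m) ⟨hm, hF⟩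
    have hNT := top_of_suzuki hQ N hNC hm hF (e.trans f.symm)
    let eQ : G ⧸ R ≃* ↥(Cfsg.Sz F m) := equivOfTop hNT (e.trans f.symm)
    have hRbot := radical_eq_bot_of_suzuki hG hev hR hm hF eQ
    let eG : G ≃* ↥(Cfsg.Sz F m) := equivOfBot hRbot eQ
    haveI := Cfsg.Agent.S0325.result hm hF
    haveI : Nontrivial G := eG.toEquiv.nontrivial
    refine Or.inr (Or.inr (Or.inr (Or.inr ⟨m, hm,
      IsSimpleGroup.isSimpleGroup_of_surjective eG.symm.toMonoidHom eG.symm.surjective, ?_, ?_, ?_, ?_⟩)))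
    · rw [Nat.card_congr eG.toEquiv, Cfsg.Agent.S0324.result hm hF]
    · exact h2.omega_le_two fun d hd => exists_order_suzuki hm hF eG (Or.inl rfl) hd
    · exact h2.omega_le_two fun d hd => exists_order_suzuki hm hF eG (Or.inr (Or.inl rfl)) hd
    · exact h2.omega_le_two fun d hd => exists_order_suzuki hm hF eG (Or.inr (Or.inr rfl)) hd

/-- An element of order twice an odd prime. -/
theorem case_two_r (hns : ¬ Group.IsSolvable G) (h2 : TwoOrders G) {x : G} {r : ℕ} (hr : r.Prime) (hr2 : r ≠ 2)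
    (hx : orderOf x = 2 * r) : TwoOrdersList G := by
  haveI : Fact (Nat.Prime 2) := ⟨Nat.prime_two⟩
  have hH := h2.hyp_of_two_r hr hr2 hx
  have hro : r % 2 = 1 := Nat.odd_iff.1 (hr.odd_of_ne_two hr2)
  have hr3 : 3 ≤ r := by have := hr.two_le; omega
  obtain ⟨N, hN, hNs, hNna, hNC⟩ := exists_simple_normal hns
    (fun K hK hs => haveI := hK; hH.solvable_normal_eq_bot hns hs) fun t ht => hH.solvable_centralizer ht
  haveI := hN
  haveI := hNs
  by_cases hall : ∀ z : ↥N, 2 ∣ orderOf z → orderOf z = 2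
  · exfalso
    obtain ⟨F, i, j, n, hF, hn, h4, ⟨e⟩⟩ := psl_of_even_orders hNna hall
    have hNT := top_of_psl h2 N hNC h4 e
    have he : 2 ^ n % 2 = 0 := by
      rcases n with _ | n
      · rw [pow_zero] at hn; omega
      · rw [pow_succ]; omega
    have hpos := Nat.two_pow_pos n
    rcases order_of_iso_two hn h4 (equivOfTop hNT e) x with h | h | h <;> rw [hx] at h
    · have := Nat.le_of_dvd two_pos h; omega
    · have := (dvd_trans (dvd_mul_right 2 r) h); omega
    · have := (dvd_trans (dvd_mul_right 2 r) h); omega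
  push Not at hall
  obtain ⟨z, hz2, hz⟩ := hall
  have hzo : orderOf z = 2 * r := by
    rcases (h2.even_cases (x := x) (by rw [hx]; exact dvd_mul_right 2 r) (by omega)).2 (z : G)
      (by rwa [orderOf_coe]) with h | h <;> rw [orderOf_coe] at h
    · exact absurd h hz
    · exact h.trans hx
  have hHN : Hyp ↥N r := hH.of_injective N.subtype N.subtype_injective
  obtain ⟨S⟩ : Nonempty (Sylow 2 ↥N) := inferInstance
  have h8 : ¬ 8 ≤ Nat.card (S : Subgroup ↥N) := by
    intro h8
    have ht : orderOf (z ^ r) = 2 := by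
      rw [orderOf_pow_of_dvd hr.ne_zero (hzo ▸ dvd_mul_left r 2), hzo, Nat.mul_div_cancel _ hr.pos]
    have := orderOf_dvd_of_pow_eq_one (hHN.sq_eq_one_of_commute S h8 ht ((Commute.refl z).pow_left r))
    have := Nat.le_of_dvd two_pos this
    omega
  have h4 : 4 ∣ Nat.card ↥N := by
    by_contra h
    exact GW.not_isSolvable_of_simple hNna (GW.isSolvable_of_not_four_dvd h)
  have hS4 : Nat.card (S : Subgroup ↥N) = 4 := by
    obtain ⟨n, hn⟩ := IsPGroup.iff_card.1 S.2
    have h4' : (2 : ℕ) ^ 2 ∣ Nat.card (S : Subgroup ↥N) := by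
      refine (Nat.Coprime.pow_left 2 (Nat.prime_two.coprime_iff_not_dvd.2 S.not_dvd_index)).dvd_of_dvd_mul_right ?_
      rw [card_mul_index]
      simpa using h4
    have := Nat.le_of_dvd Nat.card_pos h4'
    have hn3 : n < 3 := by
      by_contra hc
      exact h8 (hn ▸ Nat.pow_le_pow_right two_pos (show 3 ≤ n by omega))
    rw [hn] at this ⊢
    interval_cases n <;> omega
  obtain ⟨F, i, j, h3, hq8, ⟨e⟩⟩ := psl_of_sylow_four hNna S hS4 (fun w hw => hHN.sylow_sq S hw)
  have hNT := top_of_psl h2 N hNC (by omega) e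
  let eG : G ≃* Matrix.ProjectiveSpecialLinearGroup (Fin 2) F := equivOfTop hNT e
  have hgcd : Nat.gcd 2 (Fintype.card F - 1) = 2 := Nat.gcd_eq_left (by omega)
  have h5 : Fintype.card F ≠ 5 := fun h5 => by
    haveI : Fact (Nat.Prime 5) := ⟨by norm_num⟩
    have hk := order_of_iso_odd (p := 5) (f := 1) (by rw [h5]; norm_num) (by omega) (by omega) eG x
    rw [hx, h5] at hk
    norm_num at hk
    rcases hk with h | h | h
    · have := (dvd_trans (dvd_mul_right 2 r) h); omega
    · have := Nat.le_of_dvd two_pos h; omega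
    · have := Nat.le_of_dvd three_pos h; omega
  refine Or.inr (Or.inl ⟨F, i, j, by omega, hq8, ?_, ?_, ⟨eG⟩⟩)
  · exact h2.omega_le_two fun d hd => exists_order_of_iso (by omega) eG (Or.inr (by rwa [hgcd]))
  · exact h2.omega_le_two fun d hd => exists_order_of_iso (by omega) eG (Or.inl (by rwa [hgcd]))

/-- The groups that are not solvable in which every prime divides at most two element orders. -/
theorem twoOrdersList (hns : ¬ Group.IsSolvable G) (h2 : TwoOrders G) : TwoOrdersList G := by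
  by_cases h : ∀ x : G, 2 ∣ orderOf x → orderOf x = 2
  · exact case_two hns h2 h
  push Not at h
  obtain ⟨x, hx, hx2⟩ := h
  rcases (h2.even_cases hx hx2).1 with h4 | ⟨r, hr, hr2, hxr⟩
  · exact case_four hns h2 h4
  · exact case_two_r hns h2 hr hr2 hxr

end Cfsg.Lib.CompOrd
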