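import Cfsg.Agent.Lib.CompositeOrder.Automizer
import Cfsg.Agent.Lib.CompositeOrder.Fusion
import Cfsg.Agent.Lib.Solv.Nilpotent
import Cfsg.Agent.Lib.Local.Baumann.Setup

/-!
The case of an automizer of `r`-power order: it has prime order `r = |S| - 1`, and the `r`-part of the
centralizer of `S` is trivial.
-/

set_option autoImplicit false
set_option linter.style.haveILetI false

namespace Cfsg.Lib.CompOrd

open Subgroup
open Cfsg.Lib
open scoped commutatorElement

universe u

/-- A power of an odd prime one less than a power of two is the prime itself. -/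
theorem eq_one_of_pow_add_one_two_pow {r k n : ℕ} (hr : Odd r) (hr3 : 3 ≤ r) (hn : 2 ≤ n) (hk : 0 < k)
    (h : r ^ k + 1 = 2 ^ n) : k = 1 := by
  rcases Nat.even_or_odd k with ⟨j, rfl⟩ | ⟨j, rfl⟩
  · exfalso
    obtain ⟨x, hx⟩ := hr.pow (n := j)
    have h4 : 4 ∣ 2 ^ n := pow_dvd_pow 2 hn
    rw [← h, pow_add, hx] at h4
    obtain ⟨c, hc⟩ := h4
    ring_nf at hc
    omega
  · have key : ∀ i : ℕ, ∃ M : ℤ, Odd M ∧ (r : ℤ) ^ (2 * i + 1) + 1 = ((r : ℤ) + 1) * M := by
      intro i
      induction i with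
      | zero => exact ⟨1, odd_one, by ring⟩
      | succ i ih =>
        obtain ⟨M, hM, e⟩ := ih
        refine ⟨(r : ℤ) ^ 2 * M - ((r : ℤ) - 1), ?_, ?_⟩
        · obtain ⟨a, ha⟩ := hr
          obtain ⟨b, hb⟩ := hM
          refine ⟨(r : ℤ) ^ 2 * b + 2 * a * a + a, ?_⟩
          rw [hb, ha]; push_cast; ring
        · rw [show 2 * (i + 1) + 1 = 2 * i + 1 + 2 from rfl, pow_add]
          linear_combination (r : ℤ) ^ 2 * e
    obtain ⟨M, hM, e⟩ := key j
    have h' : ((r : ℤ) + 1) * M = 2 ^ n := by rw [← e]; exact_mod_cast h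
    have hM0 : 0 < M := by
      by_contra hle
      push Not at hle
      have : ((r : ℤ) + 1) * M ≤ 0 := mul_nonpos_of_nonneg_of_nonpos (by positivity) hle
      rw [h'] at this
      exact absurd this (not_le.2 (by positivity))
    obtain ⟨m, rfl⟩ : ∃ m : ℕ, M = m := ⟨M.toNat, (Int.toNat_of_nonneg hM0.le).symm⟩
    have hmd : m ∣ 2 ^ n := ⟨r + 1, by rw [mul_comm]; exact_mod_cast h'.symm⟩
    obtain ⟨i, -, rfl⟩ := (Nat.dvd_prime_pow Nat.prime_two).1 hmd
    have hi : i = 0 := by
      by_contra hi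
      have h2 : Odd (2 ^ i) := by exact_mod_cast hM
      exact (Nat.not_even_iff_odd.2 h2) (Nat.even_pow.2 ⟨even_two, hi⟩)
    subst hi
    have e' : r ^ (2 * j + 1) + 1 = r + 1 := by
      have : ((r : ℤ) ^ (2 * j + 1) + 1) = (r : ℤ) + 1 := by rw [e]; simp
      exact_mod_cast this
    exact Nat.pow_right_injective (by omega : 2 ≤ r) (show r ^ (2 * j + 1) = r ^ 1 by rw [pow_one]; omega)

variable {G : Type u} [Group G] [Finite G] [IsSimpleGroup G] {r : ℕ}

namespace Hyp

variable (h : Hyp G r) {S : Sylow 2 G}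
include h

theorem auto_card_of_pGroup (hS : 8 ≤ Nat.card (S : Subgroup G)) (hp : IsPGroup r (auto S)) :
    Nat.card (auto S) = r ∧ ∀ k ∈ auto S, ∀ v : ↥(S : Subgroup G), v ≠ 1 → k v = v → k = 1 := by
  classical
  haveI : Fact (Nat.Prime 2) := ⟨Nat.prime_two⟩
  haveI := Fact.mk h.prime
  obtain ⟨v, hv⟩ : ∃ v : ↥(S : Subgroup G), v ≠ 1 := by
    obtain ⟨t, ht, ht1⟩ := (bot_or_exists_ne_one _).resolve_left (sylow_ne_bot (S := S) hS)
    exact ⟨⟨t, ht⟩, fun e => ht1 (congrArg Subtype.val e)⟩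
  set K := auto S
  have horb : MulAction.orbit ↥K v = {w : ↥(S : Subgroup G) | w ≠ 1} := by
    ext w
    constructor
    · rintro ⟨k, rfl⟩
      exact fun e => hv ((k : MulAut ↥(S : Subgroup G)).injective (e.trans (map_one _).symm))
    · intro hw
      obtain ⟨k, hk, e⟩ := h.auto_transitive hS hv hw
      exact ⟨⟨k, hk⟩, e⟩
  have hidx : (MulAction.stabilizer ↥K v).index = Nat.card (S : Subgroup G) - 1 := by
    letI := Fintype.ofFinite ↥(S : Subgroup G)
    rw [MulAction.index_stabilizer, horb]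
    show Nat.card {w : ↥(S : Subgroup G) // w ≠ 1} = _
    rw [Nat.card_eq_fintype_card, Nat.card_eq_fintype_card, Fintype.card_subtype_compl,
      Fintype.card_subtype_eq]
  obtain ⟨a, ha⟩ := IsPGroup.iff_card.1 hp
  obtain ⟨i, -, hi⟩ := (Nat.dvd_prime_pow h.prime).1 (ha ▸ (MulAction.stabilizer ↥K v).index_dvd_card)
  obtain ⟨n, hn⟩ := IsPGroup.iff_card.1 S.2
  have hn3 : 3 ≤ n := by
    by_contra hc
    have : 2 ^ n ≤ 2 ^ 2 := Nat.pow_le_pow_right two_pos (by omega)
    rw [← hn] at this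
    omega
  have hi0 : 0 < i := by
    rcases Nat.eq_zero_or_pos i with rfl | h0
    · rw [hidx, pow_zero] at hi; omega
    · exact h0
  have hr3 : 3 ≤ r := by
    have := h.prime.two_le
    have := h.ne_two
    omega
  have hi1 : i = 1 := eq_one_of_pow_add_one_two_pow h.odd_r hr3 (by omega : 2 ≤ n) hi0
    (by rw [← hi, hidx, hn]; have := Nat.one_le_pow n 2 two_pos; omega)
  have hK : Nat.card ↥K ≠ 1 := fun e => by
    have := (MulAction.stabilizer ↥K v).index_dvd_card
    rw [e, hi, hi1, pow_one, Nat.dvd_one] at this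
    exact h.prime.ne_one this
  have hnorm : ∀ w : ↥(S : Subgroup G), (MulAction.stabilizer ↥K v).Normal := fun w =>
    Subgroup.normal_of_index_eq_minFac_card (by
      rw [hi, hi1, pow_one, ha, Nat.pow_minFac (by rintro rfl; exact hK (by rw [ha, pow_zero])),
        h.prime.minFac_eq])
  haveI := hnorm v
  -- a point stabilizer fixes everything
  have hfix : ∀ k ∈ K, k v = v → k = 1 := by
    intro k hk hkv
    refine MulEquiv.ext fun w => ?_
    rcases eq_or_ne w 1 with rfl | hw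
    · exact map_one k
    obtain ⟨l, hl, rfl⟩ := h.auto_transitive hS hv hw
    have hmem : (⟨k, hk⟩ : ↥K) ∈ MulAction.stabilizer ↥K v := hkv
    have h2 : l⁻¹ (k (l v)) = v := by
      have := Subgroup.Normal.conj_mem (hnorm v) _ hmem (⟨l, hl⟩ : ↥K)⁻¹
      rw [inv_inv] at this
      exact this
    calc k (l v) = l (l⁻¹ (k (l v))) := (MulEquiv.apply_symm_apply l _).symm
      _ = l v := by rw [h2]
  have hstab : MulAction.stabilizer ↥K v = ⊥ := eq_bot_iff.2 fun k hk =>
    mem_bot.2 (Subtype.ext (hfix k k.2 hk))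
  refine ⟨?_, fun k hk w hw hkw => ?_⟩
  · rw [hstab, index_bot, hi1, pow_one] at hi
    exact hi
  · obtain ⟨l, hl, rfl⟩ := h.auto_transitive hS hv hw
    have h1 : (l⁻¹ * k * l) v = v := by
      show l⁻¹ (k (l v)) = v
      rw [hkw]
      exact MulEquiv.symm_apply_apply l v
    have h2 := hfix _ (mul_mem (mul_mem (inv_mem hl) hk) hl) h1
    calc k = l * (l⁻¹ * k * l) * l⁻¹ := by group
      _ = 1 := by rw [h2, mul_one, mul_inv_cancel]

theorem rPart_eq_bot_of_pGroup (hS : 8 ≤ Nat.card (S : Subgroup G)) (hp : IsPGroup r (auto S)) :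
    rPart r S = ⊥ := by
  classical
  haveI : Fact (Nat.Prime 2) := ⟨Nat.prime_two⟩
  haveI := Fact.mk h.prime
  obtain ⟨hcard, hsemi⟩ := h.auto_card_of_pGroup hS hp
  by_contra hW1
  set H := normalizer ((S : Subgroup G) : Set G)
  set W := rPart r S
  set φ := (S : Subgroup G).normalizerMonoidHom
  have hSH : (S : Subgroup G) ≤ H := le_normalizer
  have hWC : W ≤ centralizer ((S : Subgroup G) : Set G) := rPart_le
  have hWH : W ≤ H := hWC.trans (centralizer_le_normalizer _)
  haveI hWn : (W.subgroupOf H).Normal := ⟨fun x hx g => by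
    rw [mem_subgroupOf] at hx ⊢
    exact (mem_normalizer_iff.1 (h.normalizer_le_normalizer_rPart hS g.2) _).1 hx⟩
  have hWp : IsPGroup r (W.subgroupOf H) :=
    (h.rPart_isPGroup hS).of_equiv (subgroupOfEquivOfLe hWH).symm
  obtain ⟨P₀⟩ : Nonempty (Sylow r ↥H) := inferInstance
  set R := (P₀ : Subgroup ↥H).map H.subtype with hR
  have hWR : W ≤ R := fun x hx => by
    obtain ⟨Q, hQ⟩ := hWp.exists_le_sylow
    obtain ⟨g, hg⟩ := MulAction.exists_smul_eq ↥H Q P₀
    refine ⟨⟨x, hWH hx⟩, ?_, rfl⟩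
    rw [← hg, Sylow.coe_subgroup_smul]
    refine ⟨g⁻¹ * ⟨x, hWH hx⟩ * g, hQ ?_, by simp [mul_assoc]⟩
    have := hWn.conj_mem ⟨x, hWH hx⟩ hx g⁻¹
    rwa [inv_inv] at this
  have hRH : R ≤ H := map_subtype_le _
  have hRp : IsPGroup r R := P₀.2.map _
  have hRinv : ∀ x ∈ R, x ∈ centralizer ((S : Subgroup G) : Set G) → x ∈ W := by
    intro x hx hxC
    obtain ⟨k, hk⟩ := hRp ⟨x, hx⟩
    have hk' : x ^ r ^ k = 1 := congrArg Subtype.val hk
    exact (h.mem_rPart hS).2 ⟨hxC, h.pow_r_of_odd (h.centS_pow hxC hS)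
      (h.odd_r.pow.of_dvd_nat (orderOf_dvd_of_pow_eq_one hk'))⟩
  have hrange : IsPGroup r φ.range := hp
  -- `H` is the product of `S` and `R`
  have hdec : ∀ g ∈ H, ∃ p ∈ R, ∃ s ∈ (S : Subgroup G), g = p * s := by
    intro g hg
    have htop : (P₀ : Subgroup ↥H).map φ.rangeRestrict = ⊤ := by
      rw [← Sylow.coe_mapSurjective φ.rangeRestrict_surjective]
      exact ((P₀.mapSurjective φ.rangeRestrict_surjective).3 (hrange.of_equiv Subgroup.topEquiv.symm)
        le_top).symm
    obtain ⟨p, hp', e⟩ : φ.rangeRestrict ⟨g, hg⟩ ∈ (P₀ : Subgroup ↥H).map φ.rangeRestrict :=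
      htop ▸ mem_top _
    have hc : (p⁻¹ * ⟨g, hg⟩ : ↥H) ∈ φ.ker := by
      have e' : φ p = φ ⟨g, hg⟩ := congrArg Subtype.val e
      rw [MonoidHom.mem_ker, map_mul, map_inv, e', inv_mul_cancel]
    set c := ((p⁻¹ * ⟨g, hg⟩ : ↥H) : G) with hcdef
    have hcC : c ∈ centralizer ((S : Subgroup G) : Set G) := (normalizerHom_eq_one_iff _).1 hc
    have h2r := h.centS_pow hcC hS
    obtain ⟨j, hj⟩ := h.odd_r
    have hw : c ^ (r + 1) ∈ W := (h.mem_rPart hS).2 ⟨pow_mem hcC _, by
      rw [← pow_mul, show (r + 1) * r = 2 * r * (j + 1) by rw [hj]; ring, pow_mul, h2r, one_pow]⟩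
    have hs : c ^ r ∈ (S : Subgroup G) :=
      h.mem_sylow_of_mem_normalizer S (centralizer_le_normalizer _ (pow_mem hcC _))
        (by rw [← pow_mul, mul_comm, h2r])
    refine ⟨(p : G) * c ^ (r + 1), mul_mem ⟨p, hp', rfl⟩ (hWR hw), (c ^ r)⁻¹, inv_mem hs, ?_⟩
    rw [mul_assoc, pow_succ', mul_inv_cancel_right, hcdef]
    simp
  -- a central element of `R` inside `W`
  haveI : Nontrivial W := (nontrivial_iff_ne_bot W).2 hW1
  haveI hWRn : (W.subgroupOf R).Normal := ⟨fun x hx g => by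
    rw [mem_subgroupOf] at hx ⊢
    exact (mem_normalizer_iff.1 (h.normalizer_le_normalizer_rPart hS (hRH g.2)) _).1 hx⟩
  have hWRne : W.subgroupOf R ≠ ⊥ := by
    rw [Ne, subgroupOf_eq_bot, disjoint_iff, inf_eq_left.2 hWR]
    exact hW1
  obtain ⟨z₀, hz₀W, hz₀c, hz₀o⟩ := PGroup.exists_mem_center_orderOf_eq hRp (N := W.subgroupOf R) hWRne
  set z := (z₀ : G) with hz
  have hzW : z ∈ W := hz₀W
  have hzo : orderOf z = r := by rw [hz, Subgroup.orderOf_coe, hz₀o]
  have hz1 : z ≠ 1 := fun e => by rw [e, orderOf_one] at hzo; exact h.prime.ne_one hzo.symm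
  have hzr : z ^ r = 1 := ((h.mem_rPart hS).1 hzW).2
  have hzR : ∀ y ∈ R, Commute z y := fun y hy =>
    (congrArg Subtype.val (mem_center_iff.1 hz₀c ⟨y, hy⟩)).symm
  have hzH : centralizer ({z} : Set G) = H := by
    refine le_antisymm (h.centralizer_r_le hS hz1 hzr (hWC hzW)) fun g hg => ?_
    obtain ⟨p, hp', s, hs, rfl⟩ := hdec g hg
    refine mul_mem (mem_centralizer_singleton_iff.2 (hzR p hp').eq.symm) ?_
    exact mem_centralizer_singleton_iff.2 (mem_centralizer_iff.1 (hWC hzW) s hs)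
  have hTI : ∀ x ∈ W, x ≠ 1 → ∀ g : G, g * x * g⁻¹ ∈ W → g ∈ H := by
    intro x hx hx1 g hgx
    obtain ⟨hgC, hgr⟩ := (h.mem_rPart hS).1 hgx
    refine mem_normalizer_fintype fun s hs => h.mem_sylow_of_mem_normalizer S
      (h.centralizer_r_le hS (fun e => hx1 (conj_eq_one_iff.1 e)) hgr hgC
        (mem_centralizer_singleton_iff.2 ?_)) ?_
    · calc g * s * g⁻¹ * (g * x * g⁻¹) = g * (s * x) * g⁻¹ := by group
        _ = _ := by rw [mem_centralizer_iff.1 (hWC hx) s hs]; group
    · rw [conj_pow, h.sylow_sq S hs, mul_one, mul_inv_cancel]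
  -- elements of `R` outside `W` have no fixed points on `S`
  have hfree : ∀ p ∈ R, p ∉ W → ∀ s ∈ (S : Subgroup G), s * p = p * s → s = 1 := by
    intro p hp' hpW s hs hsp
    by_contra hs1
    refine hpW (hRinv p hp' ((normalizerHom_eq_one_iff ⟨p, hRH hp'⟩).1 ?_))
    refine hsemi _ ⟨_, rfl⟩ ⟨s, hs⟩ (fun e => hs1 (congrArg Subtype.val e)) (Subtype.ext ?_)
    show p * s * p⁻¹ = s
    rw [← hsp, mul_inv_cancel_right]
  have hna : ¬ IsMulCommutative G := h.not_commutative_of_sylow hS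
  -- the only element of `S` normalizing `R` modulo the centralizer of a moved element is trivial
  have hSR : ∀ x ∈ (S : Subgroup G), x ∈ R → x = 1 := fun x hx hxR => by
    obtain ⟨k, hk⟩ := hRp ⟨x, hxR⟩
    exact orderOf_eq_one_iff.1 (Nat.eq_one_of_dvd_coprimes
      (Nat.Coprime.pow_left k (Nat.coprime_two_right.2 h.odd_r))
      (orderOf_dvd_of_pow_eq_one (congrArg Subtype.val hk)) (orderOf_dvd_of_pow_eq_one (h.sylow_sq S hx)))
  -- a conjugate of `z` in `R` is swapped with `z` by an involution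
  have hpair : ∀ g : G, g ∉ H → g * z * g⁻¹ ∈ R → ∃ u : G, orderOf u = 2 ∧ u ∉ H ∧
      u * z * u⁻¹ = g * z * g⁻¹ ∧ u * (g * z * g⁻¹) * u⁻¹ = z := by
    intro g hgH _
    have hxy : (QuotientGroup.mk 1 : G ⧸ H) ≠ QuotientGroup.mk g := fun e => hgH (by
      simpa using QuotientGroup.eq.1 e)
    have hcardi := (Invol.se_swap (h.stronglyEmbedded hS) hxy).1
    have hpos : 0 < Nat.card (Invol.SwapSet H (QuotientGroup.mk 1) (QuotientGroup.mk g)) := by
      rw [hcardi]
      obtain ⟨t, ht, ht2⟩ := Invol.exists_involution_of_even (h.stronglyEmbedded hS).2.1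
      haveI : Nonempty {t : G // orderOf t = 2 ∧ t ∈ H} := ⟨⟨t, ht2, ht⟩⟩
      exact Nat.card_pos
    obtain ⟨⟨i, hi, hixy⟩⟩ := (Nat.card_pos_iff.1 hpos).1
    have hmem : i⁻¹ * g ∈ H := by
      rw [MulAction.Quotient.smul_mk, QuotientGroup.eq] at hixy
      simpa [mul_assoc] using hixy
    have h1 : (i⁻¹ * g) * z * (i⁻¹ * g)⁻¹ = z := by
      rw [mem_centralizer_singleton_iff.1 (show i⁻¹ * g ∈ centralizer ({z} : Set G) from hzH.symm ▸ hmem),
        mul_inv_cancel_right]
    have h2 : i * z * i⁻¹ = g * z * g⁻¹ :=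
      calc i * z * i⁻¹ = i * ((i⁻¹ * g) * z * (i⁻¹ * g)⁻¹) * i⁻¹ := by rw [h1]
        _ = g * z * g⁻¹ := by group
    refine ⟨i, hi, fun e => hgH (by simpa using mul_mem e hmem), h2, ?_⟩
    rw [← h2, show i * (i * z * i⁻¹) * i⁻¹ = (i * i) * z * (i * i)⁻¹ by group, mul_self_invol hi]
    group
  by_cases hex : ∃ g : G, g ∉ H ∧ g * z * g⁻¹ ∈ H
  · -- two conjugates of `z` generate `R`
    obtain ⟨g₀, hg₀, hg₀z⟩ := hex
    obtain ⟨m, hmH, hmR⟩ : ∃ m ∈ H, m * (g₀ * z * g₀⁻¹) * m⁻¹ ∈ R := by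
      have ho : orderOf (g₀ * z * g₀⁻¹) = r := by rw [Invol.orderOf_conj_eq, hzo]
      have hp' : IsPGroup r (zpowers (⟨_, hg₀z⟩ : ↥H)) :=
        IsPGroup.of_card (n := 1) (by rw [Nat.card_zpowers, Subgroup.orderOf_mk, ho, pow_one])
      obtain ⟨Q, hQ⟩ := hp'.exists_le_sylow
      obtain ⟨m, hm⟩ := MulAction.exists_smul_eq ↥H Q P₀
      refine ⟨m, m.2, m * ⟨_, hg₀z⟩ * m⁻¹, ?_, rfl⟩
      rw [← hm, Sylow.coe_subgroup_smul]
      exact ⟨_, hQ (mem_zpowers _), rfl⟩
    have hg₁ : m * g₀ ∉ H := fun e => hg₀ ((H.mul_mem_cancel_left hmH).1 e)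
    have hz'R₀ : (m * g₀) * z * (m * g₀)⁻¹ ∈ R := by
      rw [show m * g₀ * z * (m * g₀)⁻¹ = m * (g₀ * z * g₀⁻¹) * m⁻¹ by group]
      exact hmR
    obtain ⟨u, hu, huH, huz, huz'⟩ := hpair _ hg₁ hz'R₀
    set z' := (m * g₀) * z * (m * g₀)⁻¹ with hz'
    have hz'R : z' ∈ R := hz'R₀
    have hz'o : orderOf z' = r := by rw [hz', Invol.orderOf_conj_eq, hzo]
    have hz'W : z' ∉ W := fun e => hg₁ (hTI z hzW hz1 _ e)
    have huu : u * u = 1 := mul_self_invol hu
    have hui : u⁻¹ = u := inv_eq_of_mul_eq_one_left huu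
    -- the elements of `H` commuting with `z'`
    set D := H ⊓ centralizer ({z'} : Set G) with hD
    have hDu : ∀ x : G, Commute x z' ↔ u * x * u⁻¹ ∈ H := fun x => by
      rw [← hzH, mem_centralizer_singleton_iff]
      constructor
      · intro hx
        have h1 := hx.map (MulAut.conj u).toMonoidHom
        simp only [MulEquiv.coe_toMonoidHom, MulAut.conj_apply] at h1
        rwa [huz'] at h1
      · intro hx
        have h1 := (show Commute (u * x * u⁻¹) z from hx).map (MulAut.conj u).toMonoidHom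
        simp only [MulEquiv.coe_toMonoidHom, MulAut.conj_apply] at h1
        rwa [huz, show u * (u * x * u⁻¹) * u⁻¹ = (u * u) * x * (u * u)⁻¹ by group, huu, one_mul, inv_one,
          mul_one] at h1
    let ψ : ↥D →* MulAut ↥(S : Subgroup G) × MulAut ↥(S : Subgroup G) :=
      MonoidHom.prod (φ.comp (Subgroup.inclusion (inf_le_left : D ≤ H)))
        (φ.comp
          { toFun := fun x : ↥D =>
              (⟨u * (x : G) * u⁻¹, (hDu x).1 (mem_centralizer_singleton_iff.1 x.2.2)⟩ : ↥H)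
            map_one' := Subtype.ext (by simp)
            map_mul' := fun x y => Subtype.ext (by simp [mul_assoc]) })
    have hψ : Function.Injective ψ := by
      refine (injective_iff_map_eq_one ψ).2 fun x hx => ?_
      obtain ⟨h1, h2⟩ := Prod.ext_iff.1 hx
      have hxC : (x : G) ∈ centralizer ((S : Subgroup G) : Set G) := (normalizerHom_eq_one_iff _).1 h1
      have hxr : (x : G) ^ r = 1 := by
        refine hfree z' hz'R hz'W _ (h.mem_sylow_of_mem_normalizer S (pow_mem x.2.1 r)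
          (by rw [← pow_mul, mul_comm, h.centS_pow hxC hS])) ?_
        exact ((show Commute (x : G) z' from mem_centralizer_singleton_iff.1 x.2.2).pow_left r).eq
      refine Subtype.ext ?_
      by_contra hx1
      refine huH (hTI x ((h.mem_rPart hS).2 ⟨hxC, hxr⟩) hx1 u ?_)
      refine (h.mem_rPart hS).2 ⟨(normalizerHom_eq_one_iff _).1 h2, ?_⟩
      rw [conj_pow, hxr, mul_one, mul_inv_cancel]
    have hDcard : Nat.card ↥D ≤ r * r := by
      have hrg : ψ.range ≤ (auto S).prod (auto S) := by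
        rintro _ ⟨x, rfl⟩
        exact ⟨⟨_, rfl⟩, ⟨_, rfl⟩⟩
      have h1 := card_le_of_le hrg
      rw [← Nat.card_congr (MonoidHom.ofInjective hψ).toEquiv,
        Nat.card_congr (Subgroup.prodEquiv (auto S) (auto S)).toEquiv, Nat.card_prod, hcard] at h1
      exact h1
    -- the subgroup generated by `z` and `z'`
    have hcomm : Commute z z' := hzR z' hz'R
    set A := zpowers z ⊔ zpowers z' with hA
    have hAR : A ≤ R := sup_le ((zpowers_le).2 (hWR hzW)) ((zpowers_le).2 hz'R)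
    have hAD : A ≤ D := sup_le
      ((zpowers_le).2 ⟨hWH hzW, mem_centralizer_singleton_iff.2 hcomm.eq⟩)
      ((zpowers_le).2 ⟨hRH hz'R, mem_centralizer_singleton_iff.2 rfl⟩)
    have hdisj : zpowers z ⊓ zpowers z' = ⊥ := by
      by_contra hne
      have hd : Nat.card ↥(zpowers z ⊓ zpowers z') ∣ r := by
        rw [← hz'o, ← Nat.card_zpowers]; exact card_dvd_of_le inf_le_right
      have h2 := ((Nat.dvd_prime h.prime).1 hd).resolve_left fun e => hne ((eq_bot_iff_card _).2 e)
      have e := Subgroup.eq_of_le_of_card_ge (inf_le_right : zpowers z ⊓ zpowers z' ≤ zpowers z')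
        (by rw [Nat.card_zpowers, hz'o, h2])
      exact hz'W ((zpowers_le.2 hzW) ((e ▸ inf_le_left : zpowers z' ≤ zpowers z) (mem_zpowers z')))
    have hAcard : Nat.card ↥A = r * r := by
      have hn' : zpowers z' ≤ normalizer (zpowers z : Set G) := (zpowers_le).2
        (centralizer_le_normalizer _ (mem_centralizer_iff.2 fun x hx => by
          obtain ⟨i, rfl⟩ := mem_zpowers_iff.1 hx
          exact hcomm.zpow_left i))
      have h1 := Local.Baumann.card_sup_mul_inf (A := zpowers z) (B := zpowers z') hn'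
      rw [hdisj, card_bot, mul_one, Nat.card_zpowers, Nat.card_zpowers, hzo, hz'o] at h1
      exact h1
    have hDA : D = A := (Subgroup.eq_of_le_of_card_ge hAD (by rw [hAcard]; exact hDcard)).symm
    have hAform : ∀ x ∈ A, ∃ i j : ℤ, x = z ^ i * z' ^ j := by
      intro x hx
      have hn' : zpowers z' ≤ centralizer (zpowers z : Set G) := (zpowers_le).2
        (mem_centralizer_iff.2 fun y hy => by
          obtain ⟨i, rfl⟩ := mem_zpowers_iff.1 hy
          exact hcomm.zpow_left i)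
      rw [hA, ← SetLike.mem_coe,
        coe_mul_of_right_le_normalizer_left _ _ (hn'.trans (centralizer_le_normalizer _))] at hx
      obtain ⟨a, ⟨i, rfl⟩, b, ⟨j, rfl⟩, rfl⟩ := hx
      exact ⟨i, j, rfl⟩
    have hexpo : ∀ j : ℤ, z' ^ j ∈ W → (r : ℤ) ∣ j := fun j hjW => by
      by_contra hne
      obtain ⟨a, b, hab⟩ := ((Nat.prime_iff_prime_int.1 h.prime).coprime_iff_not_dvd.2 hne)
      apply hz'W
      have : z' = (z' ^ (r : ℤ)) ^ a * (z' ^ j) ^ b := by
        rw [← zpow_mul, ← zpow_mul, ← zpow_add, mul_comm _ a, mul_comm j b, hab, zpow_one]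
      rw [this, zpow_natCast, ← hz'o, pow_orderOf_eq_one, one_zpow, one_mul]
      exact zpow_mem hjW b
    have hz'pow : ∀ j : ℤ, (r : ℤ) ∣ j → z' ^ j = 1 := fun j hj => by
      rw [← orderOf_dvd_iff_zpow_eq_one, hz'o]; exact hj
    have hWA : ∀ x ∈ W, x ∈ A → ∃ i : ℤ, x = z ^ i := by
      intro x hxW hxA
      obtain ⟨i, j, rfl⟩ := hAform x hxA
      refine ⟨i, ?_⟩
      rw [hz'pow j (hexpo j ((W.mul_mem_cancel_left (zpow_mem hzW i)).1 hxW)), mul_one]
    -- `R` is abelian
    have hRA : R = A := by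
      by_contra hne
      -- a normalizing element outside `A`
      obtain ⟨n, hnR, hnA, hnN⟩ : ∃ n ∈ R, n ∉ A ∧ ∀ x ∈ A, n * x * n⁻¹ ∈ A := by
        haveI : Group.IsNilpotent ↥R := hRp.isNilpotent
        have hlt : A.subgroupOf R < ⊤ := lt_top_iff_ne_top.2 fun e =>
          hne (le_antisymm (subgroupOf_eq_top.1 e) hAR)
        have h1 := Group.normalizerCondition_of_isNilpotent (A.subgroupOf R) hlt
        obtain ⟨n, hn, hn'⟩ := SetLike.exists_of_lt h1
        exact ⟨n, n.2, hn', fun x hx => (mem_normalizer_iff.1 hn ⟨x, hAR hx⟩).1 hx⟩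
      -- `n` moves `z'` along `⟨z⟩`
      set w := n * z' * n⁻¹ * z'⁻¹ with hw
      have hwA : w ∈ A := mul_mem (hnN z' (mem_sup_right (mem_zpowers z'))) (inv_mem (mem_sup_right (mem_zpowers z')))
      have hwW : w ∈ W := by
        refine hRinv w (hAR hwA) ((normalizerHom_eq_one_iff ⟨w, hRH (hAR hwA)⟩).1 ?_)
        haveI : IsCyclic ↥(auto S) := isCyclic_of_prime_card hcard
        have hc : Commute (φ.rangeRestrict ⟨n, hRH hnR⟩) (φ.rangeRestrict ⟨z', hRH hz'R⟩) :=
          (IsCyclic.commGroup (α := ↥(auto S))).mul_comm _ _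
        have hc' := congrArg Subtype.val hc.eq
        simp only [Subgroup.coe_mul, MonoidHom.coe_rangeRestrict] at hc'
        show φ (⟨n, hRH hnR⟩ * ⟨z', hRH hz'R⟩ * (⟨n, hRH hnR⟩ : ↥H)⁻¹ * (⟨z', hRH hz'R⟩ : ↥H)⁻¹) = 1
        rw [map_mul, map_mul, map_mul, map_inv, map_inv, hc', mul_inv_cancel_right, mul_inv_cancel]
      obtain ⟨k, hk⟩ := hWA w hwW hwA
      have hk1 : ¬ (r : ℤ) ∣ k := by
        intro hd
        apply hnA
        rw [← hDA]
        refine ⟨hRH hnR, mem_centralizer_singleton_iff.2 ?_⟩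
        have : w = 1 := by
          rw [hk, ← orderOf_dvd_iff_zpow_eq_one, hzo]; exact hd
        rw [hw, mul_inv_eq_one, mul_inv_eq_iff_eq_mul] at this
        exact this
      -- so every element of `A` commutes with an involution
      have hstep : ∀ i : ℕ, n ^ i * z' * (n ^ i)⁻¹ = z ^ (k * i) * z' := by
        intro i
        induction i with
        | zero => simp
        | succ i ih =>
          calc n ^ (i + 1) * z' * (n ^ (i + 1))⁻¹ = n * (n ^ i * z' * (n ^ i)⁻¹) * n⁻¹ := by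
                rw [pow_succ']; group
            _ = n * z ^ (k * i) * n⁻¹ * (w * z') := by rw [ih, hw]; group
            _ = z ^ (k * i) * (z ^ k * z') := by
                rw [hk, ← ((hzR n hnR).zpow_left (k * i)).eq, mul_inv_cancel_right]
            _ = _ := by rw [← mul_assoc, ← zpow_add]; push_cast; ring_nf
      have hinvol : ∀ x ∈ A, ∃ t : G, orderOf t = 2 ∧ Commute t x := by
        intro x hx
        obtain ⟨i, j, rfl⟩ := hAform x hx
        obtain ⟨t, ht, ht1⟩ := (bot_or_exists_ne_one _).resolve_left (sylow_ne_bot (S := S) hS)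
        have hto := h.orderOf_of_mem_sylow S ht ht1
        have htz : Commute t z := mem_centralizer_iff.1 (hWC hzW) t ht
        by_cases hj : (r : ℤ) ∣ j
        · refine ⟨t, hto, ?_⟩
          rw [hz'pow j hj, mul_one]
          exact htz.zpow_right i
        · -- choose `e` with `z ^ i * z' ^ j` conjugate to `z' ^ j`
          have hcop : IsCoprime (r : ℤ) (k * j) :=
            (Nat.prime_iff_prime_int.1 h.prime).coprime_iff_not_dvd.2 fun hd =>
              ((Nat.prime_iff_prime_int.1 h.prime).dvd_mul.1 hd).elim hk1 hj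
          obtain ⟨a, b, hab⟩ := hcop
          set e : ℕ := ((i * b) % (r : ℤ)).toNat with he
          have he' : (r : ℤ) ∣ k * e * j - i := by
            rw [he, Int.toNat_of_nonneg (Int.emod_nonneg _ (by exact_mod_cast h.prime.ne_zero))]
            rw [Int.emod_def]
            exact ⟨-(k * j * (i * b / r)) - i * a, by linear_combination i * hab⟩
          refine ⟨n ^ e * (u * t * u⁻¹) * (n ^ e)⁻¹, by rw [Invol.orderOf_conj_eq, Invol.orderOf_conj_eq, hto], ?_⟩
          have hcj : Commute (u * t * u⁻¹) (z' ^ j) := by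
            rw [← huz]
            exact (htz.map (MulAut.conj u).toMonoidHom).zpow_right j
          have hx' : z ^ i * z' ^ j = n ^ e * z' ^ j * (n ^ e)⁻¹ := by
            rw [← conj_zpow, hstep, (hcomm.zpow_left _).mul_zpow, ← zpow_mul]
            congr 1
            rw [← orderOf_dvd_sub_iff_zpow_eq_zpow, hzo]
            rw [show (i : ℤ) - k * e * j = -(k * e * j - i) by ring]
            exact dvd_neg.2 he'
          rw [hx']
          exact hcj.map (MulAut.conj (n ^ e)).toMonoidHom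
      -- but `u` inverts a nontrivial element of `A`
      have h1 := h.card_inverted hS hu huH
      have hone : ∀ d : {d : G // d ∈ H ∧ u * d * u⁻¹ = d⁻¹}, d.1 = 1 := fun ⟨d, hd, hdu⟩ => by
        have hdA : d ∈ A := hDA ▸ ⟨hd, mem_centralizer_singleton_iff.2 ((hDu d).2 (hdu ▸ inv_mem hd)).eq⟩
        obtain ⟨t, ht, htd⟩ := hinvol d hdA
        obtain ⟨l, hl⟩ := hRp ⟨d, hAR hdA⟩
        exact h.not_inverted hS ht htd huu hdu
          (h.odd_r.pow.of_dvd_nat (orderOf_dvd_of_pow_eq_one (congrArg Subtype.val hl)))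
      haveI : Subsingleton {d : G // d ∈ H ∧ u * d * u⁻¹ = d⁻¹} :=
        ⟨fun d d' => Subtype.ext ((hone d).trans (hone d').symm)⟩
      have h2 : Nat.card {d : G // d ∈ H ∧ u * d * u⁻¹ = d⁻¹} ≤ 1 :=
        Finite.card_le_one_iff_subsingleton.2 inferInstance
      rw [h1] at h2
      omega
    have hRc : ∀ x ∈ R, ∀ y ∈ R, Commute x y := by
      intro x hx y hy
      obtain ⟨i, j, rfl⟩ := hAform x (hRA ▸ hx)
      obtain ⟨i', j', rfl⟩ := hAform y (hRA ▸ hy)
      have h1 : ∀ a b : ℤ, Commute (z ^ a) (z' ^ b) := fun a b => hcomm.zpow_zpow a b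
      exact (((Commute.zpow_zpow_self z i i').mul_right (h1 i j')).mul_left
        ((h1 i' j).symm.mul_right (Commute.zpow_zpow_self z' j j')))
    set N := normalizer (R : Set G) with hN
    have hcap : ∀ v ∈ R, v ∉ W → ∀ x ∈ H, Commute x v → x ∈ R := by
      intro v hv hvW x hx hxv
      obtain ⟨p, hp', s, hs, rfl⟩ := hdec x hx
      have hsv : Commute s v := by
        have h1 := ((hRc p hp' v hv).inv_left).mul_left hxv
        rwa [inv_mul_cancel_left] at h1
      rw [hfree v hv hvW s hs hsv.eq, mul_one]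
      exact hp'
    have hNH : ∀ b ∈ N, b ∈ H → b ∈ R := by
      intro b hb hbH
      obtain ⟨p, hp', s, hs, rfl⟩ := hdec b hbH
      have hsN : s ∈ N := (N.mul_mem_cancel_left (le_normalizer hp')).1 hb
      have h1 : s * z' * s⁻¹ * z'⁻¹ = 1 := by
        refine hSR _ ?_ (mul_mem ((mem_normalizer_iff.1 hsN z').1 hz'R) (inv_mem hz'R))
        rw [show s * z' * s⁻¹ * z'⁻¹ = s * (z' * s⁻¹ * z'⁻¹) by group]
        exact mul_mem hs ((mem_normalizer_iff.1 (hRH hz'R) _).1 (inv_mem hs))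
      rw [mul_inv_eq_one, mul_inv_eq_iff_eq_mul] at h1
      rw [hfree z' hz'R hz'W s hs h1, mul_one]
      exact hp'
    have hRN : R ≤ N := le_normalizer
    -- every element of `N` is an involution times an element of `R`, or in `R`
    have hline : ∀ b ∈ N, b ∉ R → ∃ i : G, i * i = 1 ∧ i ∈ N ∧ i * z * i⁻¹ = b * z * b⁻¹ ∧
        i * (b * z * b⁻¹) * i⁻¹ = z ∧ i⁻¹ * b ∈ R := by
      intro b hb hbR
      have hbH : b ∉ H := fun e => hbR (hNH b hb e)
      have hvR : b * z * b⁻¹ ∈ R := (mem_normalizer_iff.1 hb z).1 (hWR hzW)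
      obtain ⟨i, hi, -, hiz, hiv⟩ := hpair b hbH hvR
      have hvW : b * z * b⁻¹ ∉ W := fun e => hbH (hTI z hzW hz1 b e)
      set v := b * z * b⁻¹ with hv
      have hiN : i ∈ N := by
        refine mem_normalizer_fintype fun x hx => ?_
        refine hcap v hvR hvW _ ?_ ?_
        · rw [← hzH, mem_centralizer_singleton_iff]
          have h1 := (hRc x hx v hvR).map (MulAut.conj i).toMonoidHom
          simp only [MulEquiv.coe_toMonoidHom, MulAut.conj_apply, hiv] at h1
          exact h1.eq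
        · have h1 := (hzR x hx).symm.map (MulAut.conj i).toMonoidHom
          simp only [MulEquiv.coe_toMonoidHom, MulAut.conj_apply, hiz] at h1
          exact h1
      refine ⟨i, mul_self_invol hi, hiN, hiz, hiv, hNH _ (mul_mem (inv_mem hiN) hb) ?_⟩
      rw [← hzH, mem_centralizer_singleton_iff, ← mul_inv_eq_iff_eq_mul]
      rw [show i⁻¹ * b * z * (i⁻¹ * b)⁻¹ = i⁻¹ * (b * z * b⁻¹) * i by group, ← hv, ← hiz]
      group
    have hsq : ∀ b ∈ N, b * b ∈ R := by
      intro b hb
      by_cases hbR : b ∈ R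
      · exact mul_mem hbR hbR
      obtain ⟨i, hii, hiN, -, -, hib⟩ := hline b hb hbR
      have h1 : b * b = (i * (i⁻¹ * b) * i⁻¹) * (i * i) * (i⁻¹ * b) := by group
      rw [h1, hii, mul_one]
      exact mul_mem ((mem_normalizer_iff.1 hiN _).1 hib) hib
    have huN : u ∈ N := by
      refine mem_normalizer_fintype fun x hx => hcap z' hz'R hz'W _ ((hDu x).1 (hRc x hx z' hz'R)) ?_
      have h1 := (hzR x hx).symm.map (MulAut.conj u).toMonoidHom
      simp only [MulEquiv.coe_toMonoidHom, MulAut.conj_apply, huz] at h1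
      exact h1
    have hNdec : ∀ b ∈ N, b ∈ R ∨ u * b ∈ R := by
      intro b hb
      refine or_iff_not_imp_left.2 fun hbR => ?_
      obtain ⟨i, hii, hiN, hiz, hiv, hib⟩ := hline b hb hbR
      obtain ⟨a, c, hac⟩ := hAform (b * z * b⁻¹) (hRA ▸ (mem_normalizer_iff.1 hb z).1 (hWR hzW))
      -- the two involutions commute modulo `R`
      have huv : i * z' * i⁻¹ = u * (b * z * b⁻¹) * u⁻¹ := by
        have h1 : (u * i) * (u * i) * z * ((u * i) * (u * i))⁻¹ = z := by
          rw [← (hzR _ (hsq _ (mul_mem huN hiN))).eq, mul_inv_cancel_right]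
        have hi1 : i⁻¹ = i := inv_eq_of_mul_eq_one_left hii
        calc i * z' * i⁻¹ = i * (u * z * u⁻¹) * i⁻¹ := by rw [huz]
          _ = i * (u * ((u * i) * (u * i) * z * ((u * i) * (u * i))⁻¹) * u⁻¹) * i⁻¹ := by rw [h1]
          _ = (i * (u * u) * i) * (u * (i * z * i⁻¹) * u⁻¹) * (i * (u * u) * i)⁻¹ := by group
          _ = u * (b * z * b⁻¹) * u⁻¹ := by
              rw [huu, mul_one, hii, one_mul, inv_one, mul_one, hiz]
      have hprod : z ^ (a * a + c * c) * z' ^ (2 * (a * c)) = z := by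
        have hu2 : u * (b * z * b⁻¹) * u⁻¹ = z' ^ a * z ^ c := by
          rw [hac, show u * (z ^ a * z' ^ c) * u⁻¹ = u * z ^ a * u⁻¹ * (u * z' ^ c * u⁻¹) by group,
            ← conj_zpow, ← conj_zpow, huz, huz']
        have h1 : z = (i * z * i⁻¹) ^ a * (i * z' * i⁻¹) ^ c := by
          rw [conj_zpow, conj_zpow,
            show i * z ^ a * i⁻¹ * (i * z' ^ c * i⁻¹) = i * (z ^ a * z' ^ c) * i⁻¹ by group, ← hac, hiv]
        rw [hiz, huv, hu2, hac, (hcomm.zpow_zpow a c).mul_zpow,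
          ((hcomm.zpow_zpow c a).symm).mul_zpow, ← zpow_mul, ← zpow_mul, ← zpow_mul, ← zpow_mul] at h1
        conv_rhs => rw [h1]
        rw [show z ^ (a * a) * z' ^ (c * a) * (z' ^ (a * c) * z ^ (c * c)) =
          z ^ (a * a) * (z' ^ (c * a) * z' ^ (a * c) * z ^ (c * c)) by group, ← zpow_add,
          ← (hcomm.zpow_zpow (c * c) (c * a + a * c)).eq, ← mul_assoc (z ^ (a * a)), ← zpow_add]
        congr 2
        ring
      have hd : (r : ℤ) ∣ 2 * (a * c) := by
        refine hexpo _ ?_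
        have h1 : z ^ (a * a + c * c) * z' ^ (2 * (a * c)) ∈ W := hprod.symm ▸ hzW
        exact (W.mul_mem_cancel_left (zpow_mem hzW _)).1 h1
      have hrp := Nat.prime_iff_prime_int.1 h.prime
      have h2 : ¬ (r : ℤ) ∣ 2 := by
        intro h'
        have := Nat.le_of_dvd two_pos (Int.natCast_dvd_natCast.1 (by exact_mod_cast h'))
        have := h.prime.two_le
        have := h.ne_two
        omega
      rcases hrp.dvd_mul.1 ((hrp.dvd_mul.1 hd).resolve_left h2) with ha | hc
      · -- `b z b⁻¹` is a power of `z'`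
        refine hNH _ (mul_mem huN hb) (hTI z hzW hz1 (u * b) ?_)
        rw [show u * b * z * (u * b)⁻¹ = u * (b * z * b⁻¹) * u⁻¹ by group, hac,
          show z ^ a = 1 by rw [← orderOf_dvd_iff_zpow_eq_one, hzo]; exact ha, one_mul, ← conj_zpow, huz']
        exact zpow_mem hzW c
      · exfalso
        refine hbR (hNH b hb (hTI z hzW hz1 b ?_))
        rw [hac, hz'pow c hc, mul_one]
        exact zpow_mem hzW a
    -- `R` is an abelian Sylow subgroup with a small focal subgroup
    obtain ⟨P, hP⟩ := hRp.exists_le_sylow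
    have hPR : (P : Subgroup G) = R := by
      by_contra hne
      haveI : Group.IsNilpotent ↥(P : Subgroup G) := P.2.isNilpotent
      have hlt : R.subgroupOf (P : Subgroup G) < ⊤ := lt_top_iff_ne_top.2 fun e =>
        hne (le_antisymm (subgroupOf_eq_top.1 e) hP)
      obtain ⟨n, hn, hn'⟩ := SetLike.exists_of_lt (Group.normalizerCondition_of_isNilpotent _ hlt)
      have hnN : (n : G) ∈ N := mem_normalizer_fintype fun x hx =>
        (mem_normalizer_iff.1 hn ⟨x, hP hx⟩).1 hx
      obtain ⟨l, hl⟩ := P.2 n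
      have hodd : Odd (orderOf (n : G)) :=
        h.odd_r.pow.of_dvd_nat (orderOf_dvd_of_pow_eq_one (congrArg Subtype.val hl))
      obtain ⟨e, he⟩ := hodd
      apply hn'
      show (n : G) ∈ R
      have : (n : G) = ((n : G) * n) ^ (e + 1) := by
        rw [← pow_two, ← pow_mul, show 2 * (e + 1) = orderOf (n : G) + 1 by omega, pow_succ,
          pow_orderOf_eq_one, one_mul]
      rw [this]
      exact pow_mem (hsq _ hnN) _
    have hPc : IsMulCommutative P := ⟨⟨fun x y => Subtype.ext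
      (hRc x (hPR ▸ x.2) y (hPR ▸ y.2)).eq⟩⟩
    let I : Subgroup G :=
      { carrier := {x | x ∈ R ∧ u * x * u⁻¹ = x⁻¹}
        one_mem' := ⟨one_mem _, by simp⟩
        mul_mem' := fun {x y} hx hy => ⟨mul_mem hx.1 hy.1, by
          rw [show u * (x * y) * u⁻¹ = u * x * u⁻¹ * (u * y * u⁻¹) by group, hx.2, hy.2,
            ((hRc x hx.1 y hy.1).inv_inv).eq, mul_inv_rev]⟩
        inv_mem' := fun {x} hx => ⟨inv_mem hx.1, by
          rw [show u * x⁻¹ * u⁻¹ = (u * x * u⁻¹)⁻¹ by group, hx.2]⟩ }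
    have hI1 : ∀ p ∈ R, p * (u * p⁻¹ * u⁻¹) ∈ I := by
      intro p hp'
      have hq : u * p⁻¹ * u⁻¹ ∈ R := (mem_normalizer_iff.1 huN _).1 (inv_mem hp')
      refine ⟨mul_mem hp' hq, ?_⟩
      rw [show u * (p * (u * p⁻¹ * u⁻¹)) * u⁻¹ = u * p * u⁻¹ * ((u * u) * p⁻¹ * (u * u)⁻¹) by group, huu,
        one_mul, inv_one, mul_one, mul_inv_rev]
      congr 1
      group
    have hcommI : ⁅normalizer ((P : Subgroup G) : Set G), normalizer ((P : Subgroup G) : Set G)⁆ ≤ I := by
      rw [hPR, commutator_le]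
      have hrep : ∀ b ∈ N, b ∈ R ∨ ∃ q ∈ R, b = u * q := fun b hb => (hNdec b hb).imp id fun hq =>
        ⟨u * b, hq, by rw [← mul_assoc, huu, one_mul]⟩
      have hT : ∀ x ∈ R, u * x * u⁻¹ ∈ R := fun x hx => (mem_normalizer_iff.1 huN x).1 hx
      have hpq : ∀ p ∈ R, ∀ q ∈ R, ⁅p, u * q⁆ ∈ I := fun p hp q hq => by
        rw [show ⁅p, u * q⁆ = p * (u * (q * p⁻¹ * q⁻¹) * u⁻¹) by rw [commutatorElement_def]; group,
          (hRc q hq _ (inv_mem hp)).eq, mul_inv_cancel_right]
        exact hI1 p hp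
      intro a ha b hb
      rcases hrep a ha with hp | ⟨p, hp, rfl⟩ <;> rcases hrep b hb with hq | ⟨q, hq, rfl⟩
      · rw [commutatorElement_eq_one_iff_commute.2 (hRc a hp b hq)]; exact one_mem _
      · exact hpq a hp q hq
      · rw [← commutatorElement_inv]; exact inv_mem (hpq b hq p hp)
      · have e : ⁅u * p, u * q⁆ = u * p * u⁻¹ * (u * u) * q * p⁻¹ * (u * q⁻¹ * u⁻¹) * (u * u)⁻¹ *
            (u * u) * (u * u)⁻¹ := by
          rw [commutatorElement_def, huu, inv_one, mul_one, mul_one, mul_one, mul_one, mul_inv_rev,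
            mul_inv_rev, hui]
          group
        rw [e, huu, inv_one, mul_one, mul_one, mul_one, mul_one]
        have h1 := mul_mem (hI1 q hq) (inv_mem (hI1 p hp))
        have hQ := hT _ (inv_mem hq)
        have hP' := hT p hp
        rw [mul_assoc (u * p * u⁻¹ * q), (hRc _ (inv_mem hp) _ hQ).eq, mul_assoc (u * p * u⁻¹) q,
          ← mul_assoc q, ← mul_assoc (u * p * u⁻¹), (hRc _ hP' _ (mul_mem hq hQ)).eq]
        convert h1 using 1
        group
    have hzI : z ∈ I := sylow_le_of_commutator_le hna P hPc hcommI (hPR.symm ▸ hWR hzW)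
    exact hz'W (by rw [← huz, hzI.2]; exact inv_mem hzW)
  · -- `z` is weakly closed
    push Not at hex
    have hzmem : ∀ g : G, g * z * g⁻¹ ∈ H → g * z * g⁻¹ = z := fun g hg => by
      have h1 : g ∈ centralizer ({z} : Set G) := hzH.symm ▸ (not_imp_not.1 (hex g) hg)
      rw [mem_centralizer_singleton_iff.1 h1, mul_inv_cancel_right]
    obtain ⟨P, hP⟩ := hRp.exists_le_sylow
    have hPR : (P : Subgroup G) = R := by
      by_contra hne
      haveI : Group.IsNilpotent ↥(P : Subgroup G) := P.2.isNilpotent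
      have hlt : R.subgroupOf (P : Subgroup G) < ⊤ := lt_top_iff_ne_top.2 fun e =>
        hne (le_antisymm (subgroupOf_eq_top.1 e) hP)
      obtain ⟨n, hn, hn'⟩ := SetLike.exists_of_lt (Group.normalizerCondition_of_isNilpotent _ hlt)
      have hnz : (n : G) * z * (n : G)⁻¹ ∈ R :=
        (mem_normalizer_iff.1 hn ⟨z, hP (hWR hzW)⟩).1 (hWR hzW)
      have hnH : (n : G) ∈ H := not_imp_not.1 (hex n) (hRH hnz)
      apply hn'
      have hp' : IsPGroup r ↥((P : Subgroup G).subgroupOf H) :=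
        P.2.comap_of_injective H.subtype H.subtype_injective
      have hle : (P₀ : Subgroup ↥H) ≤ (P : Subgroup G).subgroupOf H := fun x hx => hP ⟨x, hx, rfl⟩
      have he := P₀.3 hp' hle
      exact ⟨⟨n, hnH⟩, he ▸ n.2, rfl⟩
    set M := normalizer (zpowers z : Set G) with hM
    have hMH : M = H := by
      refine le_antisymm (fun g hg => ?_) (fun g hg => ?_)
      · exact not_imp_not.1 (hex g) (hWH (zpowers_le.2 hzW ((mem_normalizer_iff.1 hg z).1 (mem_zpowers z))))
      · refine mem_normalizer_fintype fun x hx => ?_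
        obtain ⟨i, rfl⟩ := mem_zpowers_iff.1 hx
        rw [← conj_zpow, mem_centralizer_singleton_iff.1 (show g ∈ centralizer ({z} : Set G) from hzH.symm ▸ hg),
          mul_inv_cancel_right]
        exact zpow_mem (mem_zpowers z) i
    have hfus := fusion_of_weakly_closed P (hPR.symm ▸ hWR hzW) (fun y hy => hzR y (hPR ▸ hy))
      (fun g hg => by rw [hzmem g (hRH (hPR ▸ hg))]; exact mem_zpowers z)
    have hidx : r.Coprime M.index := by
      have hle : (P : Subgroup G) ≤ M := fun x hx => hMH.symm ▸ hRH (hPR ▸ hx)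
      exact h.prime.coprime_iff_not_dvd.2 fun hd => P.not_dvd_index (hd.trans (index_dvd_of_le hle))
    haveI : IsCyclic ↥(auto S) := isCyclic_of_prime_card hcard
    letI : CommGroup ↥(auto S) := IsCyclic.commGroup
    have h1 := hom_eq_one_of_control hna M hidx hfus (A := ↥(auto S))
      (IsPGroup.of_card (n := 1) (hcard.trans (pow_one r).symm))
      (φ.rangeRestrict.comp (Subgroup.inclusion hMH.le))
    have h2 : Nat.card ↥(auto S) = 1 := by
      rw [Nat.card_eq_one_iff_unique]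
      refine ⟨⟨fun a b => ?_⟩, ⟨1⟩⟩
      obtain ⟨x, rfl⟩ := φ.rangeRestrict_surjective a
      obtain ⟨y, rfl⟩ := φ.rangeRestrict_surjective b
      have hx := DFunLike.congr_fun h1 ⟨x, hMH.symm ▸ x.2⟩
      have hy := DFunLike.congr_fun h1 ⟨y, hMH.symm ▸ y.2⟩
      exact hx.trans hy.symm
    rw [hcard] at h2
    exact h.prime.ne_one h2

end Hyp

end Cfsg.Lib.CompOrd
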