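import Cfsg.Agent.Lib.CompositeOrder.Setup

/-!
The normalizer of an elementary abelian Sylow 2-subgroup of order at least 8 contains the centralizers of
its involutions, so it is strongly embedded.
-/

set_option autoImplicit false
set_option linter.style.haveILetI false

namespace Cfsg.Lib.CompOrd

open Subgroup
open Cfsg.Lib

universe u

variable {G : Type u} [Group G] [Finite G] {r : ℕ}

namespace Hyp

variable (h : Hyp G r) {S : Sylow 2 G} (hS : 8 ≤ Nat.card (S : Subgroup G))
include h hS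

theorem sylow_not_isCyclic : ¬ IsCyclic (S : Subgroup G) := by
  intro hc
  obtain ⟨g, hg⟩ := IsCyclic.exists_ofOrder_eq_natCard (α := (S : Subgroup G))
  have h1 := orderOf_dvd_of_pow_eq_one (h.sylow_sq S g.2)
  rw [Subgroup.orderOf_coe, hg] at h1
  have := Nat.le_of_dvd two_pos h1
  omega

omit h in
theorem sylow_ne_bot : (S : Subgroup G) ≠ ⊥ := fun e => by
  rw [e, card_bot] at hS; omega

/-- An element of prime order normalizing an abelian group without fixed points forces it to centralize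
a group of order prime to two on which `N(S)` acts, once `N(S)` is transitive on the involutions. -/
theorem centralizes_of_transitive [IsSimpleGroup G] {X : Subgroup G} (hX : IsPGroup r X)
    (hNX : normalizer ((S : Subgroup G) : Set G) ≤ normalizer (X : Set G))
    (htr : ∀ s t : G, s ∈ (S : Subgroup G) → t ∈ (S : Subgroup G) → s ≠ 1 → t ≠ 1 →
      ∃ d ∈ normalizer ((S : Subgroup G) : Set G), d * s * d⁻¹ = t) :
    (S : Subgroup G) ≤ centralizer (X : Set G) := by
  classical
  haveI : Fact (Nat.Prime 2) := ⟨Nat.prime_two⟩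
  haveI := Fact.mk h.prime
  set N := normalizer ((S : Subgroup G) : Set G)
  -- some element of odd prime order moves `S`
  obtain ⟨t, htS, ht1⟩ := (bot_or_exists_ne_one _).resolve_left (sylow_ne_bot hS)
  obtain ⟨t', ht'S, ht'⟩ : ∃ t' ∈ (S : Subgroup G), t' ≠ 1 ∧ t' ≠ t := by
    by_contra hc
    push Not at hc
    have hsub : (S : Subgroup G) ≤ zpowers t := fun x hx => by
      rcases eq_or_ne x 1 with rfl | hx1
      · exact one_mem _
      · rw [hc x hx hx1]; exact mem_zpowers t
    have h1 := card_le_of_le hsub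
    rw [Nat.card_zpowers, h.orderOf_of_mem_sylow S htS ht1] at h1
    omega
  obtain ⟨d, hd, hdt⟩ := htr t t' htS ht'S ht1 ht'.1
  -- kernel of the action on `S`
  set φ : ↥N →* MulAut ↥(S : Subgroup G) := (S : Subgroup G).normalizerMonoidHom
  have hφker : ∀ g : ↥N, φ g = 1 ↔ ∀ x ∈ (S : Subgroup G), (g : G) * x * (g : G)⁻¹ = x := fun g =>
    ⟨fun e x hx => congrArg Subtype.val (DFunLike.congr_fun e (⟨x, hx⟩ : ↥(S : Subgroup G))),
      fun e => MulEquiv.ext fun x => Subtype.ext (e x x.2)⟩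
  have hne : φ.range ≠ ⊥ := fun e => by
    have h1 : φ ⟨d, hd⟩ = 1 := mem_bot.1 (e ▸ ⟨⟨d, hd⟩, rfl⟩)
    exact ht'.2 (hdt.symm.trans ((hφker _).1 h1 t htS))
  -- an element of prime order in the image, lifted to an element of odd order
  obtain ⟨s, hs, hsd⟩ := Nat.exists_prime_and_dvd (n := Nat.card φ.range)
    (fun e => hne ((eq_bot_iff_card _).2 e))
  haveI := Fact.mk hs
  obtain ⟨⟨k, g₀, rfl⟩, hk⟩ := exists_prime_orderOf_dvd_card' (G := φ.range) s hsd
  rw [← Subgroup.orderOf_coe] at hk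
  have hs2 : s ≠ 2 := by
    rintro rfl
    -- a 2-element of `N(S)` lies in `S`
    obtain ⟨a, m, hm, hm2⟩ := Nat.exists_eq_pow_mul_and_not_dvd (orderOf_pos (g₀ : G)).ne' 2 (by norm_num)
    have hg2 : ((g₀ : G) ^ m) ^ 2 ^ a = 1 := by
      rw [← pow_mul, mul_comm, ← hm2, pow_orderOf_eq_one]
    have hmem := h.mem_sylow_of_mem_normalizer S (pow_mem g₀.2 m) (h.sq_eq_one hg2)
    have h1 : φ (g₀ ^ m) = 1 := (hφker _).2 fun x hx => by
      rw [SubgroupClass.coe_pow, (h.commute_of_mem S hmem hx).eq, mul_inv_cancel_right]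
    rw [map_pow] at h1
    have h2 := orderOf_dvd_of_pow_eq_one h1
    rw [hk] at h2
    exact hm h2
  -- reduce to a prime power order, then to prime order
  obtain ⟨a, m, hm, hom⟩ := Nat.exists_eq_pow_mul_and_not_dvd (orderOf_pos (g₀ : G)).ne' s hs.ne_one
  set g := g₀ ^ m with hg
  have hgo : (g : G) ^ s ^ a = 1 := by
    rw [hg, SubgroupClass.coe_pow, ← pow_mul, mul_comm, ← hom, pow_orderOf_eq_one]
  have hφg : orderOf (φ g) = s := by
    rw [hg, map_pow, Nat.Coprime.orderOf_pow, hk]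
    rw [hk]; exact (hs.coprime_iff_not_dvd).2 hm
  -- so `g` has order `s`
  have hgs : (g : G) ^ s = 1 := by
    by_cases hsr : s = r
    · subst hsr
      by_cases hg1 : (g : G) = 1
      · rw [hg1, one_pow]
      obtain ⟨i, -, hi⟩ := (Nat.dvd_prime_pow hs).1 (orderOf_dvd_of_pow_eq_one hgo)
      rcases i with _ | i
      · exact absurd (orderOf_eq_one_iff.1 (hi.trans (pow_zero _))) hg1
      refine h.pow_r_of_odd (h.centR _ (hi ▸ dvd_pow_self _ i.succ_ne_zero)) ?_
      rw [hi]; exact h.odd_r.pow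
    · have h1 : φ (g ^ s) = 1 := by rw [map_pow, ← hφg, pow_orderOf_eq_one]
      have h2 := h.centT t ((g : G) ^ s) (h.orderOf_of_mem_sylow S htS ht1) (by
        have := (hφker _).1 h1 t htS
        rw [SubgroupClass.coe_pow, mul_inv_eq_iff_eq_mul] at this
        exact Commute.symm this)
      rw [← pow_mul] at h2
      have hco : (orderOf (g : G)).Coprime (2 * r) := by
        obtain ⟨i, -, hi⟩ := (Nat.dvd_prime_pow hs).1 (orderOf_dvd_of_pow_eq_one hgo)
        rw [hi]
        refine Nat.Coprime.pow_left _ (Nat.Coprime.mul_right ?_ ?_)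
        · exact (Nat.coprime_primes hs Nat.prime_two).2 hs2
        · exact (Nat.coprime_primes hs h.prime).2 hsr
      exact orderOf_dvd_iff_pow_eq_one.1 (hco.dvd_of_dvd_mul_right (orderOf_dvd_of_pow_eq_one h2))
  -- the commutators of `g` with `S`
  have hgS : ∀ x ∈ (S : Subgroup G), (g : G) * x * (g : G)⁻¹ ∈ (S : Subgroup G) := fun x hx =>
    (mem_normalizer_iff.1 g.2 x).1 hx
  haveI := h.sylow_comm S
  letI : CommGroup ↥(S : Subgroup G) :=
    { (inferInstance : Group ↥(S : Subgroup G)) with mul_comm := mul_comm' }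
  let ψ : ↥(S : Subgroup G) →* ↥(S : Subgroup G) :=
    { toFun := fun x => x * (φ g x)⁻¹
      map_one' := by simp
      map_mul' := fun x y => by
        rw [map_mul, mul_inv]
        exact mul_mul_mul_comm x y _ _ }
  set A := ψ.range.map (S : Subgroup G).subtype with hA
  have hAS : A ≤ (S : Subgroup G) := map_subtype_le _
  have hψ : ∀ x : ↥(S : Subgroup G),
      (ψ x : G) = (x : G) * ((g : G) * (x : G) * (g : G)⁻¹)⁻¹ := fun x => rfl
  have hgA : ∀ a ∈ A, (g : G) * a * (g : G)⁻¹ ∈ A := by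
    rintro _ ⟨_, ⟨x, rfl⟩, rfl⟩
    refine ⟨_, ⟨φ g x, rfl⟩, ?_⟩
    show (ψ (φ g x) : G) = (g : G) * (ψ x : G) * (g : G)⁻¹
    rw [hψ, hψ, show ((φ g x : ↥(S : Subgroup G)) : G) = (g : G) * x * (g : G)⁻¹ from rfl]
    group
  have hfpf : ∀ a ∈ A, Commute a (g : G) → a = 1 := by
    rintro _ ⟨_, ⟨x, rfl⟩, rfl⟩ hc
    set b := (ψ x : G) with hb
    have hbS : b ∈ (S : Subgroup G) := (ψ x).2
    have hgx : (g : G) * x * (g : G)⁻¹ = (x : G) * b := by
      have hxb : (g : G) * x * (g : G)⁻¹ = b⁻¹ * x := by rw [hb, hψ]; group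
      rw [hxb, ← pow_one b⁻¹, inv_eq_of_mul_eq_one_left (by rw [← pow_two]; exact h.sylow_sq S hbS),
        pow_one, (h.commute_of_mem S hbS x.2).eq]
    have hpow : ∀ i : ℕ, (g : G) ^ i * x * ((g : G) ^ i)⁻¹ = (x : G) * b ^ i := by
      intro i
      induction i with
      | zero => simp
      | succ i ih =>
        calc (g : G) ^ (i + 1) * x * ((g : G) ^ (i + 1))⁻¹
            = (g : G) * ((g : G) ^ i * x * ((g : G) ^ i)⁻¹) * (g : G)⁻¹ := by rw [pow_succ']; group
          _ = (g : G) * x * (g : G)⁻¹ * ((g : G) * b ^ i * (g : G)⁻¹) := by rw [ih]; group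
          _ = (x : G) * b * b ^ i := by
              rw [hgx, ← conj_pow, (show Commute b (g : G) from hc).symm.eq, mul_inv_cancel_right]
          _ = (x : G) * b ^ (i + 1) := by rw [pow_succ', mul_assoc]
    have h1 := hpow s
    rw [hgs, one_mul, inv_one, mul_one, eq_comm, mul_eq_left] at h1
    show b = 1
    exact orderOf_eq_one_iff.1 (Nat.eq_one_of_dvd_coprimes
      ((Nat.coprime_primes hs Nat.prime_two).2 hs2) (orderOf_dvd_of_pow_eq_one h1)
      (orderOf_dvd_of_pow_eq_one (h.sylow_sq S hbS)))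
  have hA1 : A ≠ ⊥ := by
    intro e
    have h1 : φ g = 1 := MulEquiv.ext fun x => by
      have h2 : (ψ x : G) ∈ A := ⟨ψ x, ⟨x, rfl⟩, rfl⟩
      rw [e, mem_bot, hψ, mul_inv_eq_one] at h2
      exact (Subtype.ext h2).symm
    rw [h1, orderOf_one] at hφg
    exact hs.ne_one hφg.symm
  -- norms on `X` vanish
  have hgX : (g : G) ∈ normalizer (X : Set G) := hNX g.2
  have hexp : ∀ v ∈ X, (v * (g : G)) ^ s = 1 := by
    intro v hv
    have hmem : ∀ i : ℕ, (v * (g : G)) ^ i * ((g : G) ^ i)⁻¹ ∈ X := by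
      intro i
      induction i with
      | zero => simp
      | succ i ih =>
        have h1 := (mem_normalizer_iff.1 (pow_mem hgX i) v).1 hv
        have := mul_mem ih h1
        convert this using 1
        rw [pow_succ, pow_succ]
        group
    have hw : (v * (g : G)) ^ s ∈ X := by
      have := hmem s
      rwa [hgs, inv_one, mul_one] at this
    obtain ⟨c, hc⟩ := hX ⟨_, hw⟩
    have hc' : ((v * (g : G)) ^ s) ^ r ^ c = 1 := congrArg Subtype.val hc
    by_contra hne'
    by_cases hsr : s = r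
    · subst hsr
      rw [← pow_mul, ← pow_succ'] at hc'
      obtain ⟨i, -, hi⟩ := (Nat.dvd_prime_pow hs).1 (orderOf_dvd_of_pow_eq_one hc')
      rcases i with _ | i
      · exact hne' (by rw [orderOf_eq_one_iff.1 (hi.trans (pow_zero _)), one_pow])
      exact hne' (h.pow_r_of_odd (h.centR _ (hi ▸ dvd_pow_self _ i.succ_ne_zero))
        (by rw [hi]; exact h.odd_r.pow))
    · have hd : r ∣ orderOf (v * (g : G)) := by
        obtain ⟨i, -, hi⟩ := (Nat.dvd_prime_pow h.prime).1 (orderOf_dvd_of_pow_eq_one hc')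
        rcases i with _ | i
        · exact absurd (orderOf_eq_one_iff.1 (hi.trans (pow_zero _))) hne'
        exact ((hi ▸ dvd_pow_self _ i.succ_ne_zero :
          r ∣ orderOf ((v * (g : G)) ^ s))).trans (orderOf_pow_dvd s)
      have h1 := hmem (2 * r)
      rw [h.centR _ hd, one_mul, inv_mem_iff] at h1
      obtain ⟨e, he⟩ := hX ⟨_, h1⟩
      have he' : ((g : G) ^ (2 * r)) ^ r ^ e = 1 := congrArg Subtype.val he
      rw [← pow_mul] at he'
      have hd' : orderOf (g : G) ∣ 2 * r * r ^ e := orderOf_dvd_of_pow_eq_one he'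
      have hgo' : orderOf (g : G) = s := orderOf_eq_prime hgs fun e' => by
        rw [show g = 1 from Subtype.ext e', map_one, orderOf_one] at hφg
        exact hs.ne_one hφg.symm
      rw [hgo', mul_assoc, ← pow_succ'] at hd'
      rcases hs.dvd_mul.1 hd' with h' | h'
      · exact hs2 ((Nat.prime_dvd_prime_iff_eq hs Nat.prime_two).1 h')
      · exact hsr ((Nat.prime_dvd_prime_iff_eq hs h.prime).1 (hs.dvd_of_dvd_pow h'))
  have hco : (Nat.card A).Coprime (Nat.card X) := by
    obtain ⟨i, hi⟩ := IsPGroup.iff_card.1 (S.2.to_le hAS)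
    obtain ⟨j, hj⟩ := IsPGroup.iff_card.1 hX
    rw [hi, hj]
    exact Nat.Coprime.pow _ _ (Nat.coprime_two_left.2 h.odd_r)
  have hAC := centralizes_nilpotent hX.isNilpotent hco hs hgs (hAS.trans (le_normalizer.trans hNX))
    hgX hgA hfpf hexp
  obtain ⟨a₁, ha₁, ha₁'⟩ := (bot_or_exists_ne_one A).resolve_left hA1
  intro x hx
  rcases eq_or_ne x 1 with rfl | hx1
  · exact one_mem _
  obtain ⟨e, he, rfl⟩ := htr a₁ x (hAS ha₁) hx ha₁' hx1
  refine mem_centralizer_iff.2 fun y hy => ?_
  have hy' : e⁻¹ * y * e ∈ X := by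
    have := (mem_normalizer_iff.1 (inv_mem (hNX he)) y).1 hy
    rwa [inv_inv] at this
  calc y * (e * a₁ * e⁻¹) = e * (e⁻¹ * y * e * a₁) * e⁻¹ := by group
    _ = e * (a₁ * (e⁻¹ * y * e)) * e⁻¹ := by rw [mem_centralizer_iff.1 (hAC ha₁) _ hy']
    _ = e * a₁ * e⁻¹ * y := by group

variable [IsSimpleGroup G]

theorem not_commutative_of_sylow : ¬ IsMulCommutative G := by
  intro hc
  have hn : (S : Subgroup G).Normal := ⟨fun x hx g => by
    rw [show g * x * g⁻¹ = x from by rw [hc.is_comm.comm g x, mul_inv_cancel_right]]; exact hx⟩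
  rcases hn.eq_bot_or_eq_top with e | e
  · exact sylow_ne_bot hS e
  · haveI : IsMulCommutative G := hc
    letI : CommGroup G := { (inferInstance : Group G) with mul_comm := mul_comm' }
    have hp : (Nat.card G).Prime := IsSimpleGroup.prime_card
    rw [← Subgroup.card_top, ← e] at hp
    haveI : IsCyclic ↥(S : Subgroup G) := by
      haveI := Fact.mk hp
      exact isCyclic_of_prime_card (p := Nat.card ↥(S : Subgroup G)) rfl
    obtain ⟨k, hk⟩ := IsPGroup.iff_card.1 S.2
    rw [hk] at hp hS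
    have := (Nat.Prime.pow_eq_iff hp).1 rfl
    rcases Nat.lt_or_ge k 2 with hk2 | hk2
    · interval_cases k <;> omega
    · exact Nat.Prime.not_prime_pow hk2 hp

/-- The normalizer of `S` contains the centralizers of its involutions. -/
theorem centralizer_le {t : G} (htS : t ∈ (S : Subgroup G)) (ht1 : t ≠ 1) :
    centralizer ({t} : Set G) ≤ normalizer ((S : Subgroup G) : Set G) := by
  classical
  haveI : Fact (Nat.Prime 2) := ⟨Nat.prime_two⟩
  haveI := Fact.mk h.prime
  haveI := h.sylow_comm S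
  set N := normalizer ((S : Subgroup G) : Set G)
  set A := (S : Subgroup G) with hA
  have hAel : Cfsg.IsElementaryAbelian 2 A := ⟨inferInstance, fun a ha => h.sylow_sq S ha⟩
  have ho : ∀ a ∈ A, a ≠ 1 → orderOf a = 2 := fun a ha ha1 => h.orderOf_of_mem_sylow S ha ha1
  set θ : G → Subgroup G := fun a => Cfsg.centralizerPPrimeCore 2 a
  have hθ : Cfsg.IsSolvableSignalizerFunctor 2 A θ := Cfsg.Agent.S1279.result 2 A hAel
    (by norm_num; omega) fun a ha ha1 => h.solvable_centralizer (ho a ha ha1)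
  obtain ⟨-, X, hAX, hX2, hXθ⟩ := Cfsg.Agent.S1285.result 2 A hAel (by norm_num; omega) θ hθ r
    fun a ha ha1 => h.theta_isPGroup (ho a ha ha1)
  set X₀ : Subgroup G := ⨆ a : {a : G // a ∈ A ∧ a ≠ 1}, θ a
  have hθX₀ : ∀ a ∈ A, a ≠ 1 → θ a ≤ X₀ := fun a ha ha1 =>
    le_iSup (fun a : {a : G // a ∈ A ∧ a ≠ 1} => θ a) ⟨a, ha, ha1⟩
  have hX₀X : X₀ ≤ X := iSup_le fun a => (hXθ a a.2.1 a.2.2).symm.le.trans inf_le_left
  -- `N(S)` normalizes `X₀`
  have hNX₀ : N ≤ normalizer (X₀ : Set G) := by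
    intro n hn
    refine mem_normalizer_fintype fun x hx => ?_
    have hle : X₀.map (MulAut.conj n).toMonoidHom ≤ X₀ := by
      rw [Subgroup.map_iSup]
      refine iSup_le fun a => (FTCons.centralizerPPrimeCore_map_conj 2 n (a : G)).trans ?_
      exact hθX₀ _ ((mem_normalizer_iff.1 hn _).1 a.2.1) (fun e => a.2.2 (conj_eq_one_iff.1 e))
    exact hle ⟨x, hx, rfl⟩
  have hAX₀ : A ≤ normalizer (X₀ : Set G) := le_normalizer.trans hNX₀
  have hX₀2 : ¬ 2 ∣ Nat.card X₀ := fun hd => hX2 (hd.trans (card_dvd_of_le hX₀X))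
  have hcop : (Nat.card A).Coprime (Nat.card X₀) := by
    obtain ⟨k, hk⟩ := IsPGroup.iff_card.1 S.2
    rw [hk]
    exact Nat.Coprime.pow_left _ (Nat.prime_two.coprime_iff_not_dvd.2 hX₀2)
  -- `X₀` is an `r`-group
  have hX₀r : IsPGroup r X₀ := by
    refine IsPGroup.of_card (n := (Nat.card X₀).primeFactorsList.length)
      (Nat.eq_prime_pow_of_unique_prime_dvd Nat.card_pos.ne' fun {q} hq hqd => ?_)
    by_contra hqr
    haveI := Fact.mk hq
    haveI : Group.IsSolvable ↥A := Group.isSolvable_of_comm fun a b => mul_comm' a b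
    obtain ⟨Q, hQ⟩ := Coprime.exists_invariant_sylow hAX₀ hcop (Or.inl inferInstance) q
    set Q' := (Q : Subgroup X₀).map X₀.subtype
    have hQcop : (Nat.card A).Coprime (Nat.card Q') :=
      hcop.coprime_dvd_right (card_dvd_of_le (map_subtype_le _))
    have hQbot : Q' = ⊥ := by
      refine le_bot_iff.1 ((Coprime.le_iSup_centralizer_of_not_isCyclic (G := Q')
        (h.sylow_not_isCyclic hS) hQ hQcop).trans (iSup_le fun a => ?_))
      intro x hx
      have hxθ : x ∈ θ a := (hXθ a a.2.1 a.2.2) ▸ ⟨hX₀X (map_subtype_le _ hx.1), hx.2⟩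
      obtain ⟨i, hi⟩ := h.theta_isPGroup (ho a a.2.1 a.2.2) ⟨x, hxθ⟩
      obtain ⟨j, hj⟩ := (Q.2.map X₀.subtype) ⟨x, hx.1⟩
      exact mem_bot.2 (orderOf_eq_one_iff.1 (Nat.eq_one_of_dvd_coprimes
        (((Nat.coprime_primes h.prime hq).2 fun e => hqr e.symm).pow i j)
        (orderOf_dvd_of_pow_eq_one (congrArg Subtype.val hi))
        (orderOf_dvd_of_pow_eq_one (congrArg Subtype.val hj))))
    rw [map_eq_bot_iff_of_injective _ X₀.subtype_injective] at hQbot
    exact Q.ne_bot_of_dvd_card hqd hQbot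
  -- every centralizer is in `X₀ N(S)`
  have hC : ∀ a ∈ A, a ≠ 1 → centralizer ({a} : Set G) ≤ X₀ ⊔ N := fun a ha ha1 =>
    (h.le_core_sup_normalizer S (h.sylow_le_centralizer S ha) (h.solvable_centralizer (ho a ha ha1))).trans
      (sup_le_sup_right (hθX₀ a ha ha1) _)
  suffices hAc : A ≤ centralizer (X₀ : Set G) by
    refine (hC t htS ht1).trans (sup_le (fun x hx => ?_) le_rfl)
    refine mem_normalizer_iff.2 fun s => ?_
    have hfix : ∀ s ∈ A, x * s * x⁻¹ = s := fun s hs => by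
      rw [mem_centralizer_iff.1 (hAc hs) x hx, mul_inv_cancel_right]
    refine ⟨fun hs => by rwa [hfix s hs], fun hs => ?_⟩
    have h1 : x⁻¹ * (x * s * x⁻¹) * x = x * s * x⁻¹ := by
      conv_lhs => rw [← hfix _ hs]
      group
    rw [show s = x⁻¹ * (x * s * x⁻¹) * x by group, h1]
    exact hs
  rcases eq_or_ne X₀ ⊥ with e | e
  · rw [e]
    exact fun a _ => mem_centralizer_iff.2 fun x hx => by
      rw [SetLike.mem_coe, mem_bot] at hx
      rw [hx, one_mul, mul_one]
  -- otherwise the normalizer of `X₀` is strongly embedded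
  set H := normalizer (X₀ : Set G)
  have hH : H ≠ ⊤ := fun h' => by
    rcases (normalizer_eq_top_iff.1 h').eq_bot_or_eq_top with e' | e'
    · exact e e'
    · apply hX₀2
      rw [e', Subgroup.card_top]
      obtain ⟨k, hk⟩ := IsPGroup.iff_card.1 S.2
      rcases k with _ | k
      · rw [pow_zero] at hk; exact absurd (hS.trans (le_of_eq hk)) (by norm_num)
      · exact ((hk ▸ dvd_pow_self 2 k.succ_ne_zero)).trans (card_subgroup_dvd_card (S : Subgroup G))
  have hCH : ∀ a ∈ A, a ≠ 1 → centralizer ({a} : Set G) ≤ H := fun a ha ha1 =>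
    (hC a ha ha1).trans (sup_le le_normalizer hNX₀)
  have hse : Cfsg.IsStronglyEmbedded H := by
    refine (Invol.stronglyEmbedded_iff hH ?_).2 fun a haH ha g hg => ?_
    · obtain ⟨x, hx, hx1⟩ := (bot_or_exists_ne_one _).resolve_left (sylow_ne_bot hS)
      rw [even_iff_two_dvd, ← ho x hx hx1]
      exact orderOf_dvd_natCard _ (hAX₀ hx)
    -- move both involutions into `S`
    have hconj : ∀ b ∈ H, orderOf b = 2 → ∃ m ∈ H, m * b * m⁻¹ ∈ A := by
      intro b hb hb2
      have hp : IsPGroup 2 (zpowers (⟨b, hb⟩ : ↥H)) := IsPGroup.of_card (n := 1) (by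
        rw [Nat.card_zpowers, Subgroup.orderOf_mk, hb2, pow_one])
      obtain ⟨P, hP⟩ := hp.exists_le_sylow
      obtain ⟨m, hm⟩ := MulAction.exists_smul_eq ↥H P (S.subtype hAX₀)
      refine ⟨m, m.2, ?_⟩
      have : m * ⟨b, hb⟩ * m⁻¹ ∈ ((S.subtype hAX₀ : Sylow 2 ↥H) : Subgroup ↥H) := by
        rw [← hm, Sylow.coe_subgroup_smul]
        exact ⟨_, hP (mem_zpowers _), rfl⟩
      exact this
    obtain ⟨m, hm, hma⟩ := hconj a haH ha
    obtain ⟨m', hm', hma'⟩ := hconj _ hg (by rw [Invol.orderOf_conj_eq, ha])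
    set a' := m * a * m⁻¹
    set g' := m' * g * m⁻¹ with hg'
    have ha'1 : a' ≠ 1 := fun e' => by rw [conj_eq_one_iff.1 e', orderOf_one] at ha; omega
    have hga : g' * a' * g'⁻¹ ∈ A := by
      rw [hg', show m' * g * m⁻¹ * (m * a * m⁻¹) * (m' * g * m⁻¹)⁻¹ = m' * (g * a * g⁻¹) * m'⁻¹ by group]
      exact hma'
    -- Sylow's theorem in the centralizer of the image
    set L := centralizer ({g' * a' * g'⁻¹} : Set G)
    have hAL : A ≤ L := h.sylow_le_centralizer S hga
    have hgAL : ((g' • S : Sylow 2 G) : Subgroup G) ≤ L := by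
      rw [Sylow.coe_subgroup_smul]
      rintro _ ⟨x, hx, rfl⟩
      refine mem_centralizer_singleton_iff.2 ?_
      show g' * x * g'⁻¹ * (g' * a' * g'⁻¹) = g' * a' * g'⁻¹ * (g' * x * g'⁻¹)
      calc _ = g' * (x * a') * g'⁻¹ := by group
        _ = _ := by rw [(h.commute_of_mem S hx hma).eq]; group
    obtain ⟨c, hc⟩ := MulAction.exists_smul_eq ↥L ((g' • S).subtype hgAL) (S.subtype hAL)
    have hne' : g' * a' * g'⁻¹ ≠ 1 := fun e' => ha'1 (conj_eq_one_iff.1 e')
    rw [Sylow.smul_subtype] at hc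
    have hcS : ((c : G) * g') • S = S := by
      rw [mul_smul]
      exact Sylow.subtype_injective hc
    have h1 : (c : G) * g' ∈ H := hNX₀ (Sylow.smul_eq_iff_mem_normalizer.1 hcS)
    have h2 : g' ∈ H := (H.mul_mem_cancel_left (hCH _ hga hne' c.2)).1 h1
    rw [hg'] at h2
    exact (H.mul_mem_cancel_left hm').1 ((H.mul_mem_cancel_right (inv_mem hm)).1 h2)
  refine h.centralizes_of_transitive hS hX₀r hNX₀ fun x y hx hy hx1 hy1 => ?_
  obtain ⟨g, hg⟩ := isConj_iff.1 (Invol.se_isConj hse (ho x hx hx1) (ho y hy hy1))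
  -- fusion in the abelian `S` is controlled by its normalizer
  set L := centralizer ({y} : Set G)
  have hAL : A ≤ L := h.sylow_le_centralizer S hy
  have hgAL : ((g • S : Sylow 2 G) : Subgroup G) ≤ L := by
    rw [Sylow.coe_subgroup_smul]
    rintro _ ⟨z, hz, rfl⟩
    refine mem_centralizer_singleton_iff.2 ?_
    show g * z * g⁻¹ * y = y * (g * z * g⁻¹)
    rw [← hg]
    calc g * z * g⁻¹ * (g * x * g⁻¹) = g * (z * x) * g⁻¹ := by group
      _ = _ := by rw [(h.commute_of_mem S hz hx).eq]; group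
  obtain ⟨c, hc⟩ := MulAction.exists_smul_eq ↥L ((g • S).subtype hgAL) (S.subtype hAL)
  rw [Sylow.smul_subtype] at hc
  have hcS : ((c : G) * g) • S = S := by
    rw [mul_smul]
    exact Sylow.subtype_injective hc
  refine ⟨c * g, Sylow.smul_eq_iff_mem_normalizer.1 hcS, ?_⟩
  rw [show (c : G) * g * x * ((c : G) * g)⁻¹ = c * (g * x * g⁻¹) * (c : G)⁻¹ by group, hg,
    mem_centralizer_singleton_iff.1 c.2, mul_inv_cancel_right]

/-- The normalizer of `S` is strongly embedded. -/
theorem stronglyEmbedded : Cfsg.IsStronglyEmbedded (normalizer ((S : Subgroup G) : Set G)) := by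
  have hH : normalizer ((S : Subgroup G) : Set G) ≠ ⊤ := fun e => by
    rcases (normalizer_eq_top_iff.1 e).eq_bot_or_eq_top with e' | e'
    · exact sylow_ne_bot hS e'
    · exact h.not_commutative_of_sylow hS ⟨⟨fun a b =>
        (h.commute_of_mem S (e' ▸ mem_top a) (e' ▸ mem_top b)).eq⟩⟩
  refine (Invol.stronglyEmbedded_iff hH ?_).2 fun a haH ha g hg => ?_
  · obtain ⟨x, hx, hx1⟩ := (bot_or_exists_ne_one _).resolve_left (sylow_ne_bot hS)
    exact even_iff_two_dvd.2
      ((h.orderOf_of_mem_sylow S hx hx1).symm.dvd.trans (orderOf_dvd_natCard _ (le_normalizer hx)))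
  have ha' : a ∈ (S : Subgroup G) :=
    h.mem_sylow_of_mem_normalizer S haH (sq_invol ha)
  have hsq : (g * a * g⁻¹) ^ 2 = 1 := by rw [conj_pow, h.sylow_sq S ha', mul_one, mul_inv_cancel]
  have hg' : g * a * g⁻¹ ∈ (S : Subgroup G) := h.mem_sylow_of_mem_normalizer S hg hsq
  have hne : g * a * g⁻¹ ≠ 1 := fun e => by rw [conj_eq_one_iff.1 e, orderOf_one] at ha; omega
  -- `g S g⁻¹` centralizes the image, so it is `S`
  refine mem_normalizer_fintype fun x hx => ?_
  refine h.mem_sylow_of_mem_normalizer S (h.centralizer_le hS hg' hne ?_) ?_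
  · refine mem_centralizer_singleton_iff.2 ?_
    calc g * x * g⁻¹ * (g * a * g⁻¹) = g * (x * a) * g⁻¹ := by group
      _ = _ := by rw [(h.commute_of_mem S hx ha').eq]; group
  · rw [conj_pow, h.sylow_sq S hx, mul_one, mul_inv_cancel]

/-- The involutions of the Sylow normalizer are those of `S`. -/
theorem card_involutions :
    Nat.card {t : G // orderOf t = 2 ∧ t ∈ normalizer ((S : Subgroup G) : Set G)} =
      Nat.card (S : Subgroup G) - 1 := by
  classical
  set H := normalizer ((S : Subgroup G) : Set G)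
  let e : {t : G // orderOf t = 2 ∧ t ∈ H} ≃ {x : ↥(S : Subgroup G) // x ≠ 1} :=
    { toFun := fun t => ⟨⟨t.1, h.mem_sylow_of_mem_normalizer S t.2.2
          (sq_invol t.2.1)⟩, fun e => by
        have h3 := t.2.1
        rw [show t.1 = 1 from congrArg Subtype.val e, orderOf_one] at h3
        exact absurd h3 (by norm_num)⟩
      invFun := fun x => ⟨x.1, h.orderOf_of_mem_sylow S x.1.2 (fun e => x.2 (Subtype.ext e)),
        le_normalizer x.1.2⟩
      left_inv := fun _ => rfl
      right_inv := fun _ => rfl }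
  rw [Nat.card_congr e]
  letI := Fintype.ofFinite ↥(S : Subgroup G)
  rw [Nat.card_eq_fintype_card, Nat.card_eq_fintype_card, Fintype.card_subtype_compl,
    Fintype.card_subtype_eq]

/-- Outside the Sylow normalizer, `u` inverts as many of its elements as `S` has involutions. -/
theorem card_inverted {u : G} (hu : orderOf u = 2)
    (huH : u ∉ normalizer ((S : Subgroup G) : Set G)) :
    Nat.card {d : G // d ∈ normalizer ((S : Subgroup G) : Set G) ∧ u * d * u⁻¹ = d⁻¹} =
      Nat.card (S : Subgroup G) - 1 := by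
  classical
  set H := normalizer ((S : Subgroup G) : Set G)
  have huu : u * u = 1 := mul_self_invol hu
  have hxy : (QuotientGroup.mk 1 : G ⧸ H) ≠ QuotientGroup.mk u := fun e => huH (by
    simpa using QuotientGroup.eq.1 e)
  have h1 := (Invol.se_swap (h.stronglyEmbedded hS) hxy).1
  have h2 : Nat.card {t : G // orderOf t = 2 ∧ t ∈ H} = Nat.card (S : Subgroup G) - 1 :=
    h.card_involutions hS
  rw [← h2, ← h1]
  refine Nat.card_congr ?_
  exact
    { toFun := fun d => ⟨u * d.1, by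
        refine ⟨orderOf_eq_prime ?_ ?_, ?_⟩
        · calc (u * d.1) ^ 2 = u * d.1 * u⁻¹ * (u * u) * d.1 := by rw [pow_two]; group
            _ = 1 := by rw [huu, mul_one, d.2.2, inv_mul_cancel]
        · intro e
          exact huH (by rw [eq_inv_of_mul_eq_one_left e]; exact inv_mem d.2.1)
        · rw [MulAction.Quotient.smul_mk, QuotientGroup.eq]
          simpa [mul_assoc] using d.2.1⟩
      invFun := fun i => ⟨u * i.1, by
        have hi2 : i.1 * i.1 = 1 := mul_self_invol i.2.1
        refine ⟨?_, ?_⟩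
        · have h3 := i.2.2
          rw [MulAction.Quotient.smul_mk, QuotientGroup.eq] at h3
          have h4 := inv_mem h3
          simpa [inv_eq_of_mul_eq_one_left huu] using h4
        · rw [mul_inv_rev, inv_eq_of_mul_eq_one_left huu, inv_eq_of_mul_eq_one_left hi2, ← mul_assoc, huu,
            one_mul]⟩
      left_inv := fun d => Subtype.ext (by
        show u * (u * d.1) = d.1
        rw [← mul_assoc, huu, one_mul])
      right_inv := fun i => Subtype.ext (by
        show u * (u * i.1) = i.1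
        rw [← mul_assoc, huu, one_mul]) }

/-- An element of odd order commuting with an involution is not inverted by an involution. -/
theorem not_inverted {x t u : G} (ht : orderOf t = 2) (hxt : Commute t x) (hu : u * u = 1)
    (hinv : u * x * u⁻¹ = x⁻¹) (hodd : Odd (orderOf x)) : x = 1 := by
  classical
  haveI : Fact (Nat.Prime 2) := ⟨Nat.prime_two⟩
  -- move `t` into `S`
  obtain ⟨g, hg⟩ : ∃ g : G, g * t * g⁻¹ ∈ (S : Subgroup G) := by
    have hp : IsPGroup 2 (zpowers t) := IsPGroup.of_card (n := 1) (by rw [Nat.card_zpowers, ht, pow_one])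
    obtain ⟨P, hP⟩ := hp.exists_le_sylow
    obtain ⟨g, rfl⟩ := MulAction.exists_smul_eq G P S
    exact ⟨g, ⟨t, hP (mem_zpowers t), rfl⟩⟩
  set t' := g * t * g⁻¹
  set x' := g * x * g⁻¹ with hx'
  set u' := g * u * g⁻¹ with hu'
  set H := normalizer ((S : Subgroup G) : Set G)
  have ht' : orderOf t' = 2 := (Invol.orderOf_conj_eq g t).trans ht
  have ht'1 : t' ≠ 1 := fun e => by rw [e, orderOf_one] at ht'; omega
  have hxt' : Commute t' x' := hxt.map (MulAut.conj g).toMonoidHom
  have hinv' : u' * x' * u'⁻¹ = x'⁻¹ := by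
    have := congrArg (MulAut.conj g) hinv
    simpa [hu', hx', mul_assoc] using this
  have hodd' : Odd (orderOf x') := by rwa [hx', Invol.orderOf_conj_eq]
  suffices hx'1 : x' = 1 from conj_eq_one_iff.1 hx'1
  set C := centralizer ({x'} : Set G)
  have htC : zpowers t' ≤ C := (zpowers_le).2 (mem_centralizer_singleton_iff.2 hxt'.eq)
  have hp' : IsPGroup 2 ((zpowers t').subgroupOf C) :=
    (IsPGroup.of_card (n := 1) (by rw [Nat.card_zpowers, ht', pow_one]) : IsPGroup 2 (zpowers t')).of_equiv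
      (subgroupOfEquivOfLe htC).symm
  obtain ⟨T, hT⟩ := hp'.exists_le_sylow
  have htT : t' ∈ (T : Subgroup C).map C.subtype :=
    ⟨⟨t', htC (mem_zpowers t')⟩, hT (mem_zpowers t'), rfl⟩
  have hTS : (T : Subgroup C).map C.subtype ≤ (S : Subgroup G) := by
    intro y hy
    obtain ⟨k, hk⟩ := (T.2.map C.subtype) ⟨y, hy⟩
    have hy2 : y ^ 2 = 1 := h.sq_eq_one (congrArg Subtype.val hk)
    obtain ⟨j, hj⟩ := (T.2.map C.subtype) ⟨t' * y, mul_mem htT hy⟩
    have hty := h.sq_eq_one (congrArg Subtype.val hj)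
    refine h.mem_sylow_of_mem_normalizer S (h.centralizer_le hS hg ht'1
      (mem_centralizer_singleton_iff.2 ?_)) hy2
    rw [pow_two] at hy2 hty
    have ht2 : t' * t' = 1 := mul_self_invol ht'
    have e := inv_eq_of_mul_eq_one_left hty
    rw [mul_inv_rev, inv_eq_of_mul_eq_one_left hy2, inv_eq_of_mul_eq_one_left ht2] at e
    exact e
  have huC : u' ∈ normalizer (C : Set G) := by
    refine mem_normalizer_fintype fun y hy => mem_centralizer_singleton_iff.2 ?_
    have hy' : Commute y x' := mem_centralizer_singleton_iff.1 hy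
    have h1 := (hy'.inv_right).map (MulAut.conj u').toMonoidHom
    have h2 : u' * x'⁻¹ * u'⁻¹ = x' := by
      rw [show u' * x'⁻¹ * u'⁻¹ = (u' * x' * u'⁻¹)⁻¹ by group, hinv', inv_inv]
    simp only [MulEquiv.coe_toMonoidHom, MulAut.conj_apply, h2] at h1
    exact h1
  obtain ⟨Q, hQ⟩ := Coprime.exists_sylow_eq_conj T huC
  obtain ⟨c, hc, hcQ⟩ := Coprime.exists_sylow_conj Q T
  set n := c * u' with hn
  have hnt : n * t' * n⁻¹ ∈ (T : Subgroup C).map C.subtype := by
    rw [hcQ, hQ]
    exact ⟨u' * t' * u'⁻¹, ⟨t', htT, rfl⟩, by simp [hn, mul_assoc]⟩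
  have hnH : n ∈ H := Invol.se_mem (h.stronglyEmbedded hS) (le_normalizer hg) ht'
    (le_normalizer (hTS hnt))
  have hninv : n * x' * n⁻¹ = x'⁻¹ := by
    rw [hn, show c * u' * x' * (c * u')⁻¹ = c * (u' * x' * u'⁻¹) * c⁻¹ by group, hinv',
      ((show Commute c x' from mem_centralizer_singleton_iff.1 hc).inv_right).eq, mul_inv_cancel_right]
  have hn2 : ∀ k : ℕ, n ^ (2 * k) * x' * (n ^ (2 * k))⁻¹ = x' := by
    intro k
    induction k with
    | zero => simp
    | succ k ih =>
      rw [show 2 * (k + 1) = 2 * k + 1 + 1 from rfl, pow_succ, pow_succ,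
        show n ^ (2 * k) * n * n * x' * (n ^ (2 * k) * n * n)⁻¹ =
          n ^ (2 * k) * (n * (n * x' * n⁻¹) * n⁻¹) * (n ^ (2 * k))⁻¹ by group, hninv,
        show n * x'⁻¹ * n⁻¹ = (n * x' * n⁻¹)⁻¹ by group, hninv, inv_inv, ih]
  have hsq : x' = x'⁻¹ → x' = 1 := fun e => by
    have h1 : orderOf x' ∣ 2 := orderOf_dvd_of_pow_eq_one (by
      rw [pow_two]; nth_rw 2 [e]; exact mul_inv_cancel x')
    exact orderOf_eq_one_iff.1 (Nat.eq_one_of_dvd_coprimes (Nat.coprime_two_right.2 hodd') dvd_rfl h1)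
  rcases Nat.even_or_odd (orderOf n) with he | ⟨k, hk⟩
  · have h2r := h.pow_two_r_of_even (even_iff_two_dvd.1 he)
    obtain ⟨j, hj⟩ := h.odd_r
    set i := n ^ r with hi
    have hix : i * x' * i⁻¹ = x'⁻¹ := by
      rw [hi, hj, pow_succ', show n * n ^ (2 * j) * x' * (n * n ^ (2 * j))⁻¹ =
        n * (n ^ (2 * j) * x' * (n ^ (2 * j))⁻¹) * n⁻¹ by group, hn2, hninv]
    have hiS : i ∈ (S : Subgroup G) := h.mem_sylow_of_mem_normalizer S (pow_mem hnH r)
      (by rw [hi, ← pow_mul, mul_comm, h2r])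
    have hxH : x' ∈ H := h.centralizer_le hS hg ht'1 (mem_centralizer_singleton_iff.2 hxt'.eq.symm)
    have h3 : x'⁻¹ * x'⁻¹ ∈ (S : Subgroup G) := by
      have h4 : i * (x' * i⁻¹ * x'⁻¹) ∈ (S : Subgroup G) :=
        mul_mem hiS ((mem_normalizer_iff.1 hxH _).1 (inv_mem hiS))
      convert h4 using 1
      calc x'⁻¹ * x'⁻¹ = i * x' * i⁻¹ * x'⁻¹ := by rw [hix]
        _ = _ := by group
    have h5 := orderOf_dvd_of_pow_eq_one (h.sylow_sq S h3)
    rw [← mul_inv_rev, orderOf_inv, ← pow_two, (Nat.coprime_two_right.2 hodd').orderOf_pow] at h5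
    exact orderOf_eq_one_iff.1 (Nat.eq_one_of_dvd_coprimes (Nat.coprime_two_right.2 hodd') dvd_rfl h5)
  · apply hsq
    have h4 := hn2 (k + 1)
    rw [show 2 * (k + 1) = orderOf n + 1 by omega, pow_succ, pow_orderOf_eq_one, one_mul, hninv] at h4
    exact h4.symm

/-- The centralizer of an `r`-element centralizing `S` lies in the normalizer of `S`. -/
theorem centralizer_r_le {x : G} (hx1 : x ≠ 1) (hx : x ^ r = 1)
    (hxS : x ∈ centralizer ((S : Subgroup G) : Set G)) :
    centralizer ({x} : Set G) ≤ normalizer ((S : Subgroup G) : Set G) := by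
  haveI : Fact (Nat.Prime 2) := ⟨Nat.prime_two⟩
  haveI := h.sylow_comm S
  set L := centralizer ({x} : Set G)
  have hSL : (S : Subgroup G) ≤ L := fun s hs =>
    mem_centralizer_singleton_iff.2 (mem_centralizer_iff.1 hxS s hs)
  refine (h.le_core_sup_normalizer S hSL (h.solvable_centralizer_r hx1 hx)).trans (sup_le ?_ le_rfl)
  set O := (Cfsg.pPrimeCore 2 ↥L).map L.subtype
  have hON : (S : Subgroup G) ≤ normalizer (O : Set G) := fun s hs => by
    refine mem_normalizer_fintype ?_
    rintro _ ⟨y, hy, rfl⟩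
    exact ⟨⟨s, hSL hs⟩ * y * (⟨s, hSL hs⟩ : L)⁻¹, Subgroup.Normal.conj_mem inferInstance y hy _, rfl⟩
  have hcop : (Nat.card (S : Subgroup G)).Coprime (Nat.card O) := by
    obtain ⟨k, hk⟩ := IsPGroup.iff_card.1 S.2
    rw [hk, Nat.card_congr ((Cfsg.pPrimeCore 2 ↥L).equivMapOfInjective _ L.subtype_injective).symm.toEquiv]
    exact Nat.Coprime.pow_left _ (Core.pPrimeCore_coprime 2 ↥L).symm
  refine (Coprime.le_iSup_centralizer_of_not_isCyclic (h.sylow_not_isCyclic hS) hON hcop).trans ?_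
  exact iSup_le fun a => inf_le_right.trans (h.centralizer_le hS a.2.1 a.2.2)

end Hyp

end Cfsg.Lib.CompOrd
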