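import Mathlib.GroupTheory.Transfer
import Mathlib.GroupTheory.Abelianization.Defs
import Mathlib.GroupTheory.GroupAction.FixedPoints

/-!
The transfer of an element of prime order, read off from its fixed cosets.
-/

set_option autoImplicit false

namespace Cfsg.Lib.CompOrd

open Subgroup MonoidHom

/-- The transfer of an element `y` of prime order is `f y` to the number of cosets it fixes, when all the
conjugates read off at these cosets have the same image. -/
theorem transfer_fixed {G A : Type*} [Group G] [Finite G] [CommGroup A] {H : Subgroup G} (f : ↥H →* A)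
    {y : G} {p : ℕ} (hp : p.Prime) (hy : y ^ p = 1) (hyH : y ∈ H)
    (hfix : ∀ g : G, ∀ hg : g⁻¹ * y * g ∈ H, f ⟨g⁻¹ * y * g, hg⟩ = f ⟨y, hyH⟩) :
    transfer f y = f ⟨y, hyH⟩ ^ Nat.card {x : G ⧸ H // y • x = x} := by
  classical
  letI : Fintype (G ⧸ H) := Fintype.ofFinite _
  letI : Fintype (Quotient (MulAction.orbitRel (zpowers y) (G ⧸ H))) := Fintype.ofFinite _
  rw [transfer_eq_prod_quotient_orbitRel_zpowers_quot]
  set P : Quotient (MulAction.orbitRel (zpowers y) (G ⧸ H)) → Prop :=
    fun q => Function.minimalPeriod (y • ·) q.out = 1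
  have hper : ∀ x : G ⧸ H, Function.minimalPeriod (y • ·) x = 1 ∨ Function.minimalPeriod (y • ·) x = p := by
    intro x
    refine (Nat.dvd_prime hp).1 (Function.IsPeriodicPt.minimalPeriod_dvd ?_)
    show (y • ·)^[p] x = x
    rw [smul_iterate, hy]
    exact one_smul G x
  have hterm : ∀ q : Quotient (MulAction.orbitRel (zpowers y) (G ⧸ H)),
      f ⟨q.out.out⁻¹ * y ^ Function.minimalPeriod (y • ·) q.out * q.out.out,
        QuotientGroup.out_conj_pow_minimalPeriod_mem H y q.out⟩ = if P q then f ⟨y, hyH⟩ else 1 := by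
    intro q
    rcases hper q.out with e | e
    · rw [if_pos e]
      have h1 := QuotientGroup.out_conj_pow_minimalPeriod_mem H y q.out
      rw [e, pow_one] at h1
      rw [← hfix _ h1]
      congr 1
      exact Subtype.ext (by simp [e])
    · rw [if_neg (by show ¬ _ = 1; rw [e]; exact hp.ne_one), ← map_one f]
      congr 1
      exact Subtype.ext (by simp [e, hy])
  rw [Finset.prod_congr rfl fun q _ => hterm q, Finset.prod_ite, Finset.prod_const, Finset.prod_const_one,
    mul_one]
  congr 1
  rw [← Fintype.card_subtype, ← Nat.card_eq_fintype_card]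
  have hfx : ∀ x : G ⧸ H, y • x = x → ∀ z, z ∈ MulAction.orbit (zpowers y) x → z = x := by
    rintro x hx z ⟨⟨w, hw⟩, rfl⟩
    obtain ⟨i, rfl⟩ := mem_zpowers_iff.1 hw
    show y ^ i • x = x
    exact MulAction.mem_stabilizer_iff.1 (zpow_mem (MulAction.mem_stabilizer_iff.2 hx) i)
  refine Nat.card_congr (Equiv.ofBijective
    (fun q : {q // P q} => (⟨q.1.out, Function.minimalPeriod_eq_one_iff_isFixedPt.1 q.2⟩ :
      {x : G ⧸ H // y • x = x})) ⟨?_, ?_⟩)
  · intro a b e
    exact Subtype.ext (Quotient.out_injective (congrArg Subtype.val e))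
  · rintro ⟨x, hx⟩
    have hout : (Quotient.mk (MulAction.orbitRel (zpowers y) (G ⧸ H)) x).out = x :=
      hfx x hx _ (MulAction.orbitRel_apply.1 (Quotient.mk_out (s := MulAction.orbitRel (zpowers y) (G ⧸ H)) x))
    refine ⟨⟨Quotient.mk _ x, ?_⟩, Subtype.ext hout⟩
    show Function.minimalPeriod _ _ = 1
    rw [hout]
    exact Function.minimalPeriod_eq_one_iff_isFixedPt.2 hx

end Cfsg.Lib.CompOrd
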