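import Cfsg.Agent.Lib.CompositeOrder.RegularCase
import Cfsg.Agent.Lib.CompositeOrder.TransferFixed
import Cfsg.Agent.Lib.SelfNormNA.CA
import Mathlib.GroupTheory.FixedPointFree

/-!
With a regular automizer, the cosets of the Sylow normalizer are permuted as the points of a doubly
transitive group; an element of order `r` of a two-point stabilizer fixes three points, so `r = 3`.
-/

set_option autoImplicit false
set_option linter.style.haveILetI false

namespace Cfsg.Lib.CompOrd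

open Subgroup
open Cfsg.Lib

universe u

variable {G : Type u} [Group G] [Finite G] {r : ℕ}

/-- An element `y` of order `r` in `N(S)` fixing three cosets, permuted transitively by its centralizer,
with the order of the group and of that centralizer. -/
structure ThreePoints (r : ℕ) (S : Sylow 2 G) (y t : G) : Prop where
  order_y : orderOf y = r
  order_t : orderOf t = 2
  commute : Commute t y
  r_eq : r = 3
  card_group : Nat.card G = (Nat.card (S : Subgroup G) + 1) *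
    (Nat.card (S : Subgroup G) * ((Nat.card (S : Subgroup G) - 1) * r))
  card_centralizer : Nat.card ↥(centralizer ({y} : Set G)) = 18
  centralizer_t : ¬ 9 ∣ Nat.card ↥(centralizer ({t} : Set G))
  conj_of_invol : ∀ x v : G, orderOf x = r → orderOf v = 2 → Commute v x →
    IsConj x y ∨ IsConj x y⁻¹
  not_conj_inv : ¬ IsConj y y⁻¹

namespace Hyp

variable (h : Hyp G r) {S : Sylow 2 G}
include h

theorem exists_threePoints [IsSimpleGroup G] (hS : 8 ≤ Nat.card (S : Subgroup G))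
    {F : Subgroup (MulAut ↥(S : Subgroup G))} (hF : RegularAuto r S F) :
    ∃ y t : G, ThreePoints r S y t := by
  classical
  haveI : Fact (Nat.Prime 2) := ⟨Nat.prime_two⟩
  haveI := Fact.mk h.prime
  set H := normalizer ((S : Subgroup G) : Set G)
  set φ := (S : Subgroup G).normalizerMonoidHom
  set q := Nat.card (S : Subgroup G) with hq
  set f := Nat.card F with hf
  have hfq : f + 1 = q := hF.card_eq
  have hW := h.rPart_eq_bot_of_regular hS hF
  -- `S` is the kernel of the action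
  have hker : ∀ g : ↥H, φ g = 1 ↔ (g : G) ∈ (S : Subgroup G) := by
    intro g
    rw [normalizerHom_eq_one_iff]
    refine ⟨fun hg => ?_, fun hg => mem_centralizer_iff.2 fun s hs => (h.commute_of_mem S hs hg).eq⟩
    have h2r := h.centS_pow hg hS
    obtain ⟨j, hj⟩ := h.odd_r
    have h1 : (g : G) ^ (r + 1) = 1 := by
      have hmem : (g : G) ^ (r + 1) ∈ rPart r S := (h.mem_rPart hS).2 ⟨pow_mem hg _, by
        rw [← pow_mul, show (r + 1) * r = 2 * r * (j + 1) by rw [hj]; ring, pow_mul, h2r, one_pow]⟩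
      rwa [hW, mem_bot] at hmem
    have hs : (g : G) ^ r ∈ (S : Subgroup G) :=
      h.mem_sylow_of_mem_normalizer S (pow_mem g.2 r) (by rw [← pow_mul, mul_comm, h2r])
    rw [pow_succ] at h1
    rw [eq_inv_of_mul_eq_one_right h1]
    exact inv_mem hs
  have hHcard : Nat.card ↥H = q * (f * r) := by
    rw [← φ.ker.card_mul_index, Subgroup.index_ker]
    congr 1
    · exact Nat.card_congr
        { toFun := fun x => ⟨((x : ↥H) : G), (hker x).1 x.2⟩
          invFun := fun s => ⟨⟨s, le_normalizer s.2⟩, (hker _).2 s.2⟩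
          left_inv := fun _ => rfl
          right_inv := fun _ => rfl }
    · exact hF.card_auto
  have hSodd : ∀ x ∈ (S : Subgroup G), Odd (orderOf x) → x = 1 := fun x hx ho =>
    orderOf_eq_one_iff.1 (Nat.eq_one_of_dvd_coprimes (Nat.coprime_two_right.2 ho) dvd_rfl
      (orderOf_dvd_of_pow_eq_one (h.sylow_sq S hx)))
  have hfcop : f.Coprime (2 * r) :=
    Nat.Coprime.mul_right (Nat.coprime_two_right.2 (h.odd_auto.of_dvd_nat (card_dvd_of_le hF.le)))
      (h.prime.coprime_iff_not_dvd.2 hF.not_dvd).symm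
  have hFtriv : ∀ k ∈ F, k ^ (2 * r) = 1 → k = 1 := fun k hk hk2 =>
    orderOf_eq_one_iff.1 (Nat.eq_one_of_dvd_coprimes hfcop (F.orderOf_dvd_natCard hk)
      (orderOf_dvd_of_pow_eq_one hk2))
  -- lifts of generators of `F`
  set IsGen : ↥H → Prop := fun c => φ c ∈ F ∧ orderOf (φ c) = f with hIsGen
  have hgen_order : ∀ c : ↥H, IsGen c → orderOf c = f := by
    intro c hc
    refine Nat.dvd_antisymm ?_ (hc.2 ▸ orderOf_map_dvd φ c)
    have h1 : ((c ^ f : ↥H) : G) ∈ (S : Subgroup G) :=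
      (hker _).1 (by rw [map_pow, ← hc.2, pow_orderOf_eq_one])
    have hodd : Odd (orderOf (c : G)) := by
      refine Nat.not_even_iff_odd.1 fun he => ?_
      have h2 := h.pow_two_r_of_even (even_iff_two_dvd.1 he)
      have h3 : φ c ^ (2 * r) = 1 := by
        rw [← map_pow, show c ^ (2 * r) = 1 from Subtype.ext (by rw [SubgroupClass.coe_pow]; exact h2), map_one]
      have h4 := hFtriv _ hc.1 h3
      have h5 := hc.2
      rw [h4, orderOf_one] at h5
      omega
    rw [← orderOf_coe]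
    refine orderOf_dvd_of_pow_eq_one (hSodd _ ?_ (hodd.of_dvd_nat (orderOf_pow_dvd f)))
    rwa [SubgroupClass.coe_pow] at h1
  have hinjodd : ∀ D : Subgroup ↥H, Odd (Nat.card D) → ∀ x ∈ D, φ x = 1 → x = 1 := by
    intro D hD x hx hx1
    exact Subtype.ext (hSodd _ ((hker x).1 hx1) (by
      rw [orderOf_coe]; exact hD.of_dvd_nat (D.orderOf_dvd_natCard hx)))
  -- the coset `S * c` is a conjugacy class under `S`
  have hclass : ∀ c d : ↥H, φ c ∈ F → φ c ≠ 1 → φ d = φ c →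
      ∃ s ∈ (S : Subgroup G), (d : G) = s * (c : G) * s⁻¹ := by
    intro c d hc hc1 hd
    let g : ↥(S : Subgroup G) → ↥(S : Subgroup G) := fun s =>
      ⟨(s : G) * ((c : G) * (s : G)⁻¹ * (c : G)⁻¹), mul_mem s.2
        ((mem_normalizer_iff.1 c.2 _).1 (inv_mem s.2))⟩
    have hg : Function.Injective g := by
      intro s s' e
      have e' : (s : G) * ((c : G) * (s : G)⁻¹ * (c : G)⁻¹) = s' * ((c : G) * (s' : G)⁻¹ * (c : G)⁻¹) :=
        congrArg Subtype.val e
      have h1 : φ c ((s'⁻¹ * s : ↥(S : Subgroup G))) = s'⁻¹ * s := by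
        refine Subtype.ext ?_
        show (c : G) * ((s' : G)⁻¹ * s) * (c : G)⁻¹ = (s' : G)⁻¹ * s
        calc (c : G) * ((s' : G)⁻¹ * s) * (c : G)⁻¹
            = (s' : G)⁻¹ * (s' * ((c : G) * (s' : G)⁻¹ * (c : G)⁻¹)) * ((c : G) * s * (c : G)⁻¹) := by group
          _ = (s' : G)⁻¹ * (s * ((c : G) * (s : G)⁻¹ * (c : G)⁻¹)) * ((c : G) * s * (c : G)⁻¹) := by rw [e']
          _ = _ := by group
      exact (inv_mul_eq_one.1 (hF.fpf _ hc hc1 _ h1)).symm
    have hdc : (d : G) * (c : G)⁻¹ ∈ (S : Subgroup G) :=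
      (hker (d * c⁻¹)).1 (by rw [map_mul, map_inv, hd, mul_inv_cancel])
    obtain ⟨s, hs⟩ := Finite.injective_iff_surjective.1 hg ⟨_, hdc⟩
    refine ⟨s, s.2, ?_⟩
    have e : (s : G) * ((c : G) * (s : G)⁻¹ * (c : G)⁻¹) = (d : G) * (c : G)⁻¹ := congrArg Subtype.val hs
    rw [← mul_left_inj (c : G)⁻¹, ← e]
    group
  -- elements of order `r` in `H` commute with an involution
  have hrinv : ∀ x : ↥H, φ x ∉ F → Odd (orderOf (x : G)) →
      (x : G) ^ r = 1 ∧ ∃ v : G, orderOf v = 2 ∧ Commute v (x : G) := by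
    intro x hxF hodd
    have hd : r ∣ orderOf (φ x) := by
      by_contra hnd
      exact hxF (hF.mem_of_coprime _ ⟨x, rfl⟩ (h.prime.coprime_iff_not_dvd.2 hnd).symm)
    have hxr : (x : G) ^ r = 1 := h.pow_r_of_odd
      (h.centR _ (by rw [orderOf_coe]; exact hd.trans (orderOf_map_dvd φ x))) hodd
    refine ⟨hxr, ?_⟩
    obtain ⟨v, hv, hxv⟩ := hF.exists_fixed _ ⟨x, rfl⟩ (fun e => hxF (e ▸ one_mem F))
      (h.auto_r ⟨x, rfl⟩ hd)
    refine ⟨v, h.orderOf_of_mem_sylow S v.2 fun e => hv (Subtype.ext e), ?_⟩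
    have e : (x : G) * (v : G) * (x : G)⁻¹ = v := congrArg Subtype.val hxv
    exact (mul_inv_eq_iff_eq_mul.1 e).symm
  have hse := h.stronglyEmbedded hS
  -- each involution outside `H` inverts a lift of a generator, and its powers are all it inverts in `H`
  obtain ⟨f₁, hf₁⟩ : ∃ f₁ : ↥F, orderOf (f₁ : MulAut ↥(S : Subgroup G)) = f := by
    haveI := hF.cyclic
    obtain ⟨g, hg⟩ := IsCyclic.exists_ofOrder_eq_natCard (α := ↥F)
    exact ⟨g, by rw [orderOf_coe, hg]⟩
  have hFgen : ∀ c : ↥H, IsGen c → ∀ k ∈ F, k ∈ zpowers (φ c) := by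
    intro c hc k hk
    rw [Subgroup.eq_of_le_of_card_ge (zpowers_le.2 hc.1) (by rw [Nat.card_zpowers, hc.2])]
    exact hk
  have huniv : ∀ i : G, orderOf i = 2 → i ∉ H → ∃ c : ↥H, IsGen c ∧ i * (c : G) * i⁻¹ = (c : G)⁻¹ ∧
      ∀ d : G, d ∈ H → i * d * i⁻¹ ∈ H → ∀ hd : d ∈ H, φ ⟨d, hd⟩ ∈ F → d ∈ zpowers (c : G) := by
    intro i hi hiH
    have hii : i * i = 1 := mul_self_invol hi
    set D := H ⊓ H.map (MulAut.conj i).toMonoidHom
    have hDodd : Odd (Nat.card ↥D) := hse.2.2 i hiH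
    have hmemD : ∀ d : G, d ∈ D ↔ d ∈ H ∧ i * d * i⁻¹ ∈ H := fun d => by
      rw [show D = H ⊓ H.map (MulAut.conj i).toMonoidHom from rfl, Subgroup.mem_inf, Invol.mem_conjMap,
        inv_eq_of_mul_eq_one_left hii]
    set T := {d : G // d ∈ H ∧ i * d * i⁻¹ = d⁻¹}
    have hT : Nat.card T = f := by rw [h.card_inverted hS hi hiH, ← hq, ← hfq]; omega
    have hTD : ∀ d : T, (d : G) ∈ D := fun d => (hmemD d).2 ⟨d.2.1, by rw [d.2.2]; exact inv_mem d.2.1⟩
    have hTF : ∀ d : T, φ ⟨d, d.2.1⟩ ∈ F := by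
      intro d
      by_contra hnF
      have hodd : Odd (orderOf (d : G)) := hDodd.of_dvd_nat (D.orderOf_dvd_natCard (hTD d))
      obtain ⟨-, v, hv, hvd⟩ := hrinv ⟨d, d.2.1⟩ hnF hodd
      refine hnF ?_
      have h1 : (d : G) = 1 := h.not_inverted hS hv hvd hii d.2.2 hodd
      rw [show (⟨d, d.2.1⟩ : ↥H) = 1 from Subtype.ext h1, map_one]
      exact one_mem F
    have hinj : ∀ a b : ↥H, (a : G) ∈ D → (b : G) ∈ D → φ a = φ b → a = b := by
      intro a b ha hb e
      have h1 := hinjodd (D.subgroupOf H)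
        (by rw [Nat.card_congr (subgroupOfEquivOfLe (inf_le_left : D ≤ H)).toEquiv]; exact hDodd)
        (a⁻¹ * b) (mul_mem (inv_mem ha) hb) (by rw [map_mul, map_inv, e, inv_mul_cancel])
      exact inv_mul_eq_one.1 h1
    let g : T → ↥F := fun d => ⟨_, hTF d⟩
    have hg : Function.Injective g := fun a b e =>
      Subtype.ext (congrArg Subtype.val (hinj ⟨a, a.2.1⟩ ⟨b, b.2.1⟩ (hTD a) (hTD b) (congrArg Subtype.val e)) :)
    obtain ⟨d₀, hd₀⟩ := ((Nat.bijective_iff_injective_and_card g).2 ⟨hg, by rw [hT]⟩).2 f₁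
    set c : ↥H := ⟨d₀, d₀.2.1⟩
    have hcgen : IsGen c := ⟨hTF d₀, by
      rw [show φ c = (f₁ : MulAut ↥(S : Subgroup G)) from congrArg Subtype.val hd₀]; exact hf₁⟩
    refine ⟨c, hcgen, d₀.2.2, fun d hd hdi hd' hdF => ?_⟩
    obtain ⟨l, hl⟩ := mem_zpowers_iff.1 (hFgen c hcgen _ hdF)
    have := hinj ⟨d, hd'⟩ (c ^ l) ((hmemD d).2 ⟨hd, hdi⟩)
      (by rw [SubgroupClass.coe_zpow]; exact zpow_mem (hTD d₀) l) (by rw [map_zpow, hl])
    exact mem_zpowers_iff.2 ⟨l, by rw [← SubgroupClass.coe_zpow, ← this]⟩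
  have hinverts : ∀ i : G, orderOf i = 2 → i ∉ H → ∀ c : ↥H, IsGen c → i * (c : G) * i⁻¹ ∈ H →
      i * (c : G) * i⁻¹ = (c : G)⁻¹ := by
    intro i hi hiH c hc hci
    obtain ⟨c', -, hc'i, hall⟩ := huniv i hi hiH
    obtain ⟨l, hl⟩ := mem_zpowers_iff.1 (hall c c.2 hci c.2 hc.1)
    rw [← hl, ← conj_zpow, hc'i, inv_zpow]
  obtain ⟨u, huH, hu⟩ := Invol.se_exists_outside hse
  have huu : u * u = 1 := mul_self_invol hu
  have hui : u⁻¹ = u := inv_eq_of_mul_eq_one_left huu
  obtain ⟨c, hc, huc, hall⟩ := huniv u hu huH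
  have hc1 : φ c ≠ 1 := fun e => by
    have := hc.2
    rw [e, orderOf_one] at this
    omega
  have hcne : (c : G) ≠ 1 := fun e => hc1 (by rw [show c = 1 from Subtype.ext e, map_one])
  have hco : orderOf (c : G) = f := by rw [orderOf_coe]; exact hgen_order c hc
  -- the centralizer of a lift of a generator meets `H` in its powers
  have hEH : ∀ d : ↥H, IsGen d → ∀ x : G, x ∈ H → Commute x (d : G) → x ∈ zpowers (d : G) := by
    intro d hd x hx hxd
    have hd1 : φ d ≠ 1 := fun e => by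
      have := hd.2
      rw [e, orderOf_one] at this
      omega
    set k := φ ⟨x, hx⟩
    have hkd : Commute k (φ d) := (show Commute (⟨x, hx⟩ : ↥H) d from Subtype.ext hxd).map φ
    have hkF : k ∈ F := by
      refine hF.mem_of_coprime k ⟨_, rfl⟩ (h.prime.coprime_iff_not_dvd.2 fun hdv => ?_).symm
      have hk1 : k ≠ 1 := fun e => by
        rw [e, orderOf_one] at hdv; exact h.prime.ne_one (Nat.dvd_one.1 hdv)
      have h1 := h.auto_commute ⟨_, rfl⟩ (hF.le hd.1) hk1 (h.auto_r ⟨_, rfl⟩ hdv) hkd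
      exact hd1 (hFtriv _ hd.1 (by rw [mul_comm, pow_mul, h1, one_pow]))
    obtain ⟨l, hl⟩ := mem_zpowers_iff.1 (hFgen d hd k hkF)
    have hs : x * ((d : G) ^ l)⁻¹ ∈ (S : Subgroup G) := by
      have := (hker (⟨x, hx⟩ * (d ^ l)⁻¹)).1 (by rw [map_mul, map_inv, map_zpow, hl, mul_inv_cancel])
      simpa using this
    have h1 : x * ((d : G) ^ l)⁻¹ = 1 := by
      have h2 : φ d ⟨_, hs⟩ = (⟨_, hs⟩ : ↥(S : Subgroup G)) := by
        refine Subtype.ext ?_
        show (d : G) * (x * ((d : G) ^ l)⁻¹) * (d : G)⁻¹ = x * ((d : G) ^ l)⁻¹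
        have hc' : Commute (d : G) (x * ((d : G) ^ l)⁻¹) :=
          hxd.symm.mul_right ((Commute.refl (d : G)).zpow_right l).inv_right
        rw [hc'.eq, mul_inv_cancel_right]
      exact congrArg Subtype.val (hF.fpf _ hd.1 hd1 _ h2)
    rw [mul_inv_eq_one] at h1
    exact h1 ▸ zpow_mem (mem_zpowers _) l
  set C := zpowers (c : G)
  set E := centralizer ({(c : G)} : Set G)
  have hEodd : ∀ e ∈ E, e ^ (2 * r) = 1 → e = 1 := by
    intro e he he2
    by_contra he1
    obtain ⟨e', he'1, he'e, he'p⟩ : ∃ e', e' ≠ 1 ∧ Commute e' (c : G) ∧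
        (orderOf e' = 2 ∨ e' ^ r = 1) := by
      have hec : Commute e (c : G) := mem_centralizer_singleton_iff.1 he
      by_cases her : e ^ r = 1
      · exact ⟨e, he1, hec, Or.inr her⟩
      · exact ⟨e ^ r, her, hec.pow_left r, Or.inl (orderOf_eq_prime (by rw [← pow_mul, mul_comm, he2]) her)⟩
    have h1 : (c : G) ^ (2 * r) = 1 := he'p.elim (fun h2 => h.centT e' _ h2 he'e)
      fun h2 => h.commute_r he'1 h2 he'e
    have := Nat.eq_one_of_dvd_coprimes hfcop (dvd_of_eq hco) (orderOf_dvd_of_pow_eq_one h1)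
    exact hcne (orderOf_eq_one_iff.1 this)
  have huE : ∀ e ∈ E, u * e * u⁻¹ ∈ E := by
    intro e he
    refine mem_centralizer_singleton_iff.2 ?_
    have h1 := ((show Commute e (c : G) from mem_centralizer_singleton_iff.1 he).inv_right).map
      (MulAut.conj u).toMonoidHom
    simp only [MulEquiv.coe_toMonoidHom, MulAut.conj_apply] at h1
    rw [show u * (c : G)⁻¹ * u⁻¹ = (u * (c : G) * u⁻¹)⁻¹ by group, huc, inv_inv] at h1
    exact h1.eq
  -- `u` inverts the centralizer of `c`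
  have hEinv : ∀ e ∈ E, u * e * u⁻¹ = e⁻¹ := by
    let σ : ↥E →* ↥E :=
      { toFun := fun e => ⟨u * (e : G) * u⁻¹, huE e e.2⟩
        map_one' := Subtype.ext (by simp)
        map_mul' := fun a b => Subtype.ext (by simp [mul_assoc]) }
    have hσ : MonoidHom.FixedPointFree σ := by
      intro e he
      have he' : u * (e : G) * u⁻¹ = e := congrArg Subtype.val he
      exact Subtype.ext (hEodd e e.2 (h.centT u e hu (mul_inv_eq_iff_eq_mul.1 he')))
    have hinv : Function.Involutive σ := by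
      intro e
      refine Subtype.ext ?_
      show u * (u * (e : G) * u⁻¹) * u⁻¹ = e
      rw [show u * (u * (e : G) * u⁻¹) * u⁻¹ = (u * u) * (e : G) * (u * u)⁻¹ by group, huu]
      group
    intro e he
    exact congrArg Subtype.val (congrFun (hσ.coe_eq_inv_of_involutive hinv) ⟨e, he⟩)
  -- the fixed points of `c`
  set Φ := {x : G ⧸ H // (c : G) • x = x}
  have hstab : ∀ e ∈ E, ∀ x : Φ, e • x.1 = x.1 → e ∈ C := by
    rintro e he ⟨x, hx⟩ hex
    obtain ⟨g, rfl⟩ := QuotientGroup.mk_surjective x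
    rw [Invol.smul_coset_eq_iff] at hx hex
    set cg : ↥H := ⟨g⁻¹ * (c : G) * g, hx⟩
    have hcgo : orderOf (cg : G) = f := by
      show orderOf (g⁻¹ * (c : G) * g) = f
      rw [show g⁻¹ * (c : G) * g = g⁻¹ * (c : G) * g⁻¹⁻¹ by rw [inv_inv], Invol.orderOf_conj_eq, hco]
    have hodd : Odd f := h.odd_auto.of_dvd_nat (card_dvd_of_le hF.le)
    have hcgF : φ cg ∈ F := hF.mem_of_coprime _ ⟨cg, rfl⟩ (Nat.Coprime.coprime_dvd_left
      ((orderOf_map_dvd φ cg).trans (dvd_of_eq (by rw [← orderOf_coe, hcgo])))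
      (h.prime.coprime_iff_not_dvd.2 hF.not_dvd).symm)
    have hcg : IsGen cg := ⟨hcgF, by
      refine Nat.dvd_antisymm ((orderOf_map_dvd φ cg).trans (dvd_of_eq (by rw [← orderOf_coe, hcgo]))) ?_
      rw [← hcgo, orderOf_coe]
      refine orderOf_dvd_of_pow_eq_one (hinjodd (zpowers cg)
        (by rw [Nat.card_zpowers, ← orderOf_coe, hcgo]; exact hodd) _
        (pow_mem (mem_zpowers cg) _) (by rw [map_pow, pow_orderOf_eq_one]))⟩
    have hec : Commute (g⁻¹ * e * g) (cg : G) := by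
      have h1 := (show Commute e (c : G) from mem_centralizer_singleton_iff.1 he).map
        (MulAut.conj g⁻¹).toMonoidHom
      simp only [MulEquiv.coe_toMonoidHom, MulAut.conj_apply, inv_inv] at h1
      exact h1
    obtain ⟨l, hl⟩ := mem_zpowers_iff.1 (hEH cg hcg _ hex hec)
    refine mem_zpowers_iff.2 ⟨l, ?_⟩
    have hl' : (g⁻¹ * (c : G) * g⁻¹⁻¹) ^ l = g⁻¹ * e * g := by rw [inv_inv]; exact hl
    rw [conj_zpow, inv_inv] at hl'
    calc (c : G) ^ l = g * (g⁻¹ * (c : G) ^ l * g) * g⁻¹ := by group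
      _ = e := by rw [hl']; group
  set x₀ : G ⧸ H := QuotientGroup.mk 1
  have hx₀ : (c : G) • x₀ = x₀ := Invol.smul_coset_one_eq.2 c.2
  set x₁ : G ⧸ H := QuotientGroup.mk u with hx₁def
  have hx₀₁ : x₁ ≠ x₀ := fun e => huH (by
    have h1 := QuotientGroup.eq.1 e
    rw [mul_one] at h1
    exact inv_mem_iff.1 h1)
  have hx₁ : (c : G) • x₁ = x₁ := by
    rw [hx₁def, Invol.smul_coset_eq_iff, show u⁻¹ * (c : G) * u = u * (c : G) * u⁻¹ by rw [hui], huc]
    exact inv_mem c.2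
  have hEodd' : ∀ e ∈ E, u * e ≠ 1 := fun e he e1 => by
    have : e = u := by rw [eq_inv_of_mul_eq_one_right e1, hui]
    have h2 := hEodd u (this ▸ he) (by rw [pow_mul, pow_two, huu, one_pow])
    rw [h2, orderOf_one] at hu
    omega
  -- involutions inverting `c`, sorted by their image of `x₀`
  have hJcard : Nat.card ↥E = (Nat.card Φ - 1) * f := by
    have hto : ∀ e : ↥E, orderOf (u * (e : G)) = 2 := fun e => orderOf_eq_prime (by
      rw [pow_two, show u * (e : G) * (u * (e : G)) = u * (e : G) * u⁻¹ * (u * u) * (e : G) by group, huu,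
        mul_one, hEinv e e.2, inv_mul_cancel]) (hEodd' e e.2)
    have hinvJ : ∀ e : ↥E, (u * (e : G)) * (c : G) * (u * (e : G))⁻¹ = (c : G)⁻¹ := fun e => by
      rw [show u * (e : G) * (c : G) * (u * (e : G))⁻¹ = u * ((e : G) * (c : G) * (e : G)⁻¹) * u⁻¹ by group,
        mem_centralizer_singleton_iff.1 e.2, mul_inv_cancel_right, huc]
    have hnotH : ∀ e : ↥E, u * (e : G) ∉ H := by
      intro e hm
      have hS' : u * (e : G) ∈ (S : Subgroup G) :=
        h.mem_sylow_of_mem_normalizer S hm (sq_invol (hto e))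
      have h1 : (c : G)⁻¹ * (c : G)⁻¹ ∈ (S : Subgroup G) := by
        have h2 := mul_mem hS' ((mem_normalizer_iff.1 c.2 _).1 (inv_mem hS'))
        convert h2 using 1
        rw [show u * (e : G) * ((c : G) * (u * (e : G))⁻¹ * (c : G)⁻¹) =
          u * (e : G) * (c : G) * (u * (e : G))⁻¹ * (c : G)⁻¹ by group, hinvJ]
      have hodd : Odd f := h.odd_auto.of_dvd_nat (card_dvd_of_le hF.le)
      have h3 := hSodd _ h1 (by
        rw [← mul_inv_rev, orderOf_inv, ← pow_two,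
          (Nat.coprime_two_right.2 (hco ▸ hodd)).orderOf_pow, hco]
        exact hodd)
      refine hcne ?_
      rw [← mul_inv_rev, inv_eq_one, ← pow_two] at h3
      have := Nat.eq_one_of_dvd_coprimes (Nat.coprime_two_right.2 (hco ▸ hodd)) dvd_rfl
        (orderOf_dvd_of_pow_eq_one h3)
      exact orderOf_eq_one_iff.1 this
    let Φ' := {x : Φ // x.1 ≠ x₀}
    have hmap : ∀ e : ↥E, (c : G) • ((u * (e : G)) • x₀) = (u * (e : G)) • x₀ := fun e => by
      have h1 : (c : G) * (u * (e : G)) = u * (e : G) * (c : G)⁻¹ := by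
        have h2 := hinvJ e
        rw [mul_inv_eq_iff_eq_mul] at h2
        rw [eq_mul_inv_iff_mul_eq, mul_assoc, h2, ← mul_assoc, mul_inv_cancel, one_mul]
      rw [← mul_smul, h1, mul_smul, inv_smul_eq_iff.2 hx₀.symm]
    let π : ↥E → Φ' := fun e => ⟨⟨(u * (e : G)) • x₀, hmap e⟩, fun e' => hnotH e (Invol.smul_coset_one_eq.1 e')⟩
    have hfib : ∀ x : Φ', Nat.card {e : ↥E // π e = x} = f := by
      intro x
      have hne : x₀ ≠ x.1.1 := fun e => x.2 e.symm
      have hsw := (Invol.se_swap hse hne).1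
      have hinvo : Nat.card {t : G // orderOf t = 2 ∧ t ∈ H} = f := by
        rw [h.card_involutions hS, ← hq]; omega
      rw [← hinvo, ← hsw]
      refine Nat.card_congr
        { toFun := fun e => ⟨u * ((e.1 : ↥E) : G), hto e.1, congrArg (fun z : Φ' => z.1.1) e.2⟩
          invFun := fun i => ⟨⟨u * i.1, ?_⟩, ?_⟩
          left_inv := fun e => Subtype.ext (Subtype.ext (by
            show u * (u * ((e.1 : ↥E) : G)) = _; rw [← mul_assoc, huu, one_mul]))
          right_inv := fun i => Subtype.ext (by show u * (u * i.1) = i.1; rw [← mul_assoc, huu, one_mul]) }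
      · have hiH : i.1 ∉ H := fun hm => x.2 (i.2.2.symm.trans (Invol.smul_coset_one_eq.2 hm))
        have hiinv := hinverts i.1 i.2.1 hiH c hc (by
          have h1 : (c : G) • i.1 • x₀ = i.1 • x₀ := by rw [i.2.2]; exact x.1.2
          have h2 : (i.1⁻¹ * ((c : G) * i.1)) • x₀ = x₀ := by rw [mul_smul, mul_smul, h1, inv_smul_smul]
          have h3 := Invol.smul_coset_one_eq.1 h2
          have hi1 := inv_eq_of_mul_eq_one_left (mul_self_invol i.2.1)
          rw [hi1] at h3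
          rw [hi1, mul_assoc]
          exact h3)
        refine mem_centralizer_singleton_iff.2 ?_
        rw [← mul_inv_eq_iff_eq_mul, show u * i.1 * (c : G) * (u * i.1)⁻¹ =
          u * (i.1 * (c : G) * i.1⁻¹) * u⁻¹ by group, hiinv,
          show u * (c : G)⁻¹ * u⁻¹ = (u * (c : G) * u⁻¹)⁻¹ by group, huc, inv_inv]
      · refine Subtype.ext (Subtype.ext ?_)
        show (u * (u * i.1)) • x₀ = x.1.1
        rw [← mul_assoc, huu, one_mul]
        exact i.2.2
    letI := Fintype.ofFinite Φ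
    letI := Fintype.ofFinite Φ'
    have hΦ' : Nat.card Φ' = Nat.card Φ - 1 := by
      rw [Nat.card_eq_fintype_card, Nat.card_eq_fintype_card]
      have : Fintype.card Φ' = Fintype.card {x : Φ // x ≠ ⟨x₀, hx₀⟩} :=
        Fintype.card_congr (Equiv.subtypeEquivRight fun x => not_congr ⟨fun e => Subtype.ext e, fun e => congrArg Subtype.val e⟩)
      rw [this, Fintype.card_subtype_compl, Fintype.card_subtype_eq]
    rw [← Nat.card_congr (Equiv.sigmaFiberEquiv π), Nat.card_sigma, Finset.sum_congr rfl fun x _ => hfib x,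
      Finset.sum_const, Finset.card_univ, ← Nat.card_eq_fintype_card, hΦ', smul_eq_mul]
  have hodd : Odd f := h.odd_auto.of_dvd_nat (card_dvd_of_le hF.le)
  letI := Fintype.ofFinite (G ⧸ H)
  -- `c` fixes two points only
  have horb : ∀ x : Φ, (MulAction.orbit ↥E x.1).ncard = Nat.card Φ - 1 := by
    intro x
    rw [← MulAction.index_stabilizer]
    have hst : Nat.card ↥(MulAction.stabilizer ↥E x.1) = f := by
      rw [← hco, ← Nat.card_zpowers]
      refine Nat.card_congr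
        { toFun := fun e => ⟨((e : ↥E) : G), hstab _ (e : ↥E).2 x e.2⟩
          invFun := fun d => ⟨⟨d, ?_⟩, ?_⟩
          left_inv := fun _ => rfl
          right_inv := fun _ => rfl }
      · obtain ⟨l, hl⟩ := mem_zpowers_iff.1 d.2
        exact mem_centralizer_singleton_iff.2 (hl ▸ ((Commute.refl (c : G)).zpow_left l).eq)
      · obtain ⟨l, hl⟩ := mem_zpowers_iff.1 d.2
        refine MulAction.mem_stabilizer_iff.2 ?_
        show (d : G) • x.1 = x.1
        rw [← hl]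
        exact MulAction.mem_stabilizer_iff.1 (zpow_mem (MulAction.mem_stabilizer_iff.2 x.2) l)
    have h1 := (MulAction.stabilizer ↥E x.1).card_mul_index
    rw [hst, hJcard, mul_comm] at h1
    exact Nat.eq_of_mul_eq_mul_right (by omega) h1
  set ΦS : Set (G ⧸ H) := {x | (c : G) • x = x}
  have hΦn : ΦS.ncard = Nat.card Φ := rfl
  have hsub : ∀ x : Φ, MulAction.orbit ↥E x.1 ⊆ ΦS := by
    rintro x _ ⟨e, rfl⟩
    show (c : G) • (e : G) • x.1 = (e : G) • x.1
    rw [← mul_smul, ← mem_centralizer_singleton_iff.1 e.2, mul_smul, x.2]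
  have hpair : ({x₀, x₁} : Set (G ⧸ H)).ncard = 2 := Set.ncard_pair (Ne.symm hx₀₁)
  have hpsub : ({x₀, x₁} : Set (G ⧸ H)) ⊆ ΦS := by
    rintro x (rfl | rfl)
    · exact hx₀
    · exact hx₁
  have hΦtwo : Nat.card Φ = 2 := by
    have h2 := Set.ncard_le_ncard hpsub (Set.toFinite _)
    rw [hpair, hΦn] at h2
    by_contra hne
    have h3 := horb ⟨x₀, hx₀⟩
    obtain ⟨x₂, hx₂, hx₂'⟩ : ∃ x ∈ ΦS, x ∉ MulAction.orbit ↥E x₀ := by
      by_contra hall'
      push Not at hall'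
      have := Set.ncard_le_ncard hall' (Set.toFinite _)
      rw [h3, hΦn] at this
      omega
    have h4 := horb ⟨x₂, hx₂⟩
    have hdis : Disjoint (MulAction.orbit ↥E x₀) (MulAction.orbit ↥E x₂) := by
      rw [Set.disjoint_left]
      intro z hz hz'
      have e1 := MulAction.orbit_eq_iff.2 hz
      have e2 := MulAction.orbit_eq_iff.2 hz'
      exact hx₂' (e1.symm.trans e2 ▸ MulAction.mem_orbit_self x₂)
    have h5 := Set.ncard_le_ncard (Set.union_subset (hsub ⟨x₀, hx₀⟩) (hsub ⟨x₂, hx₂⟩)) (Set.toFinite _)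
    rw [Set.ncard_union_eq hdis (Set.toFinite _) (Set.toFinite _), h4, h3, hΦn] at h5
    omega
  have hΦ : ∀ x : G ⧸ H, (c : G) • x = x → x = x₀ ∨ x = x₁ := by
    intro x hx
    have e := Set.eq_of_subset_of_ncard_le hpsub (by rw [hpair, hΦn, hΦtwo]) (Set.toFinite _)
    have : x ∈ ΦS := hx
    rw [← e] at this
    exact this
  -- the point `x₁` moves regularly under `S`
  have hfree : ∀ s ∈ (S : Subgroup G), s • x₁ = x₁ → s = 1 := by
    intro s hs hs1
    by_contra hne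
    rw [hx₁def, Invol.smul_coset_eq_iff] at hs1
    refine huH (Invol.se_mem hse (le_normalizer hs) (h.orderOf_of_mem_sylow S hs hne) ?_)
    rwa [hui] at hs1 ⊢
  have hpoints : ∀ x : G ⧸ H, x ≠ x₀ → ∃ s ∈ (S : Subgroup G), s • x₁ = x := by
    intro x hx
    have hpos : 0 < Nat.card (Invol.SwapSet H x₀ x) := by
      rw [(Invol.se_swap hse (Ne.symm hx)).1, h.card_involutions hS]
      omega
    obtain ⟨⟨i, hi, hix⟩⟩ := (Nat.card_pos_iff.1 hpos).1
    have hiH : i ∉ H := fun e => hx (hix.symm.trans (Invol.smul_coset_one_eq.2 e))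
    obtain ⟨c', hc', hc'i, -⟩ := huniv i hi hiH
    have hc'x : (c' : G) • x = x := by
      rw [← hix]
      have hi1 := inv_eq_of_mul_eq_one_left (mul_self_invol hi)
      have h1 : (i * (c' : G) * i⁻¹) • x₀ = x₀ := Invol.smul_coset_one_eq.2 (hc'i ▸ inv_mem c'.2)
      rw [hi1] at h1
      calc (c' : G) • i • x₀ = (i * i * ((c' : G) * i)) • x₀ := by
            rw [mul_self_invol hi, one_mul, mul_smul]
        _ = i • ((i * (c' : G) * i) • x₀) := by rw [← mul_smul]; group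
        _ = i • x₀ := by rw [h1]
    obtain ⟨l, hl⟩ := mem_zpowers_iff.1 (hFgen c hc _ hc'.1)
    have hclne : φ (c ^ l) ≠ 1 := fun e => by
      rw [map_zpow, hl] at e
      have := hc'.2
      rw [e, orderOf_one] at this
      omega
    obtain ⟨s, hs, hsc⟩ := hclass (c ^ l) c' (by rw [map_zpow]; exact hl ▸ hc'.1) hclne
      (by rw [map_zpow, hl])
    rw [SubgroupClass.coe_zpow] at hsc
    refine ⟨s, hs, ?_⟩
    have h1 : ((c : G) ^ l) • (s⁻¹ • x) = s⁻¹ • x := by
      rw [← mul_smul, show (c : G) ^ l * s⁻¹ = s⁻¹ * (c' : G) by rw [hsc]; group, mul_smul, hc'x]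
    have hgen : zpowers ((c : G) ^ l) = zpowers (c : G) := by
      refine Subgroup.eq_of_le_of_card_ge (zpowers_le.2 (zpow_mem (mem_zpowers _) l)) ?_
      rw [Nat.card_zpowers, Nat.card_zpowers, hco, ← hc'.2]
      refine Nat.le_of_dvd (orderOf_pos _) ?_
      rw [← hl, ← map_zpow, ← SubgroupClass.coe_zpow, orderOf_coe]
      exact orderOf_map_dvd φ _
    obtain ⟨k, hk⟩ := mem_zpowers_iff.1 (hgen.symm ▸ mem_zpowers (c : G) : (c : G) ∈ zpowers ((c : G) ^ l))
    have h2 : (c : G) • (s⁻¹ • x) = s⁻¹ • x := by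
      rw [← hk]
      exact MulAction.mem_stabilizer_iff.1 (zpow_mem (MulAction.mem_stabilizer_iff.2 h1) k)
    rcases hΦ _ h2 with e | e
    · rw [inv_smul_eq_iff] at e
      exact absurd (e.trans (Invol.smul_coset_one_eq.2 (le_normalizer hs))) hx
    · exact (inv_smul_eq_iff.1 e).symm
  have hindex : H.index = q + 1 := by
    show Nat.card (G ⧸ H) = q + 1
    rw [hq, ← Finite.card_option]
    refine (Nat.card_congr (Equiv.ofBijective
      (fun o : Option ↥(S : Subgroup G) => o.elim x₀ fun s => (s : G) • x₁) ⟨?_, ?_⟩)).symm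
    · have hne : ∀ a : ↥(S : Subgroup G), (a : G) • x₁ ≠ x₀ := fun a e => hx₀₁ (by
        rw [← inv_smul_eq_iff.2 e.symm]
        exact Invol.smul_coset_one_eq.2 (inv_mem (le_normalizer a.2)))
      rintro (_ | a) (_ | b) e
      · rfl
      · exact absurd e.symm (hne b)
      · exact absurd e (hne a)
      · refine congrArg some (inv_mul_eq_one.1 (Subtype.ext (hfree _ (mul_mem (inv_mem b.2) a.2) ?_))).symm
        show ((b : G)⁻¹ * (a : G)) • x₁ = x₁
        have e' : (a : G) • x₁ = (b : G) • x₁ := e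
        rw [mul_smul, e', inv_smul_smul]
    · intro x
      rcases eq_or_ne x x₀ with rfl | hx
      · exact ⟨none, rfl⟩
      · obtain ⟨s, hs, e⟩ := hpoints x hx
        exact ⟨some ⟨s, hs⟩, e⟩
  -- elements of order `r` in `H` act nontrivially, outside `F`
  have hrnotF : ∀ x : ↥H, (x : G) ^ r = 1 → (x : G) ≠ 1 → φ x ∉ F := by
    intro x hx hx1 hxF
    have h1 : φ x = 1 := hFtriv _ hxF (by
      rw [mul_comm, pow_mul, ← map_pow, show x ^ r = 1 from Subtype.ext (by rw [SubgroupClass.coe_pow]; exact hx),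
        map_one, one_pow])
    exact hx1 (hSodd _ ((hker x).1 h1) (h.odd_r.of_dvd_nat (orderOf_dvd_of_pow_eq_one hx)))
  -- an element of order `r` of `H` normalizing `⟨c⟩`
  obtain ⟨⟨y₀, hy₀K⟩, hy₀⟩ := exists_prime_orderOf_dvd_card' (G := ↥(auto S)) r
    (hF.card_auto ▸ dvd_mul_left r _)
  rw [Subgroup.orderOf_mk] at hy₀
  obtain ⟨g₁, hg₁⟩ := hy₀K
  obtain ⟨l, hl⟩ := mem_zpowers_iff.1 (hFgen c hc (φ (g₁ * c * g₁⁻¹)) (by
    rw [map_mul, map_mul, map_inv]; exact hF.conj _ ⟨g₁, rfl⟩ _ hc.1))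
  have hgl : φ (c ^ l) ≠ 1 := fun e => by
    rw [map_zpow, hl, map_mul, map_mul, map_inv, mul_inv_eq_one, mul_eq_left] at e
    exact hc1 e
  obtain ⟨s, hs, hsc⟩ := hclass (c ^ l) (g₁ * c * g₁⁻¹)
    (by rw [map_zpow, hl, map_mul, map_mul, map_inv]; exact hF.conj _ ⟨g₁, rfl⟩ _ hc.1) hgl
    (by rw [map_zpow, hl])
  set g₂ : ↥H := (⟨s, le_normalizer hs⟩ : ↥H)⁻¹ * g₁
  have hφg₂ : φ g₂ = y₀ := by
    rw [map_mul, map_inv, (hker (⟨s, le_normalizer hs⟩ : ↥H)).2 hs, inv_one, one_mul, hg₁]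
  have hg₂c : g₂ * c * g₂⁻¹ = c ^ l := by
    refine Subtype.ext ?_
    show s⁻¹ * (g₁ : G) * (c : G) * (s⁻¹ * (g₁ : G))⁻¹ = ((c ^ l : ↥H) : G)
    have hsc' : (g₁ : G) * (c : G) * (g₁ : G)⁻¹ = s * ((c ^ l : ↥H) : G) * s⁻¹ := hsc
    rw [show s⁻¹ * (g₁ : G) * (c : G) * (s⁻¹ * (g₁ : G))⁻¹ = s⁻¹ * ((g₁ : G) * (c : G) * (g₁ : G)⁻¹) * s
      by group, hsc']
    group
  have hdr : r ∣ orderOf (φ g₂) := by rw [hφg₂, hy₀]
  have hg₂r : (g₂ : G) ^ (2 * r) = 1 :=
    h.centR _ (by rw [orderOf_coe]; exact hdr.trans (orderOf_map_dvd φ g₂))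
  obtain ⟨j, hj⟩ := h.odd_r
  set yy : ↥H := g₂ ^ (r + 1)
  set y := (yy : G) with hydef
  have hyr : y ^ r = 1 := by
    rw [hydef, SubgroupClass.coe_pow, ← pow_mul, show (r + 1) * r = 2 * r * (j + 1) by rw [hj]; ring, pow_mul,
      hg₂r, one_pow]
  have hφy : φ yy = y₀ := by
    rw [map_pow, pow_succ, hφg₂, ← hy₀, pow_orderOf_eq_one, one_mul]
  have hy₀1 : y₀ ≠ 1 := fun e => by rw [e, orderOf_one] at hy₀; exact h.prime.ne_one hy₀.symm
  have hy1 : y ≠ 1 := fun e => hy₀1 (by rw [← hφy, show yy = 1 from Subtype.ext e, map_one])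
  have hyo : orderOf y = r := orderOf_eq_prime hyr hy1
  have hy₀F : y₀ ∉ F := hφy ▸ hrnotF yy hyr hy1
  have hy₀r : y₀ ^ r = 1 := hy₀ ▸ pow_orderOf_eq_one y₀
  have hyC : y⁻¹ * (c : G) * y ∈ C := by
    have h1 : ∀ x ∈ zpowers c, g₂ * x * g₂⁻¹ ∈ zpowers c := fun x hx => by
      obtain ⟨i, rfl⟩ := mem_zpowers_iff.1 hx
      rw [← conj_zpow, hg₂c]
      exact zpow_mem (zpow_mem (mem_zpowers c) l) i
    have h2 : g₂ ∈ normalizer (zpowers c : Set ↥H) := mem_normalizer_fintype h1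
    have h3 := (mem_normalizer_iff.1 (inv_mem (pow_mem h2 (r + 1))) c).1 (mem_zpowers c)
    rw [inv_inv] at h3
    obtain ⟨i, hi⟩ := mem_zpowers_iff.1 h3
    exact mem_zpowers_iff.2 ⟨i, by rw [← SubgroupClass.coe_zpow, hi]; rfl⟩
  have hyx₀ : y • x₀ = x₀ := Invol.smul_coset_one_eq.2 yy.2
  have hyx₁ : y • x₁ = x₁ := by
    refine (hΦ _ ?_).resolve_left fun e => ?_
    · obtain ⟨i, hi⟩ := mem_zpowers_iff.1 hyC
      have h1 : ((c : G) ^ i) • x₁ = x₁ :=
        MulAction.mem_stabilizer_iff.1 (zpow_mem (MulAction.mem_stabilizer_iff.2 hx₁) i)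
      rw [← mul_smul, show (c : G) * y = y * (y⁻¹ * (c : G) * y) by group, mul_smul, ← hi, h1]
    · rw [← inv_smul_eq_iff.2 hyx₀.symm, smul_eq_iff_eq_inv_smul, ← mul_smul] at e
      exact hx₀₁ (e.trans (Invol.smul_coset_one_eq.2 (mul_mem (inv_mem yy.2) (inv_mem yy.2))))
  -- the fixed involutions
  obtain ⟨t, ht, hyt⟩ := hF.exists_fixed y₀ ⟨g₁, hg₁⟩ hy₀1 hy₀r
  have hto : orderOf (t : G) = 2 := h.orderOf_of_mem_sylow S t.2 fun e => ht (Subtype.ext e)
  have htt : (t : G) * t = 1 := mul_self_invol hto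
  have hty : Commute (t : G) y := by
    have e : y * (t : G) * y⁻¹ = t := congrArg Subtype.val (hφy ▸ hyt : φ yy t = t)
    exact (mul_inv_eq_iff_eq_mul.1 e).symm
  have hCS : ∀ s ∈ (S : Subgroup G), Commute s y → s = 1 ∨ s = t := by
    intro s hs hsy
    refine or_iff_not_imp_left.2 fun hs1 => ?_
    have e : φ yy ⟨s, hs⟩ = ⟨s, hs⟩ := Subtype.ext (by
      show y * s * y⁻¹ = s
      rw [← hsy.eq, mul_inv_cancel_right])
    rw [hφy] at e
    exact congrArg Subtype.val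
      (hF.fixed_unique y₀ ⟨g₁, hg₁⟩ hy₀1 hy₀r ⟨s, hs⟩ t (fun e' => hs1 (congrArg Subtype.val e')) ht e hyt)
  set x₂ := (t : G) • x₁
  have hfix : ∀ x : G ⧸ H, y • x = x → x = x₀ ∨ x = x₁ ∨ x = x₂ := by
    intro x hx
    refine or_iff_not_imp_left.2 fun hne => ?_
    obtain ⟨s, hs, rfl⟩ := hpoints x hne
    have hs' : y * s * y⁻¹ ∈ (S : Subgroup G) := (mem_normalizer_iff.1 yy.2 s).1 hs
    have h2 : (s⁻¹ * (y * s * y⁻¹)) • x₁ = x₁ := by
      rw [mul_smul, mul_smul, inv_smul_eq_iff.2 hyx₁.symm, mul_smul, hx, inv_smul_smul]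
    have h3 := hfree _ (mul_mem (inv_mem hs) hs') h2
    rw [inv_mul_eq_one, eq_mul_inv_iff_mul_eq] at h3
    rcases hCS s hs h3 with rfl | rfl
    · exact Or.inl (one_smul G x₁)
    · exact Or.inr rfl
  have hyx₂ : y • x₂ = x₂ := by rw [← mul_smul, ← hty.eq, mul_smul, hyx₁]
  have hx₂₀ : x₂ ≠ x₀ := fun e => hx₀₁ (by
    rw [← inv_smul_eq_iff.2 e.symm]
    exact Invol.smul_coset_one_eq.2 (inv_mem (le_normalizer t.2)))
  have hx₂₁ : x₂ ≠ x₁ := fun e => by
    have h1 := hfree _ t.2 e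
    exact ht (Subtype.ext h1)
  -- the centralizer of `y` is transitive on them
  have hyu : u * y * u⁻¹ ∈ H := by
    rw [hx₁def, Invol.smul_coset_eq_iff] at hyx₁
    rwa [hui] at hyx₁ ⊢
  have hy₁r : (u * y * u⁻¹) ^ r = 1 := by rw [conj_pow, hyr, mul_one, mul_inv_cancel]
  have hy₁F : φ ⟨u * y * u⁻¹, hyu⟩ ∉ F := hrnotF ⟨_, hyu⟩ hy₁r fun e => hy1 (conj_eq_one_iff.1 e)
  obtain ⟨v, hv, hvfix⟩ := hF.exists_fixed _ ⟨⟨u * y * u⁻¹, hyu⟩, rfl⟩ (fun e => hy₁F (e ▸ one_mem F))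
    (by rw [← map_pow, show (⟨u * y * u⁻¹, hyu⟩ : ↥H) ^ r = 1 from Subtype.ext hy₁r, map_one])
  have hvo : orderOf (v : G) = 2 := h.orderOf_of_mem_sylow S v.2 fun e => hv (Subtype.ext e)
  set t₁ := u * (v : G) * u⁻¹ with ht₁
  have ht₁y : Commute t₁ y := by
    have e : (u * y * u⁻¹) * (v : G) * (u * y * u⁻¹)⁻¹ = v := congrArg Subtype.val hvfix
    rw [mul_inv_eq_iff_eq_mul] at e
    have h1 := (show Commute (v : G) (u * y * u⁻¹) from e.symm).map (MulAut.conj u).toMonoidHom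
    simp only [MulEquiv.coe_toMonoidHom, MulAut.conj_apply] at h1
    rwa [show u * (u * y * u⁻¹) * u⁻¹ = (u * u) * y * (u * u)⁻¹ by group, huu, one_mul, inv_one,
      mul_one] at h1
  have ht₁x₁ : t₁ • x₁ = x₁ := by
    rw [hx₁def, Invol.smul_coset_eq_iff, ht₁]
    rw [show u⁻¹ * (u * (v : G) * u⁻¹) * u = (v : G) by group]
    exact le_normalizer v.2
  have ht₁x₀ : t₁ • x₀ = x₂ := by
    have hfx : y • t₁ • x₀ = t₁ • x₀ := by rw [← mul_smul, ← ht₁y.eq, mul_smul, hyx₀]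
    rcases hfix _ hfx with e | e | e
    · exact absurd (Invol.se_mem hse (le_normalizer v.2) hvo
        (Invol.smul_coset_one_eq.1 e)) huH
    · exact absurd (MulAction.injective t₁ (e.trans ht₁x₁.symm)) (Ne.symm hx₀₁)
    · exact e
  have hrep : ∀ x : G ⧸ H, y • x = x → ∃ a : G, Commute a y ∧ a • x₀ = x := by
    intro x hx
    rcases hfix x hx with rfl | rfl | rfl
    · exact ⟨1, Commute.one_left y, one_smul G x₀⟩
    · refine ⟨t * t₁, hty.mul_left ht₁y, ?_⟩
      rw [mul_smul, ht₁x₀, ← mul_smul, htt, one_smul]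
    · exact ⟨t₁, ht₁y, ht₁x₀⟩
  have hFix3 : Nat.card {x : G ⧸ H // y • x = x} = 3 := by
    rw [show 3 = ({x₀, x₁, x₂} : Set (G ⧸ H)).ncard from
      (Set.ncard_eq_three.2 ⟨x₀, x₁, x₂, Ne.symm hx₀₁, Ne.symm hx₂₀, Ne.symm hx₂₁, rfl⟩).symm]
    refine Nat.card_congr (Equiv.subtypeEquivRight fun x => ⟨fun hx => hfix x hx, ?_⟩)
    rintro (rfl | rfl | rfl)
    · exact hyx₀
    · exact hyx₁
    · exact hyx₂
  -- transfer to the quotient of order `r`
  have hna : ¬ IsMulCommutative G := h.not_commutative_of_sylow hS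
  haveI : (F.subgroupOf (auto S)).Normal := ⟨fun k hk g => by
    rw [mem_subgroupOf] at hk ⊢
    exact hF.conj _ g.2 _ hk⟩
  have hQ : Nat.card (↥(auto S) ⧸ F.subgroupOf (auto S)) = r := by
    have h1 := Subgroup.card_eq_card_quotient_mul_card_subgroup (F.subgroupOf (auto S))
    rw [Nat.card_congr (subgroupOfEquivOfLe hF.le).toEquiv, hF.card_auto, mul_comm] at h1
    exact (Nat.eq_of_mul_eq_mul_right Nat.card_pos h1).symm
  haveI : IsCyclic (↥(auto S) ⧸ F.subgroupOf (auto S)) := isCyclic_of_prime_card hQ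
  letI : CommGroup (↥(auto S) ⧸ F.subgroupOf (auto S)) := IsCyclic.commGroup
  let π : ↥H →* ↥(auto S) ⧸ F.subgroupOf (auto S) :=
    (QuotientGroup.mk' (F.subgroupOf (auto S))).comp φ.rangeRestrict
  have hπy : orderOf (π yy) = r := by
    refine orderOf_eq_prime ?_ fun e => hy₀F ?_
    · rw [← map_pow, show yy ^ r = 1 from Subtype.ext (by rw [SubgroupClass.coe_pow]; exact hyr), map_one]
    · have h1 := (QuotientGroup.eq_one_iff (G := ↥(auto S)) (φ.rangeRestrict yy : ↥(auto S))).1 e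
      have h2 : φ yy ∈ F := h1
      exact hφy ▸ h2
  have hconjfix : ∀ g : G, ∀ hg : g⁻¹ * y * g ∈ H, π ⟨g⁻¹ * y * g, hg⟩ = π ⟨y, yy.2⟩ := by
    intro g hg
    obtain ⟨a, hay, hax⟩ := hrep (QuotientGroup.mk g) (Invol.smul_coset_eq_iff.2 hg)
    have hm : a⁻¹ * g ∈ H := by
      rw [MulAction.Quotient.smul_mk, QuotientGroup.eq] at hax
      simpa using hax
    have e : (⟨g⁻¹ * y * g, hg⟩ : ↥H) = ⟨a⁻¹ * g, hm⟩⁻¹ * ⟨y, yy.2⟩ * ⟨a⁻¹ * g, hm⟩ := by
      refine Subtype.ext ?_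
      show g⁻¹ * y * g = (a⁻¹ * g)⁻¹ * y * (a⁻¹ * g)
      rw [mul_inv_rev, inv_inv,
        show g⁻¹ * a * y * (a⁻¹ * g) = g⁻¹ * (a * y * a⁻¹) * g by group, hay.eq, mul_inv_cancel_right]
    rw [e, map_mul, map_mul, map_inv, inv_mul_cancel_comm]
  have hr3 : r = 3 := by
    have h1 := transfer_fixed π h.prime hyr yy.2 hconjfix
    rw [hFix3, MonoidHom.mem_ker.1 (Abelianization.commutator_subset_ker (MonoidHom.transfer π)
      (SelfNormNA.commutator_eq_top_of_simple hna ▸ mem_top y))] at h1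
    have h2 : orderOf (π yy) ∣ 3 := orderOf_dvd_of_pow_eq_one h1.symm
    rw [hπy] at h2
    exact (Nat.prime_dvd_prime_iff_eq h.prime Nat.prime_three).1 h2
  -- the centralizer of `y`
  set Cy := centralizer ({y} : Set G)
  have hstab6 : Nat.card ↥(MulAction.stabilizer ↥Cy x₀) = 2 * r := by
    let ψ : ↥(MulAction.stabilizer ↥Cy x₀) →* ↥(auto S) :=
      φ.rangeRestrict.comp
        { toFun := fun g => (⟨((g : ↥Cy) : G), Invol.smul_coset_one_eq.1 g.2⟩ : ↥H)
          map_one' := rfl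
          map_mul' := fun _ _ => rfl }
    have hrange : Nat.card ↥ψ.range = r := by
      have hle : ψ.range ≤ zpowers (⟨y₀, ⟨g₁, hg₁⟩⟩ : ↥(auto S)) := by
        rintro _ ⟨g, rfl⟩
        set k := ψ g
        have hc' : Commute (k : MulAut ↥(S : Subgroup G)) y₀ := by
          rw [← hφy]
          exact (show Commute (⟨((g : ↥Cy) : G), Invol.smul_coset_one_eq.1 g.2⟩ : ↥H) yy from
            Subtype.ext (mem_centralizer_singleton_iff.1 (g : ↥Cy).2)).map φ
        -- the centralizer of `y₀` meets `F` trivially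
        have hinj : ∀ k' : ↥(auto S), Commute (k' : MulAut ↥(S : Subgroup G)) y₀ →
            k' ∈ F.subgroupOf (auto S) → k' = 1 := fun k' hk' hkF => by
          refine Subtype.ext (hFtriv _ hkF ?_)
          rw [mul_comm, pow_mul, h.auto_commute ⟨g₁, hg₁⟩ k'.2 hy₀1 hy₀r hk'.symm, one_pow]
        set Y : ↥(auto S) := ⟨y₀, ⟨g₁, hg₁⟩⟩
        have hYo : orderOf (QuotientGroup.mk' (F.subgroupOf (auto S)) Y) = r := by
          refine orderOf_eq_prime ?_ fun e => hy₀F ?_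
          · rw [← map_pow, show Y ^ r = 1 from Subtype.ext (by rw [SubgroupClass.coe_pow]; exact hy₀r), map_one]
          · exact mem_subgroupOf.1 ((QuotientGroup.eq_one_iff Y).1 e)
        have htop : zpowers (QuotientGroup.mk' (F.subgroupOf (auto S)) Y) = ⊤ :=
          Subgroup.eq_top_of_card_eq _ (by rw [Nat.card_zpowers, hYo, hQ])
        obtain ⟨i, hi⟩ := mem_zpowers_iff.1
          (htop.symm ▸ mem_top (QuotientGroup.mk' (F.subgroupOf (auto S)) k) :
            QuotientGroup.mk' (F.subgroupOf (auto S)) k ∈ zpowers (QuotientGroup.mk' (F.subgroupOf (auto S)) Y))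
        refine mem_zpowers_iff.2 ⟨i, ?_⟩
        have h1 : k * (Y ^ i)⁻¹ = 1 := by
          refine hinj _ ?_ ((QuotientGroup.eq_one_iff _).1 (by
            show QuotientGroup.mk' (F.subgroupOf (auto S)) (k * (Y ^ i)⁻¹) = 1
            rw [map_mul, map_inv, map_zpow, hi, mul_inv_cancel]))
          rw [Subgroup.coe_mul, InvMemClass.coe_inv, SubgroupClass.coe_zpow]
          exact hc'.mul_left ((Commute.refl y₀).zpow_left i).inv_left
        exact (mul_inv_eq_one.1 h1).symm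
      refine le_antisymm ((card_le_of_le hle).trans (by rw [Nat.card_zpowers, ← orderOf_coe]; exact hy₀.le)) ?_
      have hmem : (⟨y₀, ⟨g₁, hg₁⟩⟩ : ↥(auto S)) ∈ ψ.range :=
        ⟨⟨⟨y, mem_centralizer_singleton_iff.2 rfl⟩, hyx₀⟩, Subtype.ext hφy⟩
      calc r = Nat.card ↥(zpowers (⟨y₀, ⟨g₁, hg₁⟩⟩ : ↥(auto S))) := by
            rw [Nat.card_zpowers, ← orderOf_coe]; exact hy₀.symm
        _ ≤ _ := card_le_of_le (zpowers_le.2 hmem)
    have hkerψ : Nat.card ↥ψ.ker = 2 := by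
      rw [Nat.card_congr
        ({ toFun := fun g => (⟨(((g : ↥(MulAction.stabilizer ↥Cy x₀)) : ↥Cy) : G), by
            have h1 := (hker _).1 (congrArg Subtype.val g.2)
            exact hCS _ h1 (mem_centralizer_singleton_iff.1 ((g : ↥(MulAction.stabilizer ↥Cy x₀)) : ↥Cy).2)⟩ :
              {x : G // x = 1 ∨ x = (t : G)})
           invFun := fun x => ⟨⟨⟨x.1, by
              rcases x.2 with e | e <;> rw [e]
              · exact one_mem _
              · exact mem_centralizer_singleton_iff.2 hty.eq⟩, by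
              refine MulAction.mem_stabilizer_iff.2 (Invol.smul_coset_one_eq.2 ?_)
              show x.1 ∈ H
              rcases x.2 with e | e <;> rw [e]
              · exact one_mem H
              · exact le_normalizer t.2⟩, Subtype.ext ((hker _).2 (by
              show x.1 ∈ (S : Subgroup G)
              rcases x.2 with e | e <;> rw [e]
              · exact one_mem _
              · exact t.2))⟩
           left_inv := fun _ => rfl
           right_inv := fun _ => rfl } : ↥ψ.ker ≃ {x : G // x = 1 ∨ x = (t : G)})]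
      exact (Nat.card_congr (Equiv.subtypeEquivRight fun _ => Iff.rfl) :
          Nat.card {x : G // x = 1 ∨ x = (t : G)} = ({1, (t : G)} : Set G).ncard).trans
        (Set.ncard_pair (fun e => ht (Subtype.ext e.symm)))
    rw [← ψ.ker.card_mul_index, Subgroup.index_ker, hrange, hkerψ]
  have hCy : Nat.card ↥Cy = 18 := by
    have horbit : MulAction.orbit ↥Cy x₀ = {x : G ⧸ H | y • x = x} := by
      ext x
      constructor
      · rintro ⟨a, rfl⟩
        show y • (a : G) • x₀ = (a : G) • x₀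
        rw [← mul_smul, ← mem_centralizer_singleton_iff.1 a.2, mul_smul, hyx₀]
      · intro hx
        obtain ⟨a, hay, hax⟩ := hrep x hx
        exact ⟨⟨a, mem_centralizer_singleton_iff.2 hay.eq⟩, hax⟩
    have h1 := (MulAction.stabilizer ↥Cy x₀).card_mul_index
    rw [hstab6, MulAction.index_stabilizer, horbit] at h1
    rw [← h1, show ({x : G ⧸ H | y • x = x} : Set (G ⧸ H)).ncard = 3 from hFix3, hr3]
  have hfix3' : ∀ a b : ℤ, y ^ a = y ^ b ↔ (r : ℤ) ∣ a - b := fun a b => by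
    rw [← hyo, orderOf_dvd_sub_iff_zpow_eq_zpow]
  refine ⟨y, t, hyo, hto, hty, hr3, ?_, hCy, ?_, ?_, ?_⟩
  · show _ = (q + 1) * (q * ((q - 1) * r))
    rw [← H.card_mul_index, hindex, hHcard, ← hfq, Nat.add_sub_cancel]
    ring
  · intro hd
    have h9 := hd.trans (card_dvd_of_le
      (h.centralizer_le hS t.2 fun e => ht (Subtype.ext e)))
    rw [hHcard, ← mul_assoc, show (9 : ℕ) = 3 * r by rw [hr3]] at h9
    have h3 : 3 ∣ q * f := Nat.dvd_of_mul_dvd_mul_right h.prime.pos h9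
    obtain ⟨n, hn⟩ := IsPGroup.iff_card.1 S.2
    rcases Nat.prime_three.dvd_mul.1 h3 with h1 | h1
    · rw [hq, hn] at h1
      exact absurd ((Nat.prime_dvd_prime_iff_eq Nat.prime_three Nat.prime_two).1
        (Nat.prime_three.dvd_of_dvd_pow h1)) (by norm_num)
    · exact hF.not_dvd (by rw [hr3]; exact h1)
  · intro x v hxo hvo' hvx
    obtain ⟨P, hP⟩ := (IsPGroup.of_card (n := 1) (by rw [Nat.card_zpowers, hvo', pow_one] : _ = 2 ^ 1) :
      IsPGroup 2 ↥(zpowers v)).exists_le_sylow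
    obtain ⟨g, hg⟩ := MulAction.exists_smul_eq G P S
    have hvS : g * v * g⁻¹ ∈ (S : Subgroup G) := by
      rw [← hg, Sylow.coe_subgroup_smul]
      exact ⟨v, hP (mem_zpowers v), rfl⟩
    have hxH : g * x * g⁻¹ ∈ H := h.centralizer_le hS hvS
      (fun e => by rw [conj_eq_one_iff.1 e, orderOf_one] at hvo'; omega)
      (mem_centralizer_singleton_iff.2 (hvx.symm.map (MulAut.conj g).toMonoidHom).eq)
    have hHr : ∀ P' : Sylow r ↥H, Nat.card ↥(P' : Subgroup ↥H) = r := by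
      intro P'
      rw [P'.card_eq_multiplicity, hHcard, ← mul_assoc,
        Nat.factorization_mul (Nat.mul_ne_zero (by omega) (by omega)) h.prime.ne_zero, Finsupp.add_apply,
        h.prime.factorization_self, Nat.factorization_eq_zero_of_not_dvd, zero_add, pow_one]
      intro hd
      rcases h.prime.dvd_mul.1 hd with h1 | h1
      · obtain ⟨n, hn⟩ := IsPGroup.iff_card.1 S.2
        rw [hq, hn] at h1
        exact h.ne_two ((Nat.prime_dvd_prime_iff_eq h.prime Nat.prime_two).1 (h.prime.dvd_of_dvd_pow h1))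
      · exact hF.not_dvd h1
    have hx'o : orderOf (⟨g * x * g⁻¹, hxH⟩ : ↥H) = r := by
      rw [Subgroup.orderOf_mk, Invol.orderOf_conj_eq, hxo]
    obtain ⟨P₁, hP₁⟩ := (IsPGroup.of_card (n := 1) (by rw [Nat.card_zpowers, hx'o, pow_one] : _ = r ^ 1) :
      IsPGroup r ↥(zpowers (⟨g * x * g⁻¹, hxH⟩ : ↥H))).exists_le_sylow
    obtain ⟨P₂, hP₂⟩ := (IsPGroup.of_card (n := 1) (by
      rw [Nat.card_zpowers, ← orderOf_coe, ← hydef, hyo, pow_one] : _ = r ^ 1) :
      IsPGroup r ↥(zpowers yy)).exists_le_sylow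
    obtain ⟨m, hm⟩ := MulAction.exists_smul_eq ↥H P₁ P₂
    have hmem : m * ⟨g * x * g⁻¹, hxH⟩ * m⁻¹ ∈ (P₂ : Subgroup ↥H) := by
      rw [← hm, Sylow.coe_subgroup_smul]
      exact ⟨_, hP₁ (mem_zpowers _), rfl⟩
    have hP₂' : (P₂ : Subgroup ↥H) = zpowers yy :=
      (Subgroup.eq_of_le_of_card_ge hP₂ (by rw [hHr, Nat.card_zpowers, ← orderOf_coe, ← hydef, hyo])).symm
    rw [hP₂'] at hmem
    obtain ⟨i, hi⟩ := mem_zpowers_iff.1 hmem
    have hi' : y ^ i = ((m : G) * g) * x * ((m : G) * g)⁻¹ := by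
      have := congrArg Subtype.val hi
      rw [SubgroupClass.coe_zpow] at this
      rw [hydef, this]
      show (m : G) * (g * x * g⁻¹) * (m : G)⁻¹ = _
      group
    rcases (by rw [hr3]; omega : (r : ℤ) ∣ i ∨ (r : ℤ) ∣ i - 1 ∨ (r : ℤ) ∣ i - (-1)) with h1 | h1 | h1
    · exfalso
      have h0 : y ^ i = 1 := by rw [← zpow_zero y, hfix3', sub_zero]; exact h1
      rw [hi', conj_eq_one_iff] at h0
      rw [h0, orderOf_one] at hxo
      exact h.prime.ne_one hxo.symm
    · rw [(hfix3' i 1).2 h1, zpow_one] at hi'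
      exact Or.inl (isConj_iff.2 ⟨_, hi'.symm⟩)
    · rw [(hfix3' i (-1)).2 h1, zpow_neg, zpow_one] at hi'
      exact Or.inr (isConj_iff.2 ⟨_, hi'.symm⟩)
  · intro hconj
    obtain ⟨n, hn⟩ := isConj_iff.1 hconj
    have hn' : y * n = n * y⁻¹ := by
      calc y * n = (n * y * n⁻¹)⁻¹ * n := by rw [hn, inv_inv]
        _ = n * y⁻¹ := by group
    have hfn : y • n • x₀ = n • x₀ := by
      rw [← mul_smul, hn', mul_smul, inv_smul_eq_iff.2 hyx₀.symm]
    obtain ⟨a, hay, hax⟩ := hrep _ hfn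
    have hm : a⁻¹ * n ∈ H := Invol.smul_coset_one_eq.1 (by
      show (a⁻¹ * n) • x₀ = x₀
      rw [mul_smul, ← hax, inv_smul_smul])
    set m : ↥H := ⟨a⁻¹ * n, hm⟩
    have hmy : m * yy * m⁻¹ = yy⁻¹ := by
      refine Subtype.ext ?_
      show a⁻¹ * n * y * (a⁻¹ * n)⁻¹ = y⁻¹
      rw [show a⁻¹ * n * y * (a⁻¹ * n)⁻¹ = a⁻¹ * (n * y * n⁻¹) * a by group, hn, mul_assoc,
        ← hay.inv_right.eq, inv_mul_cancel_left]
    set k := φ m
    have hk : k * y₀ * k⁻¹ = y₀⁻¹ := by rw [← hφy, ← map_inv, ← map_mul, ← map_mul, hmy, map_inv]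
    obtain ⟨j', hj'⟩ := h.auto_odd_order (k := k) ⟨m, rfl⟩
    have hk2 : ∀ i : ℕ, k ^ (2 * i) * y₀ * (k ^ (2 * i))⁻¹ = y₀ := by
      intro i
      induction i with
      | zero => simp
      | succ i ih =>
        rw [show 2 * (i + 1) = 2 * i + 1 + 1 from rfl, pow_succ, pow_succ,
          show k ^ (2 * i) * k * k * y₀ * (k ^ (2 * i) * k * k)⁻¹ =
            k ^ (2 * i) * (k * (k * y₀ * k⁻¹) * k⁻¹) * (k ^ (2 * i))⁻¹ by group, hk,
          show k * y₀⁻¹ * k⁻¹ = (k * y₀ * k⁻¹)⁻¹ by group, hk, inv_inv, ih]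
    have h4 := hk2 (j' + 1)
    rw [show 2 * (j' + 1) = orderOf k + 1 by omega, pow_succ, pow_orderOf_eq_one, one_mul, hk] at h4
    have h5 : y₀ ^ 2 = 1 := by
      rw [pow_two]; nth_rewrite 1 [← h4]; exact inv_mul_cancel y₀
    have h6 := orderOf_dvd_of_pow_eq_one h5
    rw [hy₀] at h6
    exact h.ne_two ((Nat.prime_dvd_prime_iff_eq h.prime Nat.prime_two).1 h6)

end Hyp

end Cfsg.Lib.CompOrd
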