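import Cfsg.Agent.Lib.Solv.FixedPointFree
import Cfsg.Agent.Lib.Solv.Nilpotent

/-!
The norm trick: an abelian group `A` normalized without fixed points by an element `y` of prime order `s`
centralizes every nilpotent group `X` of coprime order in which `(v * y) ^ s = 1` for all `v`.
-/

set_option autoImplicit false

namespace Cfsg.Lib.CompOrd

open Subgroup

universe u v

section Abstract

variable {B : Type u} [Group B] {V : Type v} [CommGroup V]

/-- If all norms of `y` vanish on `V`, a group `A` on which the powers of `y` have no fixed points acts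
trivially. -/
theorem fix_of_norm_eq_one_of_powers [Finite V] (φ : B →* MulAut V) (A : Subgroup B) [Finite A]
    (hco : (Nat.card A).Coprime (Nat.card V)) {y : B} {s : ℕ} (hs : 2 ≤ s)
    (hyA : ∀ a ∈ A, y * a * y⁻¹ ∈ A)
    (hfpfs : ∀ i : ℕ, 0 < i → i < s → ∀ a ∈ A, Commute a (y ^ i) → a = 1)
    (hnorm : ∀ v : V, ∏ i ∈ Finset.range s, φ (y ^ i) v = 1) {a : B} (ha : a ∈ A) (v : V) :
    φ a v = v := by
  classical
  have hfpf : ∀ a ∈ A, Commute a y → a = 1 := fun a ha hc =>
    hfpfs 1 one_pos hs a ha (by rwa [pow_one])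
  letI := Fintype.ofFinite A
  have hconjy : ∀ (i : ℕ) (w : B), w ∈ A → y ^ i * w * (y ^ i)⁻¹ ∈ A := by
    intro i
    induction i with
    | zero => intro w hw; simpa using hw
    | succ i ih =>
      intro w hw
      have := hyA _ (ih w hw)
      rw [pow_succ']
      convert this using 1
      group
  -- every element of `A * y` is an `A`-conjugate of `y`
  have hconj : ∀ x : A, ∃ w : A, (x : B) * y = w * y * (w : B)⁻¹ := by
    let f : A → A := fun w => ⟨w * (y * (w : B)⁻¹ * y⁻¹), mul_mem w.2 (hyA _ (inv_mem w.2))⟩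
    have hf : Function.Injective f := by
      intro w w' h
      have h' : (w : B) * (y * (w : B)⁻¹ * y⁻¹) = w' * (y * (w' : B)⁻¹ * y⁻¹) := congrArg Subtype.val h
      have hc : Commute ((w' : B)⁻¹ * w) y := by
        show (w' : B)⁻¹ * w * y = y * ((w' : B)⁻¹ * w)
        calc (w' : B)⁻¹ * w * y = (w' : B)⁻¹ * (w * (y * (w : B)⁻¹ * y⁻¹)) * (y * w) := by group
          _ = (w' : B)⁻¹ * (w' * (y * (w' : B)⁻¹ * y⁻¹)) * (y * w) := by rw [h']
          _ = _ := by group
      exact Subtype.ext (eq_of_inv_mul_eq_one (hfpf _ (mul_mem (inv_mem w'.2) w.2) hc)).symm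
    intro x
    obtain ⟨w, hw⟩ := Finite.injective_iff_surjective.1 hf x
    refine ⟨w, ?_⟩
    rw [show (x : B) = w * (y * (w : B)⁻¹ * y⁻¹) from (congrArg Subtype.val hw).symm]
    group
  -- so its norms vanish
  have hnorm' : ∀ x : A, ∏ i ∈ Finset.range s, φ (((x : B) * y) ^ i) v = 1 := by
    intro x
    obtain ⟨w, hw⟩ := hconj x
    have e : ∀ i : ℕ, φ (((x : B) * y) ^ i) v = φ (w : B) (φ (y ^ i) (φ (w : B)⁻¹ v)) := fun i => by
      rw [hw, conj_pow, map_mul, map_mul, MulAut.mul_apply, MulAut.mul_apply]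
    rw [Finset.prod_congr rfl fun i _ => e i, ← map_prod, hnorm, map_one]
  -- the terms with nonzero exponent are fixed by `A`
  have hmem : ∀ (i : ℕ) (x : A), ((x : B) * y) ^ i * (y ^ i)⁻¹ ∈ A := by
    intro i x
    induction i with
    | zero => simp
    | succ i ih =>
      have := mul_mem ih (hconjy i x x.2)
      convert this using 1
      rw [pow_succ, pow_succ]
      group
  have hterm : ∀ i ∈ Finset.range s, i ≠ 0 →
      φ a (∏ x : A, φ (((x : B) * y) ^ i) v) = ∏ x : A, φ (((x : B) * y) ^ i) v := by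
    intro i hi hi0
    have hbij : Function.Bijective fun x : A => (⟨((x : B) * y) ^ i * (y ^ i)⁻¹, hmem i x⟩ : A) := by
      refine Finite.injective_iff_bijective.1 fun x x' h => ?_
      have h' : ((x : B) * y) ^ i = ((x' : B) * y) ^ i := mul_right_cancel (congrArg Subtype.val h)
      obtain ⟨w, hw⟩ := hconj x
      obtain ⟨w', hw'⟩ := hconj x'
      rw [hw, hw', conj_pow, conj_pow] at h'
      have hc : Commute ((w' : B)⁻¹ * w) (y ^ i) := by
        show (w' : B)⁻¹ * w * y ^ i = y ^ i * ((w' : B)⁻¹ * w)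
        calc (w' : B)⁻¹ * w * y ^ i = (w' : B)⁻¹ * (w * y ^ i * (w : B)⁻¹) * w := by group
          _ = (w' : B)⁻¹ * (w' * y ^ i * (w' : B)⁻¹) * w := by rw [h']
          _ = _ := by group
      have e : (w' : B) = w := eq_of_inv_mul_eq_one (hfpfs i (Nat.pos_of_ne_zero hi0) (Finset.mem_range.1 hi) _
        (mul_mem (inv_mem w'.2) w.2) hc)
      exact Subtype.ext (mul_right_cancel (b := y) (by rw [hw, hw', e]))
    have e : ∏ x : A, φ (((x : B) * y) ^ i) v = ∏ x : A, φ (x : B) (φ (y ^ i) v) :=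
      Fintype.prod_equiv (Equiv.ofBijective _ hbij) _ _ fun x => by
        simp only [Equiv.ofBijective_apply]
        rw [← MulAut.mul_apply, ← map_mul, inv_mul_cancel_right]
    rw [e, map_prod]
    exact Fintype.prod_equiv (Equiv.mulLeft ⟨a, ha⟩) _ _ fun x => by
      simp [map_mul]
  -- the term with exponent zero
  have hall : ∏ i ∈ Finset.range s, ∏ x : A, φ (((x : B) * y) ^ i) v = 1 := by
    rw [Finset.prod_comm]
    exact Finset.prod_eq_one fun x _ => hnorm' x
  rw [← Finset.mul_prod_erase _ _ (Finset.mem_range.2 (by omega : 0 < s))] at hall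
  have hzero : ∏ x : A, φ (((x : B) * y) ^ 0) v = v ^ Nat.card A := by
    simp [Nat.card_eq_fintype_card]
  rw [hzero] at hall
  have hfix : φ a (v ^ Nat.card A) = v ^ Nat.card A := by
    rw [eq_inv_of_mul_eq_one_left hall, map_inv, map_prod]
    exact congrArg _ (Finset.prod_congr rfl fun i hi =>
      hterm i (Finset.mem_of_mem_erase hi) (Finset.ne_of_mem_erase hi))
  rw [map_pow] at hfix
  exact (powCoprime (n := Nat.card A) hco.symm).injective hfix

/-- If all norms of `y` vanish on `V`, a group `A` on which `y` has no fixed points acts trivially. -/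
theorem fix_of_norm_eq_one [Finite V] (φ : B →* MulAut V) (A : Subgroup B) [Finite A]
    (hco : (Nat.card A).Coprime (Nat.card V)) {y : B} {s : ℕ} (hs : s.Prime) (hy : y ^ s = 1)
    (hyA : ∀ a ∈ A, y * a * y⁻¹ ∈ A) (hfpf : ∀ a ∈ A, Commute a y → a = 1)
    (hnorm : ∀ v : V, ∏ i ∈ Finset.range s, φ (y ^ i) v = 1) {a : B} (ha : a ∈ A) (v : V) :
    φ a v = v := by
  refine fix_of_norm_eq_one_of_powers φ A hco hs.two_le hyA (fun i hi0 hi b hb hc => hfpf b hb ?_) hnorm ha v
  have hcop : (orderOf y).Coprime i := Nat.Coprime.coprime_dvd_left (orderOf_dvd_of_pow_eq_one hy)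
    ((Nat.Prime.coprime_iff_not_dvd hs).2 fun hd => absurd (Nat.le_of_dvd hi0 hd) (not_le.2 hi))
  obtain ⟨m, hm⟩ := exists_pow_eq_self_of_coprime hcop.symm
  exact hm ▸ hc.pow_right m

end Abstract

variable {G : Type u} [Group G]

theorem conj_pow_prod (v y : G) (i : ℕ) :
    (v * y) ^ i = ((List.range i).map fun k => y ^ k * v * (y ^ k)⁻¹).prod * y ^ i := by
  induction i with
  | zero => simp
  | succ i ih =>
    rw [pow_succ, ih, List.range_succ, List.map_append, List.prod_append, List.map_singleton,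
      List.prod_singleton, pow_succ]
    group

theorem centralizes_abelian [Finite G] {Z A : Subgroup G} [IsMulCommutative Z]
    (hco : (Nat.card A).Coprime (Nat.card Z)) {y : G} {s : ℕ} (hs : s.Prime) (hy : y ^ s = 1)
    (hAZ : A ≤ normalizer (Z : Set G)) (hyZ : y ∈ normalizer (Z : Set G))
    (hyA : ∀ a ∈ A, y * a * y⁻¹ ∈ A) (hfpf : ∀ a ∈ A, Commute a y → a = 1)
    (hexp : ∀ v ∈ Z, (v * y) ^ s = 1) : A ≤ centralizer (Z : Set G) := by
  classical
  letI : CommGroup Z := { (inferInstance : Group Z) with mul_comm := mul_comm' }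
  set N := normalizer (Z : Set G)
  let φ : ↥N →* MulAut Z := Z.normalizerMonoidHom
  haveI : Finite (A.subgroupOf N) := inferInstance
  have hnorm : ∀ v : Z, ∏ i ∈ Finset.range s, φ ((⟨y, hyZ⟩ : N) ^ i) v = 1 := by
    intro v
    refine Subtype.ext ?_
    have h1 := hexp v v.2
    rw [conj_pow_prod, hy, mul_one] at h1
    rw [Finset.prod_eq_multiset_prod, Finset.range_val, Multiset.range]
    simp only [Multiset.map_coe, Multiset.prod_coe]
    rw [SubmonoidClass.coe_list_prod, List.map_map]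
    exact h1
  intro a ha
  refine mem_centralizer_iff.2 fun z hz => ?_
  have key := fix_of_norm_eq_one φ (A.subgroupOf N)
    (by rwa [Nat.card_congr (subgroupOfEquivOfLe hAZ).toEquiv]) hs
    (y := ⟨y, hyZ⟩) (Subtype.ext (by simpa using hy)) (fun x hx => hyA x hx)
    (fun x hx hc => Subtype.ext (hfpf x hx (congrArg Subtype.val hc)))
    hnorm (a := ⟨a, hAZ ha⟩) ha ⟨z, hz⟩
  have key' : a * z * a⁻¹ = z := congrArg Subtype.val key
  rw [mul_inv_eq_iff_eq_mul] at key'
  exact key'.symm

theorem centralizes_nilpotent_aux : ∀ n : ℕ, ∀ {G : Type u} [Group G] [Finite G] {X A : Subgroup G},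
    Nat.card X ≤ n → Group.IsNilpotent X → (Nat.card A).Coprime (Nat.card X) → ∀ {y : G} {s : ℕ},
    s.Prime → y ^ s = 1 → A ≤ normalizer (X : Set G) → y ∈ normalizer (X : Set G) →
    (∀ a ∈ A, y * a * y⁻¹ ∈ A) → (∀ a ∈ A, Commute a y → a = 1) → (∀ v ∈ X, (v * y) ^ s = 1) →
    A ≤ centralizer (X : Set G) := by
  intro n
  induction n with
  | zero =>
    intro G _ _ X A h
    exact absurd h (not_le.2 Nat.card_pos)
  | succ n ih =>
    intro G _ _ X A hn hX hco y s hs hy hAX hyX hyA hfpf hexp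
    rcases eq_or_ne X ⊥ with rfl | hX1
    · exact fun a _ => mem_centralizer_iff.2 fun x hx => by
        rw [SetLike.mem_coe, mem_bot] at hx
        rw [hx, one_mul, mul_one]
    set Z := (center X).map X.subtype with hZ
    have hZX : Z ≤ X := map_subtype_le _
    have hNZ : normalizer (X : Set G) ≤ normalizer (Z : Set G) :=
      Cfsg.Lib.Core.normalizer_le_normalizer_map_char _
    have hZne : Z ≠ ⊥ := by
      rw [hZ, Ne, map_eq_bot_iff_of_injective _ X.subtype_injective]
      haveI : Nontrivial X := (nontrivial_iff_ne_bot X).2 hX1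
      intro h
      exact Cfsg.Lib.Solv.inf_center_ne_bot_of_isNilpotent (G := X) (N := ⊤) top_ne_bot
        (by rw [h, inf_bot_eq])
    haveI : IsMulCommutative Z := inferInstance
    have hcoZ : (Nat.card A).Coprime (Nat.card Z) := hco.coprime_dvd_right (card_dvd_of_le hZX)
    have hAZc : A ≤ centralizer (Z : Set G) := centralizes_abelian hcoZ hs hy (hAX.trans hNZ)
      (hNZ hyX) hyA hfpf fun v hv => hexp v (hZX hv)
    -- pass to the quotient
    set N := normalizer (X : Set G)
    haveI : (Z.subgroupOf N).Normal := ⟨fun z hz g => by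
      rw [mem_subgroupOf] at hz ⊢
      exact (mem_normalizer_iff.1 (hNZ g.2) _).1 hz⟩
    let π := QuotientGroup.mk' (Z.subgroupOf N)
    have hπ : ∀ g : N, π g = 1 ↔ (g : G) ∈ Z := fun g => by
      rw [QuotientGroup.mk'_apply, QuotientGroup.eq_one_iff, mem_subgroupOf]
    have hXN : X ≤ N := le_normalizer
    have hXcard : Nat.card ↥((X.subgroupOf N).map π) ≤ n := by
      have h1 := card_map_dvd π (H := X.subgroupOf N)
      rw [Nat.card_congr (subgroupOfEquivOfLe hXN).toEquiv] at h1
      rcases h1 with ⟨c, hc⟩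
      rcases Nat.lt_or_ge c 2 with hc2 | hc2
      · exfalso
        have hc1 : c = 1 := by
          rcases Nat.eq_zero_or_pos c with rfl | h0
          · rw [mul_zero] at hc; exact absurd hc Nat.card_pos.ne'
          · omega
        have hinj : Function.Injective (π.subgroupMap (X.subgroupOf N)) :=
          ((Nat.bijective_iff_surjective_and_card _).2 ⟨MonoidHom.subgroupMap_surjective _ _, by
            rw [Nat.card_congr (subgroupOfEquivOfLe hXN).toEquiv, hc, hc1, mul_one]⟩).1
        refine hZne (eq_bot_iff.2 fun z hz => ?_)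
        have := @hinj ⟨⟨z, hXN (hZX hz)⟩, hZX hz⟩ 1 (Subtype.ext (by
          simpa using (hπ ⟨z, hXN (hZX hz)⟩).2 hz))
        exact mem_bot.2 (congrArg Subtype.val (congrArg Subtype.val this))
      · have : 0 < Nat.card ↥((X.subgroupOf N).map π) := Nat.card_pos
        nlinarith
    have hnilp : Group.IsNilpotent ↥((X.subgroupOf N).map π) := by
      haveI : Group.IsNilpotent ↥(X.subgroupOf N) :=
        Group.nilpotent_of_mulEquiv (_h := hX) (subgroupOfEquivOfLe hXN).symm
      exact Group.nilpotent_of_surjective (π.subgroupMap _) (MonoidHom.subgroupMap_surjective _ _)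
    have hco' : (Nat.card ↥((A.subgroupOf N).map π)).Coprime (Nat.card ↥((X.subgroupOf N).map π)) := by
      refine Nat.Coprime.coprime_dvd_left ?_ (Nat.Coprime.coprime_dvd_right ?_ hco)
      · rw [← Nat.card_congr (subgroupOfEquivOfLe hAX).toEquiv]; exact card_map_dvd _ π
      · rw [← Nat.card_congr (subgroupOfEquivOfLe hXN).toEquiv]; exact card_map_dvd _ π
    have hAX1 : ∀ g ∈ A, g ∈ Z → g = 1 := fun g hg hg' => by
      have : g ∈ A ⊓ Z := ⟨hg, hg'⟩
      rwa [inf_eq_bot_of_coprime hcoZ, mem_bot] at this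
    have key := @ih (↥N ⧸ Z.subgroupOf N) _ _ ((X.subgroupOf N).map π) ((A.subgroupOf N).map π) hXcard
      hnilp hco' (π ⟨y, hyX⟩) s hs
      (by rw [← map_pow, show (⟨y, hyX⟩ : N) ^ s = 1 from Subtype.ext (by simpa using hy), map_one])
      ?_ ?_ ?_ ?_ ?_
    rotate_left
    · rintro _ ⟨a, ha, rfl⟩
      refine mem_normalizer_fintype ?_
      rintro _ ⟨x, hx, rfl⟩
      exact ⟨a * x * a⁻¹, (mem_normalizer_iff.1 a.2 x).1 hx, by simp⟩
    · refine mem_normalizer_fintype ?_
      rintro _ ⟨x, hx, rfl⟩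
      exact ⟨⟨y, hyX⟩ * x * (⟨y, hyX⟩ : N)⁻¹, (mem_normalizer_iff.1 hyX x).1 hx, by simp⟩
    · rintro _ ⟨a, ha, rfl⟩
      exact ⟨⟨y, hyX⟩ * a * (⟨y, hyX⟩ : N)⁻¹, hyA a ha, by simp⟩
    · rintro _ ⟨a, ha, rfl⟩ hc
      rw [hπ]
      have h1 : π (a * ⟨y, hyX⟩ * a⁻¹ * (⟨y, hyX⟩ : N)⁻¹) = 1 := by
        rw [map_mul, map_mul, map_mul, hc.eq, map_inv, map_inv]
        group
      rw [hπ] at h1
      have h2 : (a : G) * (y * (a : G)⁻¹ * y⁻¹) = 1 := by
        refine hAX1 _ (mul_mem ha (hyA _ (inv_mem ha))) ?_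
        simpa [mul_assoc] using h1
      have h3 : (a : G) * y = y * a :=
        calc (a : G) * y = (a : G) * (y * (a : G)⁻¹ * y⁻¹) * (y * a) := by group
          _ = y * a := by rw [h2, one_mul]
      rw [hfpf (a : G) ha h3]
      exact one_mem _
    · rintro _ ⟨x, hx, rfl⟩
      rw [← map_mul, ← map_pow, show (x * ⟨y, hyX⟩ : N) ^ s = 1 from Subtype.ext (by
        simpa using hexp x hx), map_one]
    intro a ha
    refine mem_centralizer_iff.2 fun x hx => ?_
    have h1 := mem_centralizer_iff.1 (key ⟨⟨a, hAX ha⟩, ha, rfl⟩) (π ⟨x, hXN hx⟩) ⟨⟨x, hXN hx⟩, hx, rfl⟩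
    -- `a` moves `x` by a central element, so fixes it
    set z := x⁻¹ * (a * x * a⁻¹) with hz
    have hzZ : z ∈ Z := by
      refine (hπ (⟨x, hXN hx⟩⁻¹ * (⟨a, hAX ha⟩ * ⟨x, hXN hx⟩ * (⟨a, hAX ha⟩ : N)⁻¹))).1 ?_
      rw [map_mul, map_mul, map_mul, ← h1, map_inv, map_inv]
      group
    have haz : a * z * a⁻¹ = z := by
      rw [← mem_centralizer_iff.1 (hAZc ha) z hzZ, mul_inv_cancel_right]
    have hpow : ∀ k : ℕ, a ^ k * x * (a ^ k)⁻¹ = x * z ^ k := by
      intro k
      induction k with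
      | zero => simp
      | succ k ihk =>
        calc a ^ (k + 1) * x * (a ^ (k + 1))⁻¹ = a * (a ^ k * x * (a ^ k)⁻¹) * a⁻¹ := by
              rw [pow_succ']; group
          _ = a * x * a⁻¹ * (a * z ^ k * a⁻¹) := by rw [ihk]; group
          _ = x * z * z ^ k := by
              rw [← conj_pow, haz, show a * x * a⁻¹ = x * z by rw [hz]; group]
          _ = x * z ^ (k + 1) := by rw [pow_succ', mul_assoc]
    have h2 := hpow (orderOf a)
    rw [pow_orderOf_eq_one, one_mul, inv_one, mul_one, eq_comm, mul_eq_left] at h2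
    have hz1 : z = 1 := orderOf_eq_one_iff.1 (Nat.eq_one_of_dvd_coprimes hcoZ
      ((orderOf_dvd_of_pow_eq_one h2).trans (A.orderOf_dvd_natCard ha)) (Z.orderOf_dvd_natCard hzZ))
    calc x * a = x * z * a := by rw [hz1, mul_one]
      _ = a * x := by rw [hz]; group

/-- An abelian group normalized without fixed points by `y` centralizes a nilpotent group of coprime
order on which the norms of `y` vanish. -/
theorem centralizes_nilpotent [Finite G] {X A : Subgroup G} (hX : Group.IsNilpotent X)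
    (hco : (Nat.card A).Coprime (Nat.card X)) {y : G} {s : ℕ} (hs : s.Prime) (hy : y ^ s = 1)
    (hAX : A ≤ normalizer (X : Set G)) (hyX : y ∈ normalizer (X : Set G))
    (hyA : ∀ a ∈ A, y * a * y⁻¹ ∈ A) (hfpf : ∀ a ∈ A, Commute a y → a = 1)
    (hexp : ∀ v ∈ X, (v * y) ^ s = 1) : A ≤ centralizer (X : Set G) :=
  centralizes_nilpotent_aux _ le_rfl hX hco hs hy hAX hyX hyA hfpf hexp

/-- An abelian group of automorphisms without fixed points of a nontrivial elementary abelian
`2`-group is cyclic. -/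
theorem isCyclic_of_fpf_mulAut {V : Type u} [CommGroup V] [Finite V] (hV : ∀ v : V, v * v = 1)
    [Nontrivial V] {A : Subgroup (MulAut V)} [IsMulCommutative A]
    (hfpf : ∀ a ∈ A, a ≠ 1 → ∀ v : V, a v = v → v = 1) : IsCyclic A := by
  by_contra hnc
  letI : CommGroup A := { (inferInstance : Group A) with mul_comm := mul_comm' }
  obtain ⟨p, a, b, hp, ha1, ha, hb, hind⟩ := Cfsg.Lib.Coprime.exists_two_independent_of_not_isCyclic hnc
  obtain ⟨v, hv⟩ := exists_ne (1 : V)
  have hf : ∀ x : A, x ≠ 1 → ∀ w : V, A.subtype x w = w → w = 1 := fun x hx =>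
    hfpf x x.2 fun h => hx (Subtype.ext h)
  have := Fact.mk hp
  have hind' : ∀ i j : ℕ, i < p → j < p → a ^ i * b ^ j = 1 → i = 0 ∧ j = 0 := by
    intro i j hi hj h
    have hj0 : j = 0 := by
      by_contra hj0
      apply hind
      have hbj : b ^ j ∈ Subgroup.zpowers a := by
        rw [eq_inv_of_mul_eq_one_right h]
        exact inv_mem (Subgroup.npow_mem_zpowers a i)
      have hcop : (orderOf b).Coprime j := Nat.Coprime.coprime_dvd_left (orderOf_dvd_of_pow_eq_one hb)
        ((hp.coprime_iff_not_dvd).2 fun hd' => absurd (Nat.le_of_dvd (Nat.pos_of_ne_zero hj0) hd') (by omega))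
      obtain ⟨m, hm⟩ := exists_pow_eq_self_of_coprime hcop.symm
      rw [← hm]
      exact pow_mem hbj m
    refine ⟨?_, hj0⟩
    rw [hj0, pow_zero, mul_one] at h
    by_contra hi0
    have := Nat.le_of_dvd (Nat.pos_of_ne_zero hi0) ((orderOf_eq_prime ha ha1) ▸ orderOf_dvd_of_pow_eq_one h)
    omega
  have h1 := Cfsg.Lib.Solv.pow_eq_one_of_commuting_fpf (B := A) (V := V) A.subtype hf
    (Commute.all a b) hp ha hb hind' v
  have hv2 : orderOf v = 2 := orderOf_eq_prime (by rw [pow_two]; exact hV v) hv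
  have hp2 : p = 2 := ((Nat.prime_dvd_prime_iff_eq Nat.prime_two hp).1
    (hv2 ▸ orderOf_dvd_of_pow_eq_one h1)).symm
  -- a fixed point free involution would invert, that is fix, every element
  subst hp2
  have h3 := Cfsg.Lib.Solv.norm_eq_one_of_fpf (B := A) (V := V) A.subtype hf (c := a) (p := 2) ha ha1 v
  rw [Finset.prod_range_succ, Finset.prod_range_one, pow_zero, pow_one, map_one, MulAut.one_apply] at h3
  refine hv (hf a ha1 v ?_)
  exact (eq_inv_of_mul_eq_one_right h3).trans (eq_inv_of_mul_eq_one_right (hV v)).symm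

end Cfsg.Lib.CompOrd
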