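import Cfsg.Agent.Lib.CompositeOrder.Main
import Cfsg.Agent.Lib.CompositeOrder.Simple
import Cfsg.Agent.Lib.CIT.Consumers.Inputs

/-!
The simple groups with at most one composite element order.
-/

set_option autoImplicit false
set_option linter.style.haveILetI false

namespace Cfsg.Lib.CompOrd

open Subgroup
open Cfsg.Lib

universe u

/-- The simple groups with at most one composite element order. -/
def OneCompList (G : Type u) [Group G] : Prop :=
  (∃ (F : Type) (_ : Field F) (_ : Fintype F), (Fintype.card F = 5 ∨ Fintype.card F = 7 ∨ Fintype.card F = 8 ∨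
        Fintype.card F = 9 ∨ Fintype.card F = 11 ∨ Fintype.card F = 13 ∨ Fintype.card F = 16) ∧
      Nonempty (G ≃* Matrix.ProjectiveSpecialLinearGroup (Fin 2) F)) ∨
    (∃ (F : Type) (_ : Field F) (_ : Fintype F), Fintype.card F = 4 ∧
      Nonempty (G ≃* Matrix.ProjectiveSpecialLinearGroup (Fin 3) F)) ∨
    (∃ (F : Type) (_ : Field F) (_ : Fintype F), Fintype.card F = 8 ∧ Nonempty (G ≃* ↥(Cfsg.Lie.Sz F 4))) ∨
    (∃ (F : Type) (_ : Field F) (_ : Fintype F), ∃ n r s : ℕ, r.Prime ∧ s.Prime ∧ 3 ^ n - 1 = 2 * r ∧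
      3 ^ n + 1 = 4 * s ∧ Fintype.card F = 3 ^ n ∧
      Nonempty (G ≃* Matrix.ProjectiveSpecialLinearGroup (Fin 2) F)) ∨
    (∃ (F : Type) (_ : Field F) (_ : Fintype F), ∃ n r : ℕ, (2 ^ n - 1).Prime ∧ r.Prime ∧ 2 ^ n + 1 = 3 * r ∧
      Fintype.card F = 2 ^ n ∧ Nonempty (G ≃* Matrix.ProjectiveSpecialLinearGroup (Fin 2) F))

variable {G : Type u} [Group G] [Finite G] [IsSimpleGroup G]
  (h1 : {n : ℕ | n ∈ Set.range (orderOf : G → ℕ) ∧ 1 < n ∧ ¬ n.Prime}.Subsingleton)

include h1

omit [IsSimpleGroup G] in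
theorem eq_of_composite {a b : G} (ha1 : 1 < orderOf a) (ha : ¬ (orderOf a).Prime) (hb1 : 1 < orderOf b)
    (hb : ¬ (orderOf b).Prime) : orderOf a = orderOf b :=
  h1 ⟨⟨a, rfl⟩, ha1, ha⟩ ⟨⟨b, rfl⟩, hb1, hb⟩

omit [IsSimpleGroup G] in
theorem prime_or_eq {a : G} (ha1 : 1 < orderOf a) (ha : ¬ (orderOf a).Prime) (b : G) :
    orderOf b = 1 ∨ (orderOf b).Prime ∨ orderOf b = orderOf a := by
  by_cases hb1 : orderOf b = 1
  · exact Or.inl hb1
  by_cases hb : (orderOf b).Prime
  · exact Or.inr (Or.inl hb)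
  exact Or.inr (Or.inr (eq_of_composite h1 (by have := orderOf_pos b; omega) hb ha1 ha))

omit [IsSimpleGroup G] in
/-- A proper divisor, other than 1, of a composite order is prime. -/
theorem prime_of_proper {a : G} (ha1 : 1 < orderOf a) (ha : ¬ (orderOf a).Prime) {d : ℕ} (hd : d ∣ orderOf a)
    (hd1 : d ≠ 1) (hda : d ≠ orderOf a) : d.Prime := by
  have hd0 : d ≠ 0 := fun e => by rw [e, zero_dvd_iff] at hd; omega
  have ho : orderOf (a ^ (orderOf a / d)) = d := orderOf_pow_orderOf_div (orderOf_pos a).ne' hd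
  rcases prime_or_eq h1 ha1 ha (a ^ (orderOf a / d)) with h | h | h <;> rw [ho] at h
  · exact absurd h hd1
  · exact h
  · exact absurd h hda

theorem case_two_pow (hna : ¬ IsMulCommutative G) (h : ∀ x : G, 2 ∣ orderOf x → orderOf x = 2) :
    OneCompList G := by
  obtain ⟨F, i, j, n, hF, hn, h4, ⟨e⟩⟩ := psl_of_even_orders hna h
  rcases n with _ | _ | _ | n
  · rw [pow_zero] at hn; omega
  · norm_num at hn; omega
  · obtain ⟨f⟩ := Cfsg.Agent.S0252.result (F := F) (by rw [hn]; norm_num)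
    haveI : Fact (Nat.Prime 5) := ⟨by norm_num⟩
    obtain ⟨g⟩ := Cfsg.Agent.S0253.result (F := ZMod 5) (ZMod.card 5)
    exact Or.inl ⟨ZMod 5, inferInstance, inferInstance, Or.inl (ZMod.card 5), ⟨(e.trans f).trans g.symm⟩⟩
  set N := n + 3 with hN
  have h8 : 8 ≤ 2 ^ N := Nat.pow_le_pow_right two_pos (show 3 ≤ N by omega)
  have hodd : 2 ^ N % 2 = 0 := by rw [hN, pow_succ]; omega
  have hgcd : Nat.gcd 2 (Fintype.card F - 1) = 1 :=
    Nat.coprime_two_left.2 (Nat.odd_iff.2 (by rw [hn]; omega))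
  obtain ⟨a, ha⟩ := exists_order_of_iso h4 e (k := 2 ^ N - 1) (Or.inl (by rw [hgcd, Nat.div_one, hn]))
  obtain ⟨b, hb⟩ := exists_order_of_iso h4 e (k := 2 ^ N + 1) (Or.inr (by rw [hgcd, Nat.div_one, hn]))
  by_cases hp : (2 ^ N - 1).Prime
  · -- `q + 1` is three times a prime
    have h3 : 3 ∣ 2 ^ N + 1 := by
      rcases CIT.two_pow_mod_three N with h | h
      · have := (Nat.prime_dvd_prime_iff_eq Nat.prime_three hp).1 (Nat.dvd_of_mod_eq_zero (by omega))
        omega
      · exact Nat.dvd_of_mod_eq_zero (by omega)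
    have hbc : ¬ (orderOf b).Prime := fun hp' => by
      have := (Nat.prime_dvd_prime_iff_eq Nat.prime_three (hb ▸ hp' : (2 ^ N + 1).Prime)).1 h3
      omega
    refine Or.inr (Or.inr (Or.inr (Or.inr ⟨F, i, j, N, (2 ^ N + 1) / 3, hp, ?_, by omega, hn, ⟨e⟩⟩)))
    refine prime_of_proper h1 (a := b) (by omega) hbc ?_ (by omega) (by omega)
    exact hb.symm ▸ Nat.div_dvd_of_dvd h3
  · -- `q = 16`
    have hac : ¬ (orderOf a).Prime := ha.symm ▸ hp
    have hp' : (2 ^ N + 1).Prime := by
      rcases prime_or_eq h1 (a := a) (by omega) hac b with h | h | h <;> rw [hb] at h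
      · omega
      · exact h
      · rw [ha] at h; omega
    have h3 : 3 ∣ 2 ^ N - 1 := by
      rcases CIT.two_pow_mod_three N with h | h
      · exact Nat.dvd_of_mod_eq_zero (by omega)
      · have := (Nat.prime_dvd_prime_iff_eq Nat.prime_three hp').1 (Nat.dvd_of_mod_eq_zero (by omega))
        omega
    obtain ⟨k, hk⟩ : ∃ k, N = k + k := by
      by_contra hk
      obtain ⟨k, hk'⟩ : ∃ k, N = 2 * k + 1 := by
        rcases Nat.even_or_odd N with ⟨k, he⟩ | ho
        · exact absurd ⟨k, he⟩ hk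
        · exact ho
      have : 2 ^ N % 3 = 2 := by rw [hk', pow_succ, pow_mul, Nat.mul_mod, Nat.pow_mod]; norm_num
      omega
    have hk2 : 4 ≤ 2 ^ k := Nat.pow_le_pow_right two_pos (show 2 ≤ k by omega)
    have hmul : 2 ^ N - 1 = (2 ^ k - 1) * (2 ^ k + 1) := by
      rw [hk, pow_add, mul_comm (2 ^ k - 1), ← Nat.sq_sub_sq, one_pow, pow_two]
    have hr : ((2 ^ N - 1) / 3).Prime := by
      refine prime_of_proper h1 (a := a) (by omega) hac ?_ (by omega) (by omega)
      exact ha.symm ▸ Nat.div_dvd_of_dvd h3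
    rcases Nat.prime_three.dvd_mul.1 (hmul ▸ h3) with h | h <;> obtain ⟨c, hc⟩ := h
    · have e1 : (2 ^ N - 1) / 3 = c * (2 ^ k + 1) := by
        rw [hmul, hc, mul_assoc, Nat.mul_div_cancel_left _ (by norm_num)]
      rw [e1] at hr
      have hc1 : c = 1 := by
        by_contra hc1
        exact Nat.not_prime_mul hc1 (by omega) hr
      have hk4 : 2 ^ k = 2 ^ 2 := by norm_num; omega
      have := Nat.pow_right_injective le_rfl hk4
      exact Or.inl ⟨F, i, j, by
        right; right; right; right; right; right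
        rw [hn, hk, this]; norm_num, ⟨e⟩⟩
    · exfalso
      have e1 : (2 ^ N - 1) / 3 = (2 ^ k - 1) * c := by
        rw [hmul, hc, mul_left_comm, Nat.mul_div_cancel_left _ (by norm_num)]
      rw [e1] at hr
      exact Nat.not_prime_mul (by omega) (by omega) hr

theorem one_case_four (hna : ¬ IsMulCommutative G) {x : G} (hx : orderOf x = 4) : OneCompList G := by
  have h4 : ∀ y : G, orderOf y = 1 ∨ (orderOf y).Prime ∨ orderOf y = 4 := fun y => by
    simpa [hx] using prime_or_eq h1 (a := x) (by omega) (by rw [hx]; norm_num) y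
  have hcit : CIT.IsCIT G := by
    rintro t ht ⟨y, hy⟩
    refine ⟨2, Subtype.ext ?_⟩
    rw [SubgroupClass.coe_pow]
    show y ^ 2 ^ 2 = 1
    have hc : Commute t y := (mem_centralizer_singleton_iff.1 hy).symm
    rw [← orderOf_dvd_iff_pow_eq_one]
    by_cases h2 : 2 ∣ orderOf y
    · rcases h4 y with h | h | h
      · rw [h]; exact one_dvd _
      · rw [← (Nat.prime_dvd_prime_iff_eq Nat.prime_two h).1 h2]; norm_num
      · rw [h]; norm_num
    have h1' := hc.orderOf_mul_eq_mul_orderOf_of_coprime (by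
      rw [ht]; exact Nat.prime_two.coprime_iff_not_dvd.2 h2)
    rw [ht] at h1'
    rcases h4 (t * y) with h | h | h <;> rw [h1'] at h
    · omega
    · have := (Nat.prime_dvd_prime_iff_eq Nat.prime_two h).1 (dvd_mul_right 2 _)
      rw [show orderOf y = 1 by omega]; exact one_dvd _
    · omega
  rcases CIT.citListHolds G hna hcit with ⟨F, i, j, hl, ⟨e⟩⟩ | ⟨F, i, j, hF, he⟩ | hs
  · have hq4 := CIT.four_le_of_iso hna e
    refine Or.inl ⟨F, i, j, ?_, ⟨e⟩⟩
    rcases hl with h | ⟨n, hn⟩ | ⟨hp, k, hk⟩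
    · right; right; right; left; exact h
    · exfalso
      have hpos := Nat.two_pow_pos n
      have he2 : 2 ^ n % 2 = 0 := by
        rcases n with _ | n
        · rw [pow_zero] at hn; omega
        · rw [pow_succ]; omega
      rcases order_of_iso_two hn hq4 e x with h | h | h <;> rw [hx] at h
      · norm_num at h
      · have := (dvd_trans (by norm_num : 2 ∣ 4) h); omega
      · have := (dvd_trans (by norm_num : 2 ∣ 4) h); omega
    · have ho : Fintype.card F % 2 = 1 := by rcases hp.eq_two_or_odd with h | h <;> omega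
      have hgcd : Nat.gcd 2 (Fintype.card F - 1) = 2 := Nat.gcd_eq_left (by omega)
      rcases k with _ | k
      · rw [pow_zero] at hk; omega
      rw [pow_succ] at hk
      have hd : 2 ^ k ∣ (Fintype.card F - 1) / Nat.gcd 2 (Fintype.card F - 1) ∨
          2 ^ k ∣ (Fintype.card F + 1) / Nat.gcd 2 (Fintype.card F - 1) := by
        rw [hgcd]
        rcases hk with hk | hk
        · left; rw [show (Fintype.card F - 1) / 2 = 2 ^ k by omega]
        · right; rw [show (Fintype.card F + 1) / 2 = 2 ^ k by omega]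
      obtain ⟨y, hy⟩ := exists_order_of_iso hq4 e hd
      have hk2 : 2 ^ k = 1 ∨ 2 ^ k = 2 ∨ 2 ^ k = 4 := by
        rcases h4 y with h | h | h <;> rw [hy] at h
        · exact Or.inl h
        · right; left
          rcases k with _ | k
          · exact absurd h Nat.not_prime_one
          · exact ((Nat.prime_dvd_prime_iff_eq Nat.prime_two h).1 (dvd_pow_self 2 k.succ_ne_zero)).symm
        · exact Or.inr (Or.inr h)
      have hne : Fintype.card F ≠ 9 := fun h9 => by rw [h9] at hp; norm_num at hp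
      omega
  · exact Or.inr (Or.inl ⟨F, i, j, hF, he⟩)
  · obtain ⟨F, i, j, m, hm, hF, ⟨e⟩⟩ := CIT.suzukiIso G hna hcit hs
    obtain ⟨f, -⟩ := Cfsg.Lib.Linear.Suz.exists_lie_equiv (F := F) (m := m) ⟨hm, hF⟩
    set q := 2 ^ (2 * m + 1) with hq
    set r := 2 ^ (m + 1) with hr
    have hrq : 2 * r ≤ 2 * q := Nat.mul_le_mul_left 2 (Nat.pow_le_pow_right two_pos (by omega))
    have hr4 : 4 ≤ r := Nat.pow_le_pow_right two_pos (show 2 ≤ m + 1 by omega)
    have hrr : r * r = 2 * q := by rw [hr, hq, ← pow_add, ← pow_succ']; congr 1; omega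
    have h2r : 2 * r ≤ q := by nlinarith
    have hord : ∀ k ∈ ({q + r + 1, q - r + 1} : Set ℕ), k.Prime := by
      intro k hk
      obtain ⟨U, hU, hUc, -, -⟩ := Cfsg.Agent.S0333.result hm hF k hk
      haveI := hU
      obtain ⟨z, hz⟩ := IsCyclic.exists_ofOrder_eq_natCard (α := U)
      rw [hUc, ← orderOf_coe, ← MulEquiv.orderOf_eq (e.trans f.symm).symm] at hz
      have hev : q % 2 = 0 ∧ r % 2 = 0 := by rw [hq, hr, pow_succ, pow_succ]; omega
      rcases h4 ((e.trans f.symm).symm (z : _)) with h | h | h <;> rw [hz] at h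
      · rcases hk with rfl | rfl <;> omega
      · exact h
      · rcases hk with rfl | rfl <;> omega
    have hd5 : 5 ∣ (q + r + 1) * (q - r + 1) := by
      have hid : (q + r + 1) * (q - r + 1) = q ^ 2 + 1 := by
        obtain ⟨y, hy⟩ : ∃ y, q = y + r := ⟨q - r, by omega⟩
        rw [hy, Nat.add_sub_cancel]
        rw [hy] at hrr
        nlinarith
      rw [hid, hq, ← pow_mul, show (2 * m + 1) * 2 = 4 * m + 2 by ring]
      exact Nat.dvd_of_mod_eq_zero (by rw [pow_add, pow_mul, Nat.add_mod, Nat.mul_mod, Nat.pow_mod]; norm_num)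
    have h5 : q - r + 1 = 5 := by
      rcases (Nat.Prime.dvd_mul (by norm_num)).1 hd5 with h | h
      · have := (Nat.prime_dvd_prime_iff_eq (by norm_num) (hord _ (Or.inl rfl))).1 h
        omega
      · exact ((Nat.prime_dvd_prime_iff_eq (by norm_num) (hord _ (Or.inr rfl))).1 h).symm
    have hm1 : m = 1 := by
      have h' : r * r = 2 * (r + 4) := by omega
      have : r = 4 := by nlinarith
      have := Nat.pow_right_injective le_rfl (show 2 ^ (m + 1) = 2 ^ 2 by rw [← hr, this])
      omega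
    subst hm1
    exact Or.inr (Or.inr (Or.inl ⟨F, i, j, hF.trans (by norm_num), ⟨e⟩⟩))

theorem one_case_two_r (hna : ¬ IsMulCommutative G) {x : G} (hx2 : 2 ∣ orderOf x) (hne2 : orderOf x ≠ 2)
    (hne4 : orderOf x ≠ 4) : OneCompList G := by
  haveI : Fact (Nat.Prime 2) := ⟨Nat.prime_two⟩
  have hx1 : 1 < orderOf x := by have := Nat.le_of_dvd (orderOf_pos x) hx2; omega
  have hxc : ¬ (orderOf x).Prime := fun hp => hne2 ((Nat.prime_dvd_prime_iff_eq Nat.prime_two hp).1 hx2).symm
  obtain ⟨r, hr⟩ := hx2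
  have hrp : r.Prime := prime_of_proper h1 hx1 hxc ⟨2, by rw [hr, mul_comm]⟩ (by omega) (by omega)
  have hr2 : r ≠ 2 := fun e => hne4 (by omega)
  have hro : Odd r := hrp.odd_of_ne_two hr2
  have hsplit : ∀ y : G, orderOf y = 1 ∨ (orderOf y).Prime ∨ orderOf y = 2 * r := fun y => by
    rw [← hr]; exact prime_or_eq h1 hx1 hxc y
  have hH : Hyp G r := by
    refine ⟨hrp, hr2, fun t y ht hc => ?_, fun y hy => ?_⟩
    · rw [← orderOf_dvd_iff_pow_eq_one]
      by_cases h2 : 2 ∣ orderOf y
      · rcases hsplit y with h | h | h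
        · rw [h]; exact one_dvd _
        · rw [← (Nat.prime_dvd_prime_iff_eq Nat.prime_two h).1 h2]; exact dvd_mul_right 2 r
        · rw [h]
      have h1' := hc.orderOf_mul_eq_mul_orderOf_of_coprime (by
        rw [ht]; exact Nat.prime_two.coprime_iff_not_dvd.2 h2)
      rw [ht] at h1'
      rcases hsplit (t * y) with h | h | h <;> rw [h1'] at h
      · omega
      · have := (Nat.prime_dvd_prime_iff_eq Nat.prime_two h).1 (dvd_mul_right 2 _)
        rw [show orderOf y = 1 by omega]; exact one_dvd _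
      · rw [show orderOf y = r by omega]; exact dvd_mul_left r 2
    · rw [← orderOf_dvd_iff_pow_eq_one]
      rcases hsplit y with h | h | h
      · rw [h]; exact one_dvd _
      · rw [← (Nat.prime_dvd_prime_iff_eq hrp h).1 hy]; exact dvd_mul_left r 2
      · rw [h]
  obtain ⟨S⟩ : Nonempty (Sylow 2 G) := inferInstance
  have h8 : ¬ 8 ≤ Nat.card (S : Subgroup G) := by
    intro h8
    have ht : orderOf (x ^ r) = 2 := by
      rw [orderOf_pow_of_dvd hrp.ne_zero ⟨2, by rw [hr, mul_comm]⟩, hr, Nat.mul_div_cancel _ hrp.pos]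
    have := orderOf_dvd_of_pow_eq_one (hH.sq_eq_one_of_commute S h8 ht ((Commute.refl x).pow_left r))
    have := Nat.le_of_dvd two_pos this
    omega
  have h4 : 4 ∣ Nat.card G := by
    by_contra h
    exact GW.not_isSolvable_of_simple hna (GW.isSolvable_of_not_four_dvd h)
  have hS4 : Nat.card (S : Subgroup G) = 4 := by
    obtain ⟨n, hn⟩ := IsPGroup.iff_card.1 S.2
    have h4' : (2 : ℕ) ^ 2 ∣ Nat.card (S : Subgroup G) := by
      refine (Nat.Coprime.pow_left 2 (Nat.prime_two.coprime_iff_not_dvd.2 S.not_dvd_index)).dvd_of_dvd_mul_right ?_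
      rw [card_mul_index]
      simpa using h4
    have := Nat.le_of_dvd Nat.card_pos h4'
    have hn3 : n < 3 := by
      by_contra hc
      exact h8 (hn ▸ Nat.pow_le_pow_right two_pos (show 3 ≤ n by omega))
    rw [hn] at this ⊢
    interval_cases n <;> omega
  obtain ⟨F, i, j, h3, hq8, ⟨e⟩⟩ := psl_of_sylow_four hna S hS4 (fun y hy => hH.sylow_sq S hy)
  set q := Fintype.card F with hq
  have hgcd : Nat.gcd 2 (q - 1) = 2 := Nat.gcd_eq_left (by omega)
  have hord : ∀ k, k = (q - 1) / 2 ∨ k = (q + 1) / 2 → k = 1 ∨ k.Prime ∨ k = 2 * r := by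
    intro k hk
    obtain ⟨y, hy⟩ := exists_order_of_iso (k := k) (by omega : 4 ≤ Fintype.card F) e
      (by rw [← hq, hgcd]; rcases hk with rfl | rfl <;> simp)
    simpa [hy] using hsplit y
  obtain ⟨p, hpp, -, n, hn0, hn⟩ := Cfsg.Lib.Dickson.exists_char (F := F)
  rw [← hq] at hn
  have hev : ∀ k, k % 2 = 0 → 2 < k → (k = 1 ∨ k.Prime ∨ k = 2 * r) → k = 2 * r := by
    intro k hk hk2 h
    rcases h with h | h | h
    · omega
    · rcases h.eq_two_or_odd with h | h <;> omega
    · exact h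
  have hod : ∀ k, k % 2 = 1 → 1 < k → (k = 1 ∨ k.Prime ∨ k = 2 * r) → k.Prime := by
    intro k hk hk2 h
    rcases h with h | h | h
    · omega
    · exact h
    · omega
  by_cases hp3 : p = 3
  · subst hp3
    have h38 := CIT.three_pow_mod_eight n
    rw [← hn] at h38
    have hq9 : 9 ≤ q := by
      rcases n with _ | _ | n
      · simp at hn; omega
      · norm_num at hn; omega
      · rw [hn, pow_succ, pow_succ]; have := Nat.one_le_pow n 3 (by norm_num); omega
    have hb := hev _ (by omega) (by omega) (hord ((q + 1) / 2) (Or.inr rfl))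
    refine Or.inr (Or.inr (Or.inr (Or.inl ⟨F, i, j, n, (q - 1) / 2, r,
      hod _ (by omega) (by omega) (hord _ (Or.inl rfl)), hrp, ?_, ?_, hn, ⟨e⟩⟩)))
    · rw [← hn]; omega
    · rw [← hn]; omega
  · refine Or.inl ⟨F, i, j, ?_, ⟨e⟩⟩
    have h3n : q % 3 ≠ 0 := fun h => hp3 ((Nat.prime_dvd_prime_iff_eq Nat.prime_three hpp).1
      (Nat.prime_three.dvd_of_dvd_pow (Nat.dvd_of_mod_eq_zero (hn ▸ h)))).symm
    have key : ∀ k, (k = (q - 1) / 2 ∨ k = (q + 1) / 2) → k % 3 = 0 → k = 3 ∨ k = 6 := by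
      intro k hk hk3
      rcases hord k hk with h | h | h
      · omega
      · exact Or.inl ((Nat.prime_dvd_prime_iff_eq Nat.prime_three h).1 (Nat.dvd_of_mod_eq_zero hk3)).symm
      · right
        have := (Nat.prime_dvd_prime_iff_eq Nat.prime_three hrp).1
          (Nat.dvd_of_mod_eq_zero (by omega : r % 3 = 0))
        omega
    rcases (by omega : q % 6 = 1 ∨ q % 6 = 5) with h | h
    · rcases key _ (Or.inl rfl) (by omega) with h | h <;> omega
    · rcases key _ (Or.inr rfl) (by omega) with h | h <;> omega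

theorem oneComposite (hna : ¬ IsMulCommutative G) : OneCompList G := by
  by_cases h : ∀ x : G, 2 ∣ orderOf x → orderOf x = 2
  · exact case_two_pow h1 hna h
  push Not at h
  obtain ⟨x, hx, hx2⟩ := h
  by_cases hx4 : orderOf x = 4
  · exact one_case_four h1 hna hx4
  · exact one_case_two_r h1 hna hx hx2 hx4

end Cfsg.Lib.CompOrd
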