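import Cfsg.Agent.Lib.CompositeOrder.TwoOrders
import Cfsg.Agent.Lib.CompositeOrder.Automizer
import Cfsg.Agent.Lib.CompositeOrder.Norm
import Cfsg.Agent.Lib.CIT.Quot.Structure
import Cfsg.Agent.Lib.CIT.Quot.Lift
import Cfsg.Agent.Lib.Kazarin.Radical
import Cfsg.Agent.Lib.Local.Baumann.Setup
import Cfsg.Agent.Lib.Fusion.Abelian
import Cfsg.Agent.S0215

/-!
Reductions: solvable normal subgroups of non-solvable groups with small involution centralizers, and the
simple minimal normal subgroup.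
-/

set_option autoImplicit false
set_option linter.style.haveILetI false

namespace Cfsg.Lib.CompOrd

open Subgroup
open Cfsg.Lib

universe u

variable {G : Type u} [Group G] [Finite G]

theorem exists_involution (hns : ¬ Group.IsSolvable G) : ∃ t : G, orderOf t = 2 := by
  haveI : Fact (Nat.Prime 2) := ⟨Nat.prime_two⟩
  refine exists_prime_orderOf_dvd_card' 2 ?_
  by_contra h
  exact hns (Cfsg.Agent.S0205.result (Nat.odd_iff.2 (by omega)))

theorem solvable_centralizer_of_cit (hG : CIT.IsCIT G) {t : G} (ht : orderOf t = 2) :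
    Group.IsSolvable (centralizer ({t} : Set G)) := by
  haveI : Fact (Nat.Prime 2) := ⟨Nat.prime_two⟩
  haveI := (hG t ht).isNilpotent
  infer_instance

omit [Finite G] in
theorem isSolvable_of_le' {H K : Subgroup G} (hle : H ≤ K) (hK : Group.IsSolvable K) : Group.IsSolvable H := by
  haveI := hK
  exact Group.isSolvable_of_isSolvable_injective (f := Subgroup.inclusion hle) (Subgroup.inclusion_injective hle)

/-- A CIT group that is not solvable has trivial odd core. -/
theorem oddCore_eq_bot_of_cit (hns : ¬ Group.IsSolvable G) (hG : CIT.IsCIT G) : Cfsg.oddCore G = ⊥ := by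
  haveI : Fact (Nat.Prime 2) := ⟨Nat.prime_two⟩
  by_contra hO
  obtain ⟨S⟩ : Nonempty (Sylow 2 G) := inferInstance
  have hSne : (S : Subgroup G) ≠ ⊥ := fun e => GW.not_isCyclic_sylow hns S (by rw [e]; infer_instance)
  obtain ⟨z₀, -, hz₀c, hz₀o⟩ := by
    haveI : Nontrivial ↥(S : Subgroup G) := (nontrivial_iff_ne_bot _).2 hSne
    exact PGroup.exists_mem_center_orderOf_eq S.2 (N := (⊤ : Subgroup ↥(S : Subgroup G))) top_ne_bot
  set z := (z₀ : G)
  have hzo : orderOf z = 2 := by rw [show z = (z₀ : G) from rfl, Subgroup.orderOf_coe, hz₀o]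
  have hiso : ∀ g : G, g * z * g⁻¹ ∈ S → g * z * g⁻¹ = z := fun g hg =>
    CIT.eq_of_commute_of_oddCore hG hO (by rw [Invol.orderOf_conj_eq, hzo]) hzo
      (congrArg Subtype.val (mem_center_iff.1 hz₀c ⟨_, hg⟩))
  obtain ⟨N, hN, hNodd, hNz⟩ := Cfsg.Agent.S0215.result S z hzo z₀.2 hiso
  haveI := hN
  set L := N ⊔ zpowers z
  have hLs : Group.IsSolvable L := by
    rw [show L = zpowers z ⊔ N from sup_comm _ _]
    exact Kazarin.isSolvable_normal_sup _ _ inferInstance (Cfsg.Agent.S0205.result hNodd)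
  haveI : L.Normal := by
    refine ⟨fun x hx g => ?_⟩
    obtain ⟨n, hn, y, hy, rfl⟩ := mem_sup_of_normal_left.1 hx
    obtain ⟨i, rfl⟩ := mem_zpowers_iff.1 hy
    have hgz : g * z * g⁻¹ ∈ L := by
      have h1 : z * g * z⁻¹ * g⁻¹ ∈ L := mem_sup_left (hNz g)
      have h2 : z⁻¹ * (z * g * z⁻¹ * g⁻¹) ∈ L := mul_mem (inv_mem (mem_sup_right (mem_zpowers z))) h1
      have h3 : g * z * g⁻¹ = (z⁻¹ * (z * g * z⁻¹ * g⁻¹))⁻¹⁻¹ * 1 := by
        rw [inv_inv, mul_one, CIT.inv_eq_self_of_two hzo]
        have hzz : z * z = 1 := mul_self_invol hzo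
        rw [← mul_assoc z, ← mul_assoc z, ← mul_assoc z, hzz, one_mul]
      rw [h3, inv_inv, mul_one]
      exact h2
    rw [show g * (n * z ^ i) * g⁻¹ = g * n * g⁻¹ * (g * z * g⁻¹) ^ i by rw [conj_zpow]; group]
    exact mul_mem (mem_sup_left (hN.conj_mem n hn g)) (zpow_mem hgz i)
  have hC := solvable_centralizer_of_cit hG hzo
  have htop : centralizer ({z} : Set G) ⊔ L = ⊤ := by
    refine (Subgroup.eq_top_iff' _).2 fun g => ?_
    -- `⟨z⟩` is a Sylow subgroup of `L`
    have hzL : zpowers z ≤ L := le_sup_right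
    have hp : IsPGroup 2 ↥((zpowers z).subgroupOf L) := (IsPGroup.of_card (p := 2) (n := 1)
      (by rw [Nat.card_zpowers, hzo, pow_one]) : IsPGroup 2 (zpowers z)).of_equiv
        (subgroupOfEquivOfLe hzL).symm
    have hidx : ¬ 2 ∣ ((zpowers z).subgroupOf L).index := by
      intro h2
      have h1 := ((zpowers z).subgroupOf L).card_mul_index
      rw [Nat.card_congr (subgroupOfEquivOfLe hzL).toEquiv, Nat.card_zpowers, hzo] at h1
      have h4 : 4 ∣ Nat.card L := h1 ▸ Nat.mul_dvd_mul_left 2 h2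
      have hb : Nat.card (zpowers z : Subgroup G) * Nat.card N % 4 ≠ 0 := by
        rw [Nat.card_zpowers, hzo]
        have := Nat.odd_iff.1 hNodd
        omega
      refine hb (Nat.mod_eq_zero_of_dvd ?_)
      exact h4.trans (by
        have := Local.Baumann.card_sup_mul_inf (A := N) (B := zpowers z)
          (by rw [normalizer_eq_top_iff.2 hN]; exact le_top)
        exact ⟨_, by rw [mul_comm (Nat.card (zpowers z : Subgroup G)), ← this]⟩)
    have h := Sylow.normalizer_sup_eq_top (hp.toSylow hidx)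
    rw [IsPGroup.toSylow_coe, subgroupOf_map_subtype, inf_of_le_left hzL] at h
    obtain ⟨a, ha, b, hb, rfl⟩ := mem_sup_of_normal_right.1 (h.symm ▸ mem_top g)
    refine mul_mem (mem_sup_left (mem_centralizer_singleton_iff.2 ?_)) (mem_sup_right hb)
    have h1 := (mem_normalizer_iff.1 ha z).1 (mem_zpowers z)
    obtain ⟨i, hi⟩ := mem_zpowers_iff.1 h1
    rcases Int.even_or_odd i with ⟨j, hj⟩ | ⟨j, hj⟩
    · exfalso
      rw [hj, ← two_mul, zpow_mul, show z ^ (2 : ℤ) = 1 by exact_mod_cast sq_invol hzo, one_zpow] at hi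
      have h2 : z = 1 := conj_eq_one_iff.1 hi.symm
      rw [h2, orderOf_one] at hzo
      omega
    · rw [hj, zpow_add, zpow_mul, show z ^ (2 : ℤ) = 1 by exact_mod_cast sq_invol hzo, one_zpow, one_mul,
        zpow_one] at hi
      exact mul_inv_eq_iff_eq_mul.1 hi.symm
  have h1 := Kazarin.isSolvable_normal_sup (centralizer ({z} : Set G)) L hC hLs
  rw [htop] at h1
  exact hns (Group.isSolvable_of_surjective (f := (topEquiv : _ ≃* G).toMonoidHom) topEquiv.surjective)

theorem isCIT_quotient_pCore (hG : CIT.IsCIT G) : CIT.IsCIT (G ⧸ Cfsg.pCore 2 G) :=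
  hG.quotient _ (Core.pCore_isPGroup 2 G)

theorem not_isSolvable_quotient_pCore (hns : ¬ Group.IsSolvable G) :
    ¬ Group.IsSolvable (G ⧸ Cfsg.pCore 2 G) := fun h => hns (by
  haveI : Fact (Nat.Prime 2) := ⟨Nat.prime_two⟩
  haveI := h
  haveI := (Core.pCore_isPGroup 2 G).isNilpotent
  haveI : Group.IsSolvable (QuotientGroup.mk' (Cfsg.pCore 2 G)).ker := by
    rw [QuotientGroup.ker_mk']; infer_instance
  exact Group.isSolvable_of_ker_le_range (Cfsg.pCore 2 G).subtype (QuotientGroup.mk' (Cfsg.pCore 2 G))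
    (by rw [QuotientGroup.ker_mk', range_subtype]))

/-- Modulo the 2-core a CIT group that is not solvable has no solvable normal subgroup. -/
theorem solvable_normal_eq_bot_of_cit (hns : ¬ Group.IsSolvable G) (hG : CIT.IsCIT G)
    (h2 : Cfsg.pCore 2 G = ⊥) {N : Subgroup G} [hN : N.Normal] (hs : Group.IsSolvable N) : N = ⊥ := by
  by_contra hne
  obtain ⟨V, hV, hVN⟩ := Core.exists_isMinNormal hN hne
  obtain ⟨-, p, hp, -, hVp⟩ := Core.minimal_solvable_elementary hV (isSolvable_of_le' hVN hs)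
  haveI := Fact.mk hp
  haveI := hV.1
  by_cases hp2 : p = 2
  · subst hp2
    exact hV.2.1 (le_bot_iff.1 (h2 ▸ Core.le_pCore hVp))
  · obtain ⟨k, hk⟩ := IsPGroup.iff_card.1 hVp
    have hc : (Nat.card V).Coprime 2 := by
      rw [hk]; exact Nat.Coprime.pow_left k ((Nat.coprime_primes hp Nat.prime_two).2 hp2)
    exact hV.2.1 (le_bot_iff.1 (oddCore_eq_bot_of_cit hns hG ▸ Core.le_pPrimeCore hc))

namespace Hyp

variable {r : ℕ} (h : Hyp G r)
include h

theorem pCore_two_eq_bot (hns : ¬ Group.IsSolvable G) : Cfsg.pCore 2 G = ⊥ := by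
  haveI : Fact (Nat.Prime 2) := ⟨Nat.prime_two⟩
  by_contra hne
  obtain ⟨S⟩ : Nonempty (Sylow 2 G) := inferInstance
  obtain ⟨t, htV, ht1⟩ := (bot_or_exists_ne_one _).resolve_left hne
  set V := Cfsg.pCore 2 G
  haveI hVn : V.Normal := inferInstance
  have htS : t ∈ (S : Subgroup G) := Core.pCore_le_sylow S htV
  have hSC : (S : Subgroup G) ≤ centralizer (V : Set G) := fun s hs =>
    mem_centralizer_iff.2 fun v hv => (h.commute_of_mem S (Core.pCore_le_sylow S hv) hs).eq
  have hle : centralizer (V : Set G) ≤ centralizer ({t} : Set G) :=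
    Subgroup.centralizer_le (Set.singleton_subset_iff.2 htV)
  haveI := isSolvable_of_le' hle (h.solvable_centralizer (h.orderOf_of_mem_sylow S htS ht1))
  refine hns ?_
  haveI : Group.IsSolvable (G ⧸ centralizer (V : Set G)) := Cfsg.Agent.S0205.result (Nat.odd_iff.2 (by
    rw [← Subgroup.index_eq_card]
    have h1 : ¬ 2 ∣ (centralizer (V : Set G)).index := fun hd =>
      S.not_dvd_index (hd.trans (index_dvd_of_le hSC))
    omega))
  exact Group.isSolvable_of_ker_le_range (centralizer (V : Set G)).subtype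
    (QuotientGroup.mk' (centralizer (V : Set G)))
    (by rw [QuotientGroup.ker_mk', range_subtype])

theorem isPGroup_of_minNormal (hns : ¬ Group.IsSolvable G) {V : Subgroup G} (hV : Core.IsMinNormal V)
    (hs : Group.IsSolvable V) : IsPGroup r V := by
  haveI : Fact (Nat.Prime 2) := ⟨Nat.prime_two⟩
  obtain ⟨hVc, p, hp, hVe, hVp⟩ := Core.minimal_solvable_elementary hV hs
  haveI := Fact.mk hp
  haveI := hV.1
  by_cases hp2 : p = 2
  · subst hp2
    exact absurd (le_bot_iff.1 (h.pCore_two_eq_bot hns ▸ Core.le_pCore hVp)) hV.2.1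
  by_cases hpr : p = r
  · exact hpr ▸ hVp
  exfalso
  -- every involution inverts `V`
  have hinv : ∀ t : G, orderOf t = 2 → ∀ v ∈ V, t * v * t⁻¹ = v⁻¹ := by
    intro t ht v hv
    have hw : v * (t * v * t⁻¹) ∈ V := mul_mem hv (hV.1.conj_mem v hv t)
    have hcv : Commute v (t * v * t⁻¹) :=
      congrArg Subtype.val (hVc.is_comm.comm ⟨v, hv⟩ ⟨_, hV.1.conj_mem v hv t⟩)
    have hc : Commute t (v * (t * v * t⁻¹)) := by
      have htt := mul_self_invol ht
      show t * (v * (t * v * t⁻¹)) = v * (t * v * t⁻¹) * t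
      calc t * (v * (t * v * t⁻¹)) = (t * v * t⁻¹) * (t * t) * v * t⁻¹ := by group
        _ = (t * v * t⁻¹) * v * t⁻¹ := by rw [htt, mul_one]
        _ = v * (t * v * t⁻¹) * t⁻¹ := by rw [hcv.eq]
        _ = _ := by rw [CIT.inv_eq_self_of_two ht]
    have h1 := h.centT t _ ht hc
    have h2 := hVe _ hw
    have h3 : v * (t * v * t⁻¹) = 1 := by
      rw [← orderOf_eq_one_iff]
      refine Nat.Coprime.eq_one_of_dvd ?_ (orderOf_dvd_of_pow_eq_one h1)
      refine Nat.Coprime.coprime_dvd_left (orderOf_dvd_of_pow_eq_one h2) (Nat.Coprime.mul_right ?_ ?_)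
      · exact (Nat.coprime_primes hp Nat.prime_two).2 hp2
      · exact (Nat.coprime_primes hp h.prime).2 hpr
    exact eq_inv_of_mul_eq_one_right h3
  obtain ⟨S⟩ : Nonempty (Sylow 2 G) := inferInstance
  have hnc := GW.not_isCyclic_sylow hns S
  obtain ⟨t, ht, ht1⟩ := (bot_or_exists_ne_one (S : Subgroup G)).resolve_left fun e => hnc (by
    rw [e]; infer_instance)
  obtain ⟨w, hw, hwt⟩ : ∃ w ∈ (S : Subgroup G), w ∉ zpowers t := by
    by_contra hall
    push Not at hall
    refine hnc (isCyclic_iff_exists_zpowers_eq_top.2 ⟨⟨t, ht⟩, (Subgroup.eq_top_iff' _).2 fun x => ?_⟩)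
    obtain ⟨i, hi⟩ := mem_zpowers_iff.1 (hall x x.2)
    exact ⟨i, Subtype.ext (by rw [SubgroupClass.coe_zpow]; exact hi)⟩
  have hw1 : w ≠ 1 := fun e => hwt (e ▸ one_mem _)
  have htw : w * t ≠ 1 := fun e => hwt (by rw [eq_inv_of_mul_eq_one_left e]; exact inv_mem (mem_zpowers t))
  obtain ⟨v, hv, hv1⟩ := (bot_or_exists_ne_one V).resolve_left hV.2.1
  have h3 := hinv _ (h.orderOf_of_mem_sylow S (mul_mem hw ht) htw) v hv
  rw [show w * t * v * (w * t)⁻¹ = w * (t * v * t⁻¹) * w⁻¹ by group,
    hinv t (h.orderOf_of_mem_sylow S ht ht1) v hv,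
    show w * v⁻¹ * w⁻¹ = (w * v * w⁻¹)⁻¹ by group, hinv w (h.orderOf_of_mem_sylow S hw hw1) v hv, inv_inv,
    eq_inv_iff_mul_eq_one, ← pow_two] at h3
  have h4 := orderOf_dvd_of_pow_eq_one h3
  rw [orderOf_eq_prime (hVe v hv) hv1] at h4
  exact hp2 ((Nat.prime_dvd_prime_iff_eq hp Nat.prime_two).1 h4)

/-- A group satisfying the hypothesis that is not solvable has no solvable normal subgroup. -/
theorem solvable_normal_eq_bot (hns : ¬ Group.IsSolvable G) {N : Subgroup G} [hN : N.Normal]
    (hs : Group.IsSolvable N) : N = ⊥ := by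
  classical
  haveI : Fact (Nat.Prime 2) := ⟨Nat.prime_two⟩
  haveI := Fact.mk h.prime
  by_contra hne
  obtain ⟨V, hV, hVN⟩ := Core.exists_isMinNormal hN hne
  have hVr := h.isPGroup_of_minNormal hns hV (isSolvable_of_le' hVN hs)
  haveI := hV.1
  set W := Cfsg.pCore r G
  haveI hWn : W.Normal := inferInstance
  have hWp : IsPGroup r W := Core.pCore_isPGroup r G
  obtain ⟨x₀, hx₀, hx₀1⟩ := (bot_or_exists_ne_one V).resolve_left hV.2.1
  have hx₀W : x₀ ∈ W := Core.le_pCore hVr hx₀
  have hr_pow : ∀ x ∈ W, x ^ r = 1 := by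
    intro x hx
    obtain ⟨k, hk⟩ := hWp ⟨x, hx⟩
    have hk' : x ^ r ^ k = 1 := congrArg Subtype.val hk
    obtain ⟨i, -, hi⟩ := (Nat.dvd_prime_pow h.prime).1 (orderOf_dvd_of_pow_eq_one hk')
    rcases i with _ | i
    · rw [orderOf_eq_one_iff.1 (hi.trans (pow_zero r)), one_pow]
    exact h.pow_r_of_odd (h.centR x (hi ▸ dvd_pow_self r i.succ_ne_zero)) (by rw [hi]; exact h.odd_r.pow)
  -- an element of odd prime order moving a Sylow 2-subgroup
  obtain ⟨S⟩ : Nonempty (Sylow 2 G) := inferInstance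
  obtain ⟨y, hyS, s, hs', hys, hyC⟩ : ∃ y ∈ normalizer ((S : Subgroup G) : Set G), ∃ s : ℕ,
      (s.Prime ∧ s ≠ 2) ∧ y ^ s = 1 ∧ y ∉ centralizer ((S : Subgroup G) : Set G) := by
    by_contra hall
    push Not at hall
    -- then the Sylow subgroup is central in its normalizer
    have hcent : normalizer ((S : Subgroup G) : Set G) ≤ centralizer ((S : Subgroup G) : Set G) := by
      intro g hg
      set k := (orderOf g).factorization 2
      obtain ⟨m, hm⟩ : 2 ^ k ∣ orderOf g := Nat.ordProj_dvd _ 2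
      have hm2 : ¬ 2 ∣ m := by
        have := Nat.not_dvd_ordCompl Nat.prime_two (orderOf_pos g).ne'
        rwa [show orderOf g / 2 ^ k = m by rw [hm, Nat.mul_div_cancel_left _ (Nat.two_pow_pos k)]] at this
      set u := g ^ 2 ^ k
      have huo : orderOf u = m := by
        rw [orderOf_pow_of_dvd (Nat.two_pow_pos k).ne' ⟨m, hm⟩, hm, Nat.mul_div_cancel_left _ (Nat.two_pow_pos k)]
      have huN : u ∈ normalizer ((S : Subgroup G) : Set G) := pow_mem hg _
      have hu : u ∈ centralizer ((S : Subgroup G) : Set G) := by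
        rcases eq_or_ne u 1 with e | hu1
        · rw [e]; exact one_mem _
        by_cases hrd : r ∣ orderOf u
        · exact hall u huN r ⟨h.prime, h.ne_two⟩ (h.pow_r_of_odd (h.centR u hrd)
            (by rw [huo]; exact Nat.odd_iff.2 (by omega)))
        exfalso
        obtain ⟨s, hs', hsd⟩ := Nat.exists_prime_and_dvd (n := orderOf u) fun e => hu1 (orderOf_eq_one_iff.1 e)
        have hs2 : s ≠ 2 := fun e => hm2 (huo ▸ e ▸ hsd)
        have hso := orderOf_pow_orderOf_div (orderOf_pos u).ne' hsd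
        have hc := hall (u ^ (orderOf u / s)) (pow_mem huN _) s ⟨hs', hs2⟩ (by
          nth_rw 2 [← hso]; exact pow_orderOf_eq_one _)
        obtain ⟨t, ht, ht1⟩ := (bot_or_exists_ne_one (S : Subgroup G)).resolve_left fun e =>
          GW.not_isCyclic_sylow hns S (by rw [e]; infer_instance)
        have h1 := orderOf_dvd_of_pow_eq_one
          (h.centT t _ (h.orderOf_of_mem_sylow S ht ht1) (mem_centralizer_iff.1 hc t ht))
        rw [hso] at h1
        rcases hs'.dvd_mul.1 h1 with h2 | h2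
        · exact hs2 ((Nat.prime_dvd_prime_iff_eq hs' Nat.prime_two).1 h2)
        · exact hrd ((Nat.prime_dvd_prime_iff_eq hs' h.prime).1 h2 ▸ hsd)
      -- the 2-part lies in the Sylow subgroup
      have h2 : g ^ m ∈ centralizer ((S : Subgroup G) : Set G) := by
        have hv : (g ^ m) ^ 2 ^ k = 1 := by rw [← pow_mul, mul_comm, ← hm, pow_orderOf_eq_one]
        exact mem_centralizer_iff.2 fun x hx => (h.commute_of_mem S hx
          (h.mem_sylow_of_mem_normalizer S (pow_mem hg m) (h.sq_eq_one hv))).eq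
      obtain ⟨a, b, hab⟩ : ∃ a b : ℤ, a * (2 ^ k : ℕ) + b * m = 1 := by
        have hco : IsCoprime ((2 ^ k : ℕ) : ℤ) (m : ℤ) :=
          Nat.isCoprime_iff_coprime.2 (Nat.Coprime.pow_left k (Nat.prime_two.coprime_iff_not_dvd.2 hm2))
        exact hco
      rw [show g = u ^ a * (g ^ m) ^ b by
        rw [show u ^ a = g ^ (((2 ^ k : ℕ) : ℤ) * a) by rw [zpow_mul, zpow_natCast],
          show (g ^ m) ^ b = g ^ ((m : ℤ) * b) by rw [zpow_mul, zpow_natCast], ← zpow_add, mul_comm _ a,
          mul_comm _ b, hab, zpow_one]]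
      exact mul_mem (zpow_mem hu a) (zpow_mem h2 b)
    exact hns (GW.isSolvable_of_complement (Fusion.hasNormalPComplement_of_normalizer_le_centralizer S hcent))
  -- `[S, y]`
  have hy2 : Odd s := hs'.1.odd_of_ne_two hs'.2
  let f : ↥(S : Subgroup G) →* ↥(S : Subgroup G) :=
    { toFun := fun a => a * ⟨y * (a : G) * y⁻¹, (mem_normalizer_iff.1 hyS a).1 a.2⟩
      map_one' := Subtype.ext (by simp)
      map_mul' := fun a b => Subtype.ext (by
        have hc := h.commute_of_mem S b.2 ((mem_normalizer_iff.1 hyS (a : G)).1 a.2)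
        show (a : G) * b * (y * ((a : G) * b) * y⁻¹) = (a : G) * (y * a * y⁻¹) * ((b : G) * (y * b * y⁻¹))
        calc (a : G) * b * (y * ((a : G) * b) * y⁻¹)
            = (a : G) * ((b : G) * (y * a * y⁻¹)) * (y * b * y⁻¹) := by group
          _ = (a : G) * ((y * a * y⁻¹) * b) * (y * b * y⁻¹) := by rw [hc.eq]
          _ = _ := by group) }
  set A := f.range.map (S : Subgroup G).subtype
  have hAS : A ≤ (S : Subgroup G) := map_subtype_le _
  have hA : ∀ a ∈ A, ∃ b ∈ (S : Subgroup G), a = b * (y * b * y⁻¹) := by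
    rintro _ ⟨_, ⟨b, rfl⟩, rfl⟩
    exact ⟨b, b.2, rfl⟩
  have hyA : ∀ a ∈ A, y * a * y⁻¹ ∈ A := by
    intro a ha
    obtain ⟨b, hb, rfl⟩ := hA a ha
    refine ⟨f ⟨y * b * y⁻¹, (mem_normalizer_iff.1 hyS b).1 hb⟩, ⟨_, rfl⟩, ?_⟩
    show y * b * y⁻¹ * (y * (y * b * y⁻¹) * y⁻¹) = _
    group
  have hpow : ∀ (i : ℕ) (b : G), b ∈ (S : Subgroup G) → y ^ i * b * (y ^ i)⁻¹ ∈ (S : Subgroup G) := fun i b hb =>
    (mem_normalizer_iff.1 (pow_mem hyS i) b).1 hb
  have hfpf : ∀ a ∈ A, Commute a y → a = 1 := by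
    intro a ha hc
    obtain ⟨b, hb, hab⟩ := hA a ha
    -- `a = b * y b y⁻¹` is the same after conjugating by powers of `y`
    have key : ∀ i : ℕ, y ^ i * b * (y ^ i)⁻¹ = if Even i then b else b * a := by
      intro i
      induction i with
      | zero => simp
      | succ i ih =>
        rw [show y ^ (i + 1) * b * (y ^ (i + 1))⁻¹ = y * (y ^ i * b * (y ^ i)⁻¹) * y⁻¹ by rw [pow_succ']; group, ih]
        have hyb : y * b * y⁻¹ = b * a := by
          rw [hab, ← mul_assoc b b, ← pow_two, h.sylow_sq S hb, one_mul]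
        by_cases he : Even i
        · rw [if_pos he, if_neg (by simp [Nat.even_add_one, he]), hyb]
        · rw [if_neg he, if_pos (by simp [Nat.even_add_one, he]),
            show y * (b * a) * y⁻¹ = y * b * y⁻¹ * (y * a * y⁻¹) by group, hyb, ← hc.eq,
            mul_inv_cancel_right, mul_assoc, ← pow_two, h.sylow_sq S (hAS ha), mul_one]
    have h1 := key s
    rw [hys, one_mul, inv_one, mul_one, if_neg (Nat.not_even_iff_odd.2 hy2)] at h1
    exact left_eq_mul.1 h1
  have hA1 : ∃ a ∈ A, a ≠ 1 := by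
    by_contra hall
    push Not at hall
    refine hyC (mem_centralizer_iff.2 fun b hb => ?_)
    have h1 := hall _ ⟨f ⟨b, hb⟩, ⟨_, rfl⟩, rfl⟩
    have h1' : b * (y * b * y⁻¹) = 1 := h1
    have h2 : y * b * y⁻¹ = b := by
      rw [eq_inv_of_mul_eq_one_right h1', inv_eq_iff_mul_eq_one, ← pow_two, h.sylow_sq S hb]
    exact (mul_inv_eq_iff_eq_mul.1 h2).symm
  haveI : IsMulCommutative A := ⟨⟨fun a b => Subtype.ext (h.commute_of_mem S (hAS a.2) (hAS b.2)).eq⟩⟩
  have hco : (Nat.card A).Coprime (Nat.card W) := by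
    obtain ⟨i, hi⟩ := IsPGroup.iff_card.1 (S.2.to_le hAS)
    obtain ⟨j, hj⟩ := IsPGroup.iff_card.1 hWp
    rw [hi, hj]
    exact Nat.Coprime.pow i j ((Nat.coprime_primes Nat.prime_two h.prime).2 (Ne.symm h.ne_two))
  have hexp : ∀ v ∈ W, (v * y) ^ s = 1 := by
    intro v hv
    have hWs : (v * y) ^ s ∈ W := by
      rw [← QuotientGroup.eq_one_iff, QuotientGroup.mk_pow, QuotientGroup.mk_mul,
        (QuotientGroup.eq_one_iff v).2 hv, one_mul, ← QuotientGroup.mk_pow, hys, QuotientGroup.mk_one]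
    have h1 : (v * y) ^ (s * r) = 1 := by rw [pow_mul, hr_pow _ hWs]
    by_cases hrd : r ∣ orderOf (v * y)
    · have hodd : Odd (orderOf (v * y)) := (hy2.mul h.odd_r).of_dvd_nat (orderOf_dvd_of_pow_eq_one h1)
      have h3 := h.pow_r_of_odd (h.centR _ hrd) hodd
      by_cases hsr : s = r
      · rwa [hsr]
      exfalso
      have hy1 : y ≠ 1 := fun e => hyC (e ▸ one_mem _)
      refine hy1 (orderOf_eq_one_iff.1 (Nat.Coprime.eq_one_of_dvd ((Nat.coprime_primes hs'.1 h.prime).2 hsr |>.coprime_dvd_left (orderOf_dvd_of_pow_eq_one hys)) ?_))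
      -- the image of `v * y` modulo `W`
      have h4 : y ^ r ∈ W := by
        rw [← QuotientGroup.eq_one_iff, QuotientGroup.mk_pow]
        have := congrArg (QuotientGroup.mk' W) h3
        rwa [map_pow, map_mul, map_one, show QuotientGroup.mk' W v = 1 from (QuotientGroup.eq_one_iff v).2 hv,
          one_mul] at this
      have h5 := hr_pow _ h4
      rw [← pow_mul] at h5
      exact (((Nat.coprime_primes hs'.1 h.prime).2 hsr).coprime_dvd_left (orderOf_dvd_of_pow_eq_one hys)
        |>.mul_right ((Nat.coprime_primes hs'.1 h.prime).2 hsr |>.coprime_dvd_left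
          (orderOf_dvd_of_pow_eq_one hys))).eq_one_of_dvd (orderOf_dvd_of_pow_eq_one h5) ▸ one_dvd r
    · exact orderOf_dvd_iff_pow_eq_one.1 ((h.prime.coprime_iff_not_dvd.2 hrd).symm.dvd_of_dvd_mul_right
        (orderOf_dvd_of_pow_eq_one h1))
  haveI := hWp.isNilpotent
  have hAW : A ≤ centralizer (W : Set G) := centralizes_nilpotent (X := W) inferInstance hco hs'.1 hys
    (by rw [normalizer_eq_top_iff.2 hWn]; exact le_top) (by rw [normalizer_eq_top_iff.2 hWn]; trivial)
    hyA hfpf hexp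
  -- the centralizer of `W` is an `r`-group
  set K := centralizer (W : Set G)
  haveI hKn : K.Normal := inferInstance
  have hKs : Group.IsSolvable K := isSolvable_of_le' (Subgroup.centralizer_le (Set.singleton_subset_iff.2 hx₀W))
    (h.solvable_centralizer_r hx₀1 (hr_pow _ hx₀W))
  haveI := hKs
  have hKO : Cfsg.pPrimeCore r ↥K = ⊥ := by
    by_contra hne
    haveI := Core.normal_map_char_of_normal (Cfsg.pPrimeCore r ↥K)
    set X := (Cfsg.pPrimeCore r ↥K).map K.subtype
    have hX1 : X ≠ ⊥ := by rwa [Ne, map_eq_bot_iff_of_injective _ K.subtype_injective]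
    obtain ⟨U, hU, hUX⟩ := Core.exists_isMinNormal (inferInstance : X.Normal) hX1
    obtain ⟨j, hj⟩ := IsPGroup.iff_card.1
      (h.isPGroup_of_minNormal hns hU (isSolvable_of_le' (hUX.trans (map_subtype_le _)) hKs))
    have hc : (Nat.card U).Coprime r := Core.coprime_card_of_le hUX (by
      rw [Core.card_map_subtype]; exact Core.pPrimeCore_coprime r ↥K)
    rw [hj] at hc
    rcases j with _ | j
    · exact hU.2.1 (card_eq_one.1 (by simpa using hj))
    · rw [Nat.coprime_pow_left_iff j.succ_pos, Nat.coprime_self] at hc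
      exact h.prime.ne_one hc
  have hKW : (Cfsg.pCore r ↥K).map K.subtype ≤ W := by
    haveI := Core.normal_map_char_of_normal (Cfsg.pCore r ↥K)
    exact Core.le_pCore ((Core.pCore_isPGroup r ↥K).map _)
  obtain ⟨a, ha, ha1⟩ := hA1
  have hmem : (⟨a, hAW ha⟩ : ↥K) ∈ Cfsg.pCore r ↥K := by
    refine Core.centralizer_pCore_le_of_isPSolvable Core.isPSolvable_of_isSolvable hKO (mem_centralizer_iff.2 ?_)
    intro x hx
    exact Subtype.ext (mem_centralizer_iff.1 (hAW ha) (x : G) (hKW ⟨x, hx, rfl⟩))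
  have haW : a ∈ W := hKW ⟨_, hmem, rfl⟩
  have h1 := orderOf_dvd_of_pow_eq_one (hr_pow a haW)
  rw [h.orderOf_of_mem_sylow S (hAS ha) ha1] at h1
  exact h.ne_two ((Nat.prime_dvd_prime_iff_eq Nat.prime_two h.prime).1 h1).symm

end Hyp

/-- Without solvable normal subgroups, and with solvable involution centralizers, there is a simple normal
subgroup with trivial centralizer. -/
theorem exists_simple_normal (hns : ¬ Group.IsSolvable G)
    (hrad : ∀ N : Subgroup G, N.Normal → Group.IsSolvable N → N = ⊥)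
    (hcent : ∀ t : G, orderOf t = 2 → Group.IsSolvable (centralizer ({t} : Set G))) :
    ∃ N : Subgroup G, N.Normal ∧ IsSimpleGroup N ∧ ¬ IsMulCommutative N ∧ centralizer (N : Set G) = ⊥ := by
  classical
  haveI : Nontrivial G := not_subsingleton_iff_nontrivial.1 fun hs => hns inferInstance
  obtain ⟨N, hN⟩ := Core.exists_isMinNormal_univ (G := G)
  haveI := hN.1
  have hNns : ¬ Group.IsSolvable N := fun h => hN.2.1 (hrad N hN.1 h)
  have hkill : ∀ A B : Subgroup G, ¬ Group.IsSolvable A → A ≤ centralizer (B : Set G) → Group.IsSolvable B := by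
    intro A B hA hle
    obtain ⟨t, ht⟩ := exists_involution hA
    refine isSolvable_of_le' (fun b hb => mem_centralizer_singleton_iff.2 ?_)
      (hcent (t : G) (by rw [Subgroup.orderOf_coe, ht]))
    exact mem_centralizer_iff.1 (hle t.2) b hb
  haveI : Nontrivial ↥N := (nontrivial_iff_ne_bot _).2 hN.2.1
  have hrN : ∀ K : Subgroup ↥N, K.Normal → Group.IsSolvable K → K = ⊥ := by
    intro K hK hKs
    obtain ⟨R, hRn, hRs, hR⟩ := Kazarin.exists_radical ↥N
    haveI := hRn
    haveI : R.Characteristic := by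
      refine ⟨fun φ => le_antisymm ?_ ?_⟩
      · have hm : R.comap φ.toMonoidHom = R.map φ.symm.toMonoidHom := comap_equiv_eq_map_symm φ R
        rw [hm]
        haveI := hRs
        exact hR _ (hRn.map _ φ.symm.surjective)
          (Group.isSolvable_of_surjective (φ.symm.toMonoidHom.subgroupMap_surjective R))
      · intro x hx
        haveI := hRs
        exact hR (R.map φ.toMonoidHom) (hRn.map _ φ.surjective)
          (Group.isSolvable_of_surjective (φ.toMonoidHom.subgroupMap_surjective R)) ⟨x, hx, rfl⟩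
    haveI := hRs
    have hmap := hrad (R.map N.subtype) (Core.normal_map_char_of_normal R)
      (Group.isSolvable_of_surjective (N.subtype.subgroupMap_surjective R))
    rw [map_eq_bot_iff_of_injective _ N.subtype_injective] at hmap
    exact le_bot_iff.1 (hmap ▸ hR K hK hKs)
  obtain ⟨M, hM⟩ := Core.exists_isMinNormal_univ (G := ↥N)
  haveI := hM.1
  have hMns : ¬ Group.IsSolvable M := fun h => hM.2.1 (hrN M hM.1 h)
  -- all conjugates of `M` coincide
  have hinv : ∀ g : G, ∀ x : ↥N, x ∈ M → MulAut.conjNormal g x ∈ M := by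
    intro g x hx
    set M' := M.map (MulAut.conjNormal (H := N) g).toMonoidHom
    haveI hM' : M'.Normal := hM.1.map _ (MulAut.conjNormal (H := N) g).surjective
    rcases hM.2.2 (M ⊓ M') inferInstance inf_le_left with hbot | heq
    · exfalso
      have hle : M.map N.subtype ≤ centralizer ((M'.map N.subtype : Subgroup G) : Set G) := by
        rintro _ ⟨a, ha, rfl⟩
        refine mem_centralizer_iff.2 ?_
        rintro _ ⟨b, hb, rfl⟩
        exact congrArg Subtype.val (Subgroup.commute_of_normal_of_disjoint M' M hM' hM.1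
          (by rw [disjoint_iff, inf_comm]; exact hbot) b a hb ha).eq
      have h1 : ¬ Group.IsSolvable ↥(M.map N.subtype) := fun h => hMns (by
        haveI := h
        exact Group.isSolvable_of_isSolvable_injective
          (f := (M.equivMapOfInjective _ N.subtype_injective).toMonoidHom) (MulEquiv.injective _))
      haveI := hkill _ _ h1 hle
      refine hMns (Group.isSolvable_of_isSolvable_injective
        (f := ((M.equivMapOfInjective _ (MulAut.conjNormal (H := N) g).injective).trans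
          (M'.equivMapOfInjective _ N.subtype_injective)).toMonoidHom) (MulEquiv.injective _))
    · have h2 : M' = M := by
        refine (Subgroup.eq_of_le_of_card_ge (inf_eq_left.1 heq) ?_).symm
        exact le_of_eq (Nat.card_congr (M.equivMapOfInjective _ (MulAut.conjNormal (H := N) g).injective).toEquiv).symm
      exact h2 ▸ (⟨x, hx, rfl⟩ : MulAut.conjNormal g x ∈ M')
  have hMtop : M = ⊤ := by
    have hn : (M.map N.subtype).Normal := ⟨by
      rintro _ ⟨x, hx, rfl⟩ g
      exact ⟨MulAut.conjNormal g x, hinv g x hx, MulAut.conjNormal_apply g x⟩⟩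
    rcases hN.2.2 _ hn (map_subtype_le _) with h | h
    · rw [map_eq_bot_iff_of_injective _ N.subtype_injective] at h
      exact absurd h hM.2.1
    · refine (Subgroup.eq_top_iff' M).2 fun x => ?_
      obtain ⟨y, hy, hyx⟩ := (h.symm ▸ x.2 : (x : G) ∈ M.map N.subtype)
      exact N.subtype_injective hyx ▸ hy
  haveI hsimple : IsSimpleGroup ↥N := ⟨fun H hH => by
    rcases hM.2.2 H hH (hMtop ▸ le_top) with h | h
    · exact Or.inl h
    · exact Or.inr (h.trans hMtop)⟩
  refine ⟨N, hN.1, hsimple, fun hc => hNns ?_, ?_⟩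
  · letI : CommGroup ↥N := { (inferInstance : Group ↥N) with mul_comm := fun a b => hc.is_comm.comm a b }
    infer_instance
  · exact hrad _ inferInstance (hkill N _ hNns fun a ha => mem_centralizer_iff.2 fun b hb =>
      (mem_centralizer_iff.1 hb a ha).symm)

end Cfsg.Lib.CompOrd
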