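import Cfsg.Agent.Lib.CompositeOrder.AutoStructure

/-!
With a regular cyclic subgroup of index `r` in the automizer, the Sylow 2-subgroup is its own centralizer.
-/

set_option autoImplicit false
set_option linter.style.haveILetI false

namespace Cfsg.Lib.CompOrd

open Subgroup
open Cfsg.Lib

universe u

variable {G : Type u} [Group G] [Finite G] {r : ℕ}

/-- In a cyclic group the subgroup of a given prime order is unique. -/
theorem mem_zpowers_of_pow_eq_one {M : Type*} [Group M] [Finite M] {F : Subgroup M} (hF : IsCyclic F)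
    {s : ℕ} (hs : s.Prime) {a b : M} (ha : a ∈ F) (hao : orderOf a = s) (hb : b ∈ F) (hbs : b ^ s = 1) :
    b ∈ zpowers a := by
  haveI := hF
  letI : CommGroup ↥F := IsCyclic.commGroup
  have hle : zpowers (⟨a, ha⟩ : ↥F) = (powMonoidHom s : ↥F →* ↥F).ker := by
    refine Subgroup.eq_of_le_of_card_ge (fun x hx => ?_) ?_
    · rw [MonoidHom.mem_ker, powMonoidHom_apply]
      exact orderOf_dvd_iff_pow_eq_one.1 (((zpowers (⟨a, ha⟩ : ↥F)).orderOf_dvd_natCard hx).trans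
        (by rw [Nat.card_zpowers, Subgroup.orderOf_mk, hao]))
    · rw [IsCyclic.card_powMonoidHom_ker, Nat.card_zpowers, Subgroup.orderOf_mk, hao]
      exact Nat.le_of_dvd hs.pos (Nat.gcd_dvd_right _ _)
  have h1 : (⟨b, hb⟩ : ↥F) ∈ zpowers (⟨a, ha⟩ : ↥F) := by
    rw [hle, MonoidHom.mem_ker, powMonoidHom_apply]
    exact Subtype.ext hbs
  obtain ⟨i, hi⟩ := mem_zpowers_iff.1 h1
  exact mem_zpowers_iff.2 ⟨i, congrArg Subtype.val hi⟩

namespace Hyp

variable (h : Hyp G r) {S : Sylow 2 G}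
include h

theorem rPart_eq_bot_of_regular (hS : 8 ≤ Nat.card (S : Subgroup G))
    {F : Subgroup (MulAut ↥(S : Subgroup G))} (hF : RegularAuto r S F) : rPart r S = ⊥ := by
  classical
  haveI : Fact (Nat.Prime 2) := ⟨Nat.prime_two⟩
  haveI := Fact.mk h.prime
  set H := normalizer ((S : Subgroup G) : Set G)
  set W := rPart r S
  set φ := (S : Subgroup G).normalizerMonoidHom
  by_contra hW1
  obtain ⟨w, hwW, hw1⟩ := (bot_or_exists_ne_one W).resolve_left hW1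
  have hwr : w ^ r = 1 := ((h.mem_rPart hS).1 hwW).2
  obtain ⟨s, hs, hsd⟩ := Nat.exists_prime_and_dvd (n := Nat.card F)
    (by have := hF.card_eq; omega)
  haveI := Fact.mk hs
  have hsr : s ≠ r := fun e => hF.not_dvd (e ▸ hsd)
  have hs2 : s ≠ 2 := fun e => by
    have h1 := (e ▸ hsd : 2 ∣ Nat.card F).trans (card_dvd_of_le hF.le)
    exact (Nat.not_even_iff_odd.2 h.odd_auto) (even_iff_two_dvd.2 h1)
  have hs2r : s.Coprime (2 * r) :=
    Nat.Coprime.mul_right ((Nat.coprime_primes hs Nat.prime_two).2 hs2)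
      ((Nat.coprime_primes hs h.prime).2 hsr)
  -- a lift of order `s`
  obtain ⟨⟨f₀, hf₀F⟩, hf₀⟩ := exists_prime_orderOf_dvd_card' (G := ↥F) s hsd
  rw [Subgroup.orderOf_mk] at hf₀
  obtain ⟨g₀, hg₀⟩ := hF.le hf₀F
  obtain ⟨a, m, hm, hom⟩ := Nat.exists_eq_pow_mul_and_not_dvd (orderOf_pos (g₀ : G)).ne' s hs.ne_one
  set c := g₀ ^ m with hcdef
  set f₁ := φ c with hf₁def
  have hf₁ : f₁ = f₀ ^ m := by rw [hf₁def, hcdef, map_pow, hg₀]
  have hf₁F : f₁ ∈ F := hf₁ ▸ pow_mem hf₀F m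
  have hf₁o : orderOf f₁ = s := by
    rw [hf₁, Nat.Coprime.orderOf_pow, hf₀]
    rw [hf₀]; exact hs.coprime_iff_not_dvd.2 hm
  have hca : (c : G) ^ s ^ a = 1 := by
    rw [hcdef, SubgroupClass.coe_pow, ← pow_mul, mul_comm, ← hom, pow_orderOf_eq_one]
  have hcs : c ^ s = 1 := by
    have h1 : ((c ^ s : ↥H) : G) ∈ centralizer ((S : Subgroup G) : Set G) :=
      (normalizerHom_eq_one_iff _).1 (by rw [map_pow, ← hf₁o, pow_orderOf_eq_one])
    have h2 := h.centS_pow h1 hS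
    rw [SubgroupClass.coe_pow, ← pow_mul] at h2
    obtain ⟨i, -, hi⟩ := (Nat.dvd_prime_pow hs).1 (orderOf_dvd_of_pow_eq_one hca)
    have hco : (orderOf (c : G)).Coprime (2 * r) := by rw [hi]; exact hs2r.pow_left i
    exact Subtype.ext (orderOf_dvd_iff_pow_eq_one.1 (hco.dvd_of_dvd_mul_right (orderOf_dvd_of_pow_eq_one h2)))
  have hco' : orderOf c = s := orderOf_eq_prime hcs fun e => by
    rw [hf₁def, e, map_one, orderOf_one] at hf₁o
    exact hs.ne_one hf₁o.symm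
  -- an element of order `r` normalizing `⟨c⟩`
  obtain ⟨⟨y, hyK⟩, hy⟩ := exists_prime_orderOf_dvd_card' (G := ↥(auto S)) r
    (hF.card_auto ▸ dvd_mul_left r _)
  rw [Subgroup.orderOf_mk] at hy
  obtain ⟨g₁, hg₁⟩ := hyK
  set N := (zpowers f₁).comap φ
  have hcN : c ∈ N := mem_zpowers f₁
  have hc'N : g₁ * c * g₁⁻¹ ∈ N := by
    show φ (g₁ * c * g₁⁻¹) ∈ zpowers f₁
    rw [map_mul, map_mul, map_inv, hg₁, ← hf₁def]
    refine mem_zpowers_of_pow_eq_one hF.cyclic hs hf₁F hf₁o (hF.conj y ⟨g₁, hg₁⟩ _ hf₁F) ?_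
    rw [conj_pow, ← hf₁o, pow_orderOf_eq_one, mul_one, mul_inv_cancel]
  have hkerco : (Nat.card ↥φ.ker).Coprime s := by
    refine Nat.Coprime.symm (hs.coprime_iff_not_dvd.2 fun hd => ?_)
    obtain ⟨x, hx⟩ := exists_prime_orderOf_dvd_card' (G := ↥φ.ker) s hd
    have h1 : ((x : ↥H) : G) ∈ centralizer ((S : Subgroup G) : Set G) := (normalizerHom_eq_one_iff _).1 x.2
    have h2 := orderOf_dvd_of_pow_eq_one (h.centS_pow h1 hS)
    rw [orderOf_coe, orderOf_coe, hx] at h2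
    exact (hs.coprime_iff_not_dvd.1 hs2r) h2
  have hNcard : Nat.card ↥N ∣ Nat.card ↥φ.ker * s := by
    let ρ := φ.domRestrict N
    have h1 : ρ.range ≤ zpowers f₁ := by rintro _ ⟨x, rfl⟩; exact x.2
    rw [← ρ.ker.card_mul_index, Subgroup.index_ker]
    refine Nat.mul_dvd_mul ?_ ((card_dvd_of_le h1).trans (by rw [Nat.card_zpowers, hf₁o]))
    exact Subgroup.card_dvd_of_injective
      ({ toFun := fun x => ⟨((x : ↥N) : ↥H), x.2⟩, map_one' := rfl, map_mul' := fun _ _ => rfl } :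
        ↥ρ.ker →* ↥φ.ker)
      (fun x x' e => Subtype.ext (Subtype.ext (congrArg Subtype.val e :)))
  have hsyl : ∀ z : ↥N, orderOf z = s → ∀ P : Sylow s ↥N, z ∈ (P : Subgroup ↥N) → (P : Subgroup ↥N) = zpowers z := by
    intro z hz P hzP
    refine (Subgroup.eq_of_le_of_card_ge (zpowers_le.2 hzP) ?_).symm
    obtain ⟨k, hk⟩ := IsPGroup.iff_card.1 P.2
    have h1 := (card_subgroup_dvd_card (P : Subgroup ↥N)).trans hNcard
    rw [hk] at h1
    have h2 : s ^ k ∣ s := (Nat.Coprime.pow_left k hkerco.symm).dvd_of_dvd_mul_left h1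
    rw [Nat.card_zpowers, hz, hk]
    exact Nat.le_of_dvd hs.pos h2
  obtain ⟨P, hP⟩ := (IsPGroup.of_card (n := 1) (by
    rw [Nat.card_zpowers, Subgroup.orderOf_mk, hco', pow_one] : _ = s ^ 1) :
    IsPGroup s ↥(zpowers (⟨c, hcN⟩ : ↥N))).exists_le_sylow
  have hc'o : orderOf (⟨g₁ * c * g₁⁻¹, hc'N⟩ : ↥N) = s := by
    rw [Subgroup.orderOf_mk, Invol.orderOf_conj_eq, hco']
  obtain ⟨Q, hQ⟩ := (IsPGroup.of_card (n := 1) (by rw [Nat.card_zpowers, hc'o, pow_one] : _ = s ^ 1) :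
    IsPGroup s ↥(zpowers (⟨g₁ * c * g₁⁻¹, hc'N⟩ : ↥N))).exists_le_sylow
  obtain ⟨n, hn⟩ := MulAction.exists_smul_eq ↥N Q P
  have hPz := hsyl ⟨c, hcN⟩ (by rw [Subgroup.orderOf_mk, hco']) P (hP (mem_zpowers _))
  have hmem : n * ⟨g₁ * c * g₁⁻¹, hc'N⟩ * n⁻¹ ∈ zpowers (⟨c, hcN⟩ : ↥N) := by
    rw [← hPz, ← hn, Sylow.coe_subgroup_smul]
    exact ⟨_, hQ (mem_zpowers _), rfl⟩
  set g₂ := (n : ↥H) * g₁
  have hg₂c : g₂ * c * g₂⁻¹ ∈ zpowers c := by
    obtain ⟨i, hi⟩ := mem_zpowers_iff.1 hmem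
    refine mem_zpowers_iff.2 ⟨i, ?_⟩
    have hi' : c ^ i = (n : ↥H) * (g₁ * c * g₁⁻¹) * (n : ↥H)⁻¹ := congrArg Subtype.val hi
    rw [hi']
    show _ = (n : ↥H) * g₁ * c * ((n : ↥H) * g₁)⁻¹
    group
  obtain ⟨j, hj⟩ := mem_zpowers_iff.1 (show φ (n : ↥H) ∈ zpowers f₁ from n.2)
  set y₁ := φ g₂ with hy₁def
  have hy₁ : y₁ = f₁ ^ j * y := by rw [hy₁def, map_mul, hg₁, hj]
  have hy₁K : y₁ ∈ auto S := ⟨g₂, rfl⟩
  have hy₁F : y₁ ∉ F := fun hm => by
    rw [hy₁, F.mul_mem_cancel_left (zpow_mem hf₁F j)] at hm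
    have := F.orderOf_dvd_natCard hm
    rw [hy] at this
    exact hF.not_dvd this
  have hdr : r ∣ orderOf y₁ := by
    by_contra hnd
    exact hy₁F (hF.mem_of_coprime y₁ hy₁K (Nat.Coprime.symm (h.prime.coprime_iff_not_dvd.2 hnd)))
  have hy₁r : y₁ ^ r = 1 := h.auto_r hy₁K hdr
  have hg₂r : (g₂ : G) ^ (2 * r) = 1 :=
    h.centR _ (by rw [orderOf_coe]; exact hdr.trans (orderOf_map_dvd φ g₂))
  obtain ⟨k, hk⟩ := h.odd_r
  set yy := g₂ ^ (r + 1)
  have hyyr : (yy : G) ^ r = 1 := by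
    rw [SubgroupClass.coe_pow, ← pow_mul, show (r + 1) * r = 2 * r * (k + 1) by rw [hk]; ring, pow_mul,
      hg₂r, one_pow]
  have hφyy : φ yy = y₁ := by rw [map_pow, pow_succ, ← hy₁def, hy₁r, one_mul]
  have hyynorm : ∀ x ∈ zpowers c, yy * x * yy⁻¹ ∈ zpowers c := by
    have h1 : ∀ x ∈ zpowers c, g₂ * x * g₂⁻¹ ∈ zpowers c := fun x hx => by
      obtain ⟨i, rfl⟩ := mem_zpowers_iff.1 hx
      rw [← conj_zpow]
      exact zpow_mem hg₂c i
    have h2 : ∀ (l : ℕ), ∀ x ∈ zpowers c, g₂ ^ l * x * (g₂ ^ l)⁻¹ ∈ zpowers c := by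
      intro l
      induction l with
      | zero => intro x hx; simpa using hx
      | succ l ih =>
        intro x hx
        have := h1 _ (ih x hx)
        convert this using 1
        group
    exact h2 (r + 1)
  have hy₁1 : y₁ ≠ 1 := fun e => hy₁F (e ▸ one_mem F)
  have hyy1 : (yy : G) ≠ 1 := fun e => hy₁1 (by rw [← hφyy, show yy = 1 from Subtype.ext e, map_one])
  -- the norm trick
  set A := zpowers (c : G)
  have hcA : ∀ x ∈ A, ∃ x' ∈ zpowers c, (x' : G) = x := fun x hx => by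
    obtain ⟨i, rfl⟩ := mem_zpowers_iff.1 hx
    exact ⟨c ^ i, zpow_mem (mem_zpowers c) i, by simp⟩
  have hAW : A ≤ normalizer (W : Set G) := (zpowers_le).2 (h.normalizer_le_normalizer_rPart hS c.2)
  have hcop : (Nat.card A).Coprime (Nat.card W) := by
    obtain ⟨l, hl⟩ := IsPGroup.iff_card.1 (h.rPart_isPGroup hS)
    rw [Nat.card_zpowers, orderOf_coe, hco', hl]
    exact ((Nat.coprime_primes hs h.prime).2 hsr).pow_right l
  have hfpf : ∀ x ∈ A, Commute x (yy : G) → x = 1 := by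
    intro x hx hc
    obtain ⟨x', hx', rfl⟩ := hcA x hx
    have h1 := h.commute_r hyy1 hyyr hc.symm
    exact orderOf_eq_one_iff.1 (Nat.eq_one_of_dvd_coprimes hs2r
      ((A.orderOf_dvd_natCard hx).trans (by rw [Nat.card_zpowers, orderOf_coe, hco']))
      (orderOf_dvd_of_pow_eq_one h1))
  have hexp : ∀ v ∈ W, (v * (yy : G)) ^ r = 1 := by
    intro v hv
    have hvH : v ∈ H := centralizer_le_normalizer _ (rPart_le hv)
    have hφv : φ (⟨v, hvH⟩ * yy) = y₁ := by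
      rw [map_mul, (normalizerHom_eq_one_iff (⟨v, hvH⟩ : ↥H)).2 (rPart_le hv), one_mul, hφyy]
    have hd : r ∣ orderOf (v * (yy : G)) := by
      have h1 : r ∣ orderOf (⟨v, hvH⟩ * yy : ↥H) := by
        refine dvd_trans ?_ (orderOf_map_dvd φ _)
        rw [hφv]; exact hdr
      rwa [← orderOf_coe] at h1
    have h2r := h.centR _ hd
    have hmemW : ∀ i : ℕ, (v * (yy : G)) ^ i * ((yy : G) ^ i)⁻¹ ∈ W := by
      intro i
      induction i with
      | zero => simp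
      | succ i ih =>
        have h1 := (mem_normalizer_iff.1 (h.normalizer_le_normalizer_rPart hS (pow_mem yy.2 i)) v).1 hv
        have := mul_mem ih h1
        convert this using 1
        rw [pow_succ, pow_succ]
        group
    have hw' := hmemW r
    rw [hyyr, inv_one, mul_one] at hw'
    have hr1 := ((h.mem_rPart hS).1 hw').2
    have h2 : ((v * (yy : G)) ^ r) ^ 2 = 1 := by rw [← pow_mul, mul_comm, h2r]
    exact orderOf_eq_one_iff.1 (Nat.eq_one_of_dvd_coprimes (Nat.coprime_two_left.2 h.odd_r)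
      (orderOf_dvd_of_pow_eq_one h2) (orderOf_dvd_of_pow_eq_one hr1))
  have key := centralizes_nilpotent (h.rPart_isPGroup hS).isNilpotent hcop h.prime hyyr hAW
    (h.normalizer_le_normalizer_rPart hS yy.2)
    (fun x hx => by
      obtain ⟨x', hx', rfl⟩ := hcA x hx
      obtain ⟨i, hi⟩ := mem_zpowers_iff.1 (hyynorm x' hx')
      exact mem_zpowers_iff.2 ⟨i, by rw [← SubgroupClass.coe_zpow, hi]; rfl⟩)
    hfpf hexp
  have hwc : Commute w (c : G) := mem_centralizer_iff.1 (key (mem_zpowers (c : G))) w hwW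
  have h1 := orderOf_dvd_of_pow_eq_one (h.commute_r hw1 hwr hwc)
  rw [orderOf_coe, hco'] at h1
  exact (hs.coprime_iff_not_dvd.1 hs2r) h1

end Hyp

end Cfsg.Lib.CompOrd
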