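import Cfsg.Agent.Lib.CompositeOrder.Norm
import Cfsg.Agent.Lib.Core.Cores
import Cfsg.Agent.Lib.Core.PSolvable
import Cfsg.Agent.Lib.Coprime.Action
import Cfsg.Agent.Lib.FTCons.CoreClosure
import Cfsg.Agent.Lib.Invol.Embedded
import Cfsg.Agent.S0144
import Cfsg.Agent.S1279
import Cfsg.Agent.S1285

/-!
Simple groups in which the even element orders and the multiples of an odd prime `r` divide `2 * r`:
the Sylow normalizer of an elementary abelian Sylow 2-subgroup of order at least 8 is strongly embedded.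
-/

set_option autoImplicit false
set_option linter.style.haveILetI false

namespace Cfsg.Lib.CompOrd

open Subgroup
open Cfsg.Lib

universe u

/-- Elements of even order, and elements of order divisible by `r`, have order dividing `2 * r`. -/
structure Hyp (G : Type u) [Group G] (r : ℕ) : Prop where
  prime : r.Prime
  ne_two : r ≠ 2
  centT : ∀ t y : G, orderOf t = 2 → Commute t y → y ^ (2 * r) = 1
  centR : ∀ y : G, r ∣ orderOf y → y ^ (2 * r) = 1

variable {G : Type u} [Group G] [Finite G] {r : ℕ}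

theorem Hyp.of_injective (h : Hyp G r) {L : Type u} [Group L] (f : L →* G)
    (hf : Function.Injective f) : Hyp L r :=
  ⟨h.prime, h.ne_two,
    fun t y ht hc => hf (by
      rw [map_pow, map_one]; exact h.centT _ _ (by rw [orderOf_injective f hf, ht]) (hc.map f)),
    fun y hy => hf (by rw [map_pow, map_one]; exact h.centR _ (by rwa [orderOf_injective f hf]))⟩

theorem sq_invol {t : G} (ht : orderOf t = 2) : t ^ 2 = 1 := ht ▸ pow_orderOf_eq_one t

theorem mul_self_invol {t : G} (ht : orderOf t = 2) : t * t = 1 := by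
  rw [← pow_two]; exact sq_invol ht

namespace Hyp

variable (h : Hyp G r)
include h

theorem odd_r : Odd r := h.prime.odd_of_ne_two h.ne_two

omit [Finite G] in
theorem pow_r_of_odd {y : G} (hy : y ^ (2 * r) = 1) (hodd : Odd (orderOf y)) : y ^ r = 1 := by
  have h2 : (orderOf y).Coprime 2 := Nat.coprime_two_right.2 hodd
  exact orderOf_dvd_iff_pow_eq_one.1 (h2.dvd_of_dvd_mul_left (orderOf_dvd_of_pow_eq_one hy))

theorem pow_two_r_of_even {y : G} (hy : 2 ∣ orderOf y) : y ^ (2 * r) = 1 :=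
  h.centT (y ^ (orderOf y / 2)) y (orderOf_pow_orderOf_div (orderOf_pos y).ne' hy)
    ((Commute.refl y).pow_left _)

theorem sq_eq_one {x : G} {k : ℕ} (hx : x ^ 2 ^ k = 1) : x ^ 2 = 1 := by
  obtain ⟨i, -, hi⟩ := (Nat.dvd_prime_pow Nat.prime_two).1 (orderOf_dvd_of_pow_eq_one hx)
  rcases i with _ | i
  · rw [orderOf_eq_one_iff.1 (hi.trans (pow_zero 2))]; exact one_pow 2
  · have h1 := orderOf_dvd_of_pow_eq_one (h.pow_two_r_of_even (hi ▸ dvd_pow_self 2 i.succ_ne_zero))
    rw [hi] at h1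
    have h2 : 2 ^ (i + 1) ∣ 2 := by
      refine (Nat.Coprime.pow_left _ ?_).dvd_of_dvd_mul_right h1
      exact Nat.coprime_two_left.2 h.odd_r
    exact orderOf_dvd_iff_pow_eq_one.1 (hi ▸ h2)

theorem sylow_sq (S : Sylow 2 G) {x : G} (hx : x ∈ (S : Subgroup G)) : x ^ 2 = 1 := by
  obtain ⟨k, hk⟩ := S.2 ⟨x, hx⟩
  exact h.sq_eq_one (congrArg Subtype.val hk)

theorem sylow_comm (S : Sylow 2 G) : IsMulCommutative (S : Subgroup G) :=
  ⟨⟨fun a b => Subtype.ext (by
    have ha := h.sylow_sq S a.2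
    have hb := h.sylow_sq S b.2
    have hab := h.sylow_sq S (mul_mem a.2 b.2)
    rw [pow_two] at ha hb hab
    calc (a : G) * b = (a : G)⁻¹ * (b : G)⁻¹ := by
          rw [inv_eq_of_mul_eq_one_left ha, inv_eq_of_mul_eq_one_left hb]
      _ = ((b : G) * a)⁻¹ := by group
      _ = b * a := by
          refine inv_eq_of_mul_eq_one_left ?_
          have hba := h.sylow_sq S (mul_mem b.2 a.2)
          rwa [pow_two] at hba)⟩⟩

theorem commute_of_mem (S : Sylow 2 G) {a b : G} (ha : a ∈ (S : Subgroup G))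
    (hb : b ∈ (S : Subgroup G)) : Commute a b :=
  congrArg Subtype.val ((h.sylow_comm S).is_comm.comm ⟨a, ha⟩ ⟨b, hb⟩)

theorem sylow_le_centralizer (S : Sylow 2 G) {t : G} (ht : t ∈ (S : Subgroup G)) :
    (S : Subgroup G) ≤ centralizer ({t} : Set G) :=
  fun _ hs => mem_centralizer_singleton_iff.2 (h.commute_of_mem S hs ht)

omit h in
theorem orderOf_of_mem_sylow (h : Hyp G r) (S : Sylow 2 G) {x : G} (hx : x ∈ (S : Subgroup G))
    (hx1 : x ≠ 1) : orderOf x = 2 := orderOf_eq_prime (h.sylow_sq S hx) hx1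

/-- A group all of whose elements have order dividing `2 * r` is solvable. -/
theorem isSolvable_of_exp {L : Subgroup G} (hL : ∀ y ∈ L, y ^ (2 * r) = 1) : Group.IsSolvable L := by
  have hq : ∀ q : ℕ, q.Prime → q ∣ Nat.card L → q = 2 ∨ q = r := by
    intro q hq hd
    haveI := Fact.mk hq
    obtain ⟨y, hy⟩ := exists_prime_orderOf_dvd_card' (G := L) q hd
    rw [← Subgroup.orderOf_coe] at hy
    have h1 := orderOf_dvd_of_pow_eq_one (hL y y.2)
    rw [hy] at h1
    exact (hq.dvd_mul.1 h1).imp (Nat.prime_dvd_prime_iff_eq hq Nat.prime_two).1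
      (Nat.prime_dvd_prime_iff_eq hq h.prime).1
  set n := Nat.card L with hn
  have hn0 : n ≠ 0 := Nat.card_pos.ne'
  have h0 : n / 2 ^ n.factorization 2 ≠ 0 := (Nat.ordCompl_pos 2 hn0).ne'
  have hb := Nat.eq_prime_pow_of_unique_prime_dvd (p := r) h0 fun {q} hqp hqd => by
    refine (hq q hqp (hqd.trans (Nat.ordCompl_dvd n 2))).resolve_left ?_
    rintro rfl
    exact Nat.not_dvd_ordCompl Nat.prime_two hn0 hqd
  refine Cfsg.Agent.S0144.result 2 r (n.factorization 2) (n / 2 ^ n.factorization 2).primeFactorsList.length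
    Nat.prime_two h.prime ?_
  rw [← hb]
  exact (Nat.ordProj_mul_ordCompl_eq_self n 2).symm

theorem solvable_centralizer {t : G} (ht : orderOf t = 2) :
    Group.IsSolvable (centralizer ({t} : Set G)) :=
  h.isSolvable_of_exp fun y hy => h.centT t y ht (mem_centralizer_singleton_iff.1 hy).symm

/-- Elements commuting with an element of order `r` have order dividing `2 * r`. -/
theorem commute_r {x y : G} (hx1 : x ≠ 1) (hx : x ^ r = 1) (hc : Commute x y) : y ^ (2 * r) = 1 := by
  haveI := Fact.mk h.prime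
  by_cases hd : r ∣ orderOf y
  · exact h.centR y hd
  have hxo := orderOf_eq_prime hx hx1
  have hco : (orderOf x).Coprime (orderOf y) := by
    rw [hxo]; exact h.prime.coprime_iff_not_dvd.2 hd
  have h1 := hc.orderOf_mul_eq_mul_orderOf_of_coprime hco
  have h2 := h.centR (x * y) (h1 ▸ dvd_mul_of_dvd_left (dvd_of_eq hxo.symm) _)
  rw [hc.mul_pow, mul_comm 2 r, pow_mul, hx, one_pow, one_mul] at h2
  rwa [mul_comm]

theorem solvable_centralizer_r {x : G} (hx1 : x ≠ 1) (hx : x ^ r = 1) :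
    Group.IsSolvable (centralizer ({x} : Set G)) :=
  h.isSolvable_of_exp fun y hy => h.commute_r hx1 hx (mem_centralizer_singleton_iff.1 hy).symm

/-- A solvable subgroup containing a Sylow 2-subgroup `S` is its odd core times the normalizer of `S`. -/
theorem le_core_sup_normalizer (S : Sylow 2 G) {L : Subgroup G} (hSL : (S : Subgroup G) ≤ L)
    (hL : Group.IsSolvable L) :
    L ≤ (Cfsg.pPrimeCore 2 ↥L).map L.subtype ⊔ normalizer ((S : Subgroup G) : Set G) := by
  haveI : Fact (Nat.Prime 2) := ⟨Nat.prime_two⟩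
  haveI := hL
  set O := Cfsg.pPrimeCore 2 ↥L
  set π := QuotientGroup.mk' O
  haveI : Group.IsSolvable (↥L ⧸ O) := Group.isSolvable_of_surjective (QuotientGroup.mk'_surjective O)
  set P : Sylow 2 (↥L ⧸ O) := (S.subtype hSL).mapSurjective (QuotientGroup.mk'_surjective O)
  have hPc : ∀ a ∈ (P : Subgroup (↥L ⧸ O)), ∀ b ∈ (P : Subgroup (↥L ⧸ O)), a * b = b * a := by
    rintro _ ⟨a, ha, rfl⟩ _ ⟨b, hb, rfl⟩
    rw [← map_mul, ← map_mul]
    exact congrArg _ (Subtype.ext (h.commute_of_mem S ha hb))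
  have hP : (P : Subgroup (↥L ⧸ O)) = Cfsg.pCore 2 (↥L ⧸ O) := by
    refine le_antisymm ?_ (Core.pCore_le_sylow P)
    refine le_trans (fun x hx => ?_) (Core.centralizer_pCore_le_of_isPSolvable
      Core.isPSolvable_of_isSolvable Core.pPrimeCore_quotient_eq_bot)
    exact mem_centralizer_iff.2 fun y hy => hPc y (Core.pCore_le_sylow P hy) x hx
  have hPn : (P : Subgroup (↥L ⧸ O)).Normal := hP ▸ inferInstance
  set N : Subgroup ↥L := (P : Subgroup (↥L ⧸ O)).comap π
  haveI : N.Normal := hPn.comap π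
  have hSN : ((S.subtype hSL : Sylow 2 L) : Subgroup L) ≤ N := fun x hx => ⟨x, hx, rfl⟩
  intro g hg
  have h1 : (⟨g, hg⟩ : L) ∈ normalizer ((S.subtype hSL : Sylow 2 L) : Set L) ⊔ N :=
    (Sylow.normalizer_sup_eq_top' (S.subtype hSL) hSN).symm ▸ mem_top _
  obtain ⟨a, ha, b, hb, e⟩ := mem_sup_of_normal_right.1 h1
  have e' : g = (a : G) * (b : G) := (congrArg Subtype.val e).symm
  obtain ⟨c, hc, hcb⟩ := hb
  have hd : c⁻¹ * b ∈ O := QuotientGroup.eq.1 hcb
  rw [e']
  have haN : (a : G) ∈ normalizer ((S : Subgroup G) : Set G) := by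
    refine mem_normalizer_iff.2 fun x => ⟨fun hx => ?_, fun hx => ?_⟩
    · exact (mem_normalizer_iff.1 ha ⟨x, hSL hx⟩).1 hx
    · have hxL : x ∈ L := by
        have := L.mul_mem (L.mul_mem (L.inv_mem a.2) (hSL hx)) a.2
        simpa [mul_assoc] using this
      exact (mem_normalizer_iff.1 ha ⟨x, hxL⟩).2 hx
  refine mul_mem (mem_sup_right haN) ?_
  rw [show (b : G) = (c : G) * ((c⁻¹ * b : L) : G) by simp]
  exact mul_mem (mem_sup_right (le_normalizer hc)) (mem_sup_left ⟨_, hd, rfl⟩)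

theorem theta_isPGroup {t : G} (ht : orderOf t = 2) :
    IsPGroup r (Cfsg.centralizerPPrimeCore 2 t) := by
  intro x
  have hcard : (Nat.card ↥(Cfsg.centralizerPPrimeCore 2 t)).Coprime 2 :=
    (Core.pPrimeCore_coprime 2 ↥(centralizer ({t} : Set G))).coprime_dvd_left (card_map_dvd _ _)
  have hodd : Odd (orderOf (x : G)) := Nat.coprime_two_right.1
    (hcard.coprime_dvd_left (Subgroup.orderOf_dvd_natCard _ x.2))
  obtain ⟨y, -, hy⟩ := x.2
  refine ⟨1, Subtype.ext ?_⟩
  rw [pow_one]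
  simpa using h.pow_r_of_odd (h.centT t x ht (hy ▸ (mem_centralizer_singleton_iff.1 y.2).symm)) hodd

theorem mem_sylow_of_mem_normalizer (S : Sylow 2 G) {t : G}
    (ht : t ∈ normalizer ((S : Subgroup G) : Set G)) (h2 : t ^ 2 = 1) : t ∈ (S : Subgroup G) := by
  haveI : Fact (Nat.Prime 2) := ⟨Nat.prime_two⟩
  have hp : IsPGroup 2 (zpowers t) := fun x => by
    obtain ⟨i, hi⟩ := mem_zpowers_iff.1 x.2
    exact ⟨1, Subtype.ext (by
      show (x : G) ^ 2 ^ 1 = 1
      rw [pow_one, ← hi, ← zpow_natCast, ← zpow_mul, mul_comm, zpow_mul, zpow_natCast, h2, one_zpow])⟩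
  rw [← S.3 (IsPGroup.to_sup_of_normal_right' hp S.2 ((zpowers_le).2 ht)) le_sup_right]
  exact mem_sup_left (mem_zpowers t)

end Hyp

end Cfsg.Lib.CompOrd
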