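import Cfsg.Agent.Lib.CompositeOrder.Simple
import Cfsg.Agent.Lib.CIT.Basic

/-!
Groups in which every prime divides at most two element orders: basic facts.
-/

set_option autoImplicit false
set_option linter.style.haveILetI false

namespace Cfsg.Lib.CompOrd

open Subgroup
open Cfsg.Lib

universe u v

/-- Every prime divides at most two element orders. -/
def TwoOrders (G : Type u) [Group G] : Prop :=
  ∀ p : ℕ, p.Prime → ∀ a b c : G, orderOf a ≠ orderOf b → orderOf b ≠ orderOf c → orderOf a ≠ orderOf c →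
    ¬ (p ∣ orderOf a ∧ p ∣ orderOf b ∧ p ∣ orderOf c)

variable {G : Type u} [Group G]

namespace TwoOrders

theorem false_of_three (h : TwoOrders G) {p : ℕ} (hp : p.Prime) {i j k : ℕ} {a b c : G} (ha : orderOf a = i)
    (hb : orderOf b = j) (hc : orderOf c = k) (hij : i ≠ j) (hjk : j ≠ k) (hik : i ≠ k) (hi : p ∣ i)
    (hj : p ∣ j) (hk : p ∣ k) : False :=
  h p hp a b c (by rw [ha, hb]; exact hij) (by rw [hb, hc]; exact hjk) (by rw [ha, hc]; exact hik)
    ⟨ha.symm ▸ hi, hb.symm ▸ hj, hc.symm ▸ hk⟩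

theorem of_injective (h : TwoOrders G) {L : Type v} [Group L] (f : L →* G) (hf : Function.Injective f) :
    TwoOrders L := fun p hp a b c hab hbc hac => by
  rw [← orderOf_injective f hf a, ← orderOf_injective f hf b] at hab
  rw [← orderOf_injective f hf b, ← orderOf_injective f hf c] at hbc
  rw [← orderOf_injective f hf a, ← orderOf_injective f hf c] at hac
  rw [← orderOf_injective f hf a, ← orderOf_injective f hf b, ← orderOf_injective f hf c]
  exact h p hp _ _ _ hab hbc hac

theorem subgroup (h : TwoOrders G) (H : Subgroup G) : TwoOrders ↥H :=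
  h.of_injective H.subtype H.subtype_injective

variable [Finite G]

/-- Orders in a quotient occur in the group. -/
theorem exists_order_of_quotient (N : Subgroup G) [N.Normal] (x : G ⧸ N) : ∃ g : G, orderOf g = orderOf x := by
  obtain ⟨g, rfl⟩ := QuotientGroup.mk_surjective x
  exact ⟨_, orderOf_pow_orderOf_div (orderOf_pos g).ne' (orderOf_map_dvd (QuotientGroup.mk' N) g)⟩

theorem quotient (h : TwoOrders G) (N : Subgroup G) [N.Normal] : TwoOrders (G ⧸ N) :=
  fun p hp a b c hab hbc hac ⟨hpa, hpb, hpc⟩ => by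
    obtain ⟨a', ha⟩ := exists_order_of_quotient N a
    obtain ⟨b', hb⟩ := exists_order_of_quotient N b
    obtain ⟨c', hc⟩ := exists_order_of_quotient N c
    exact h.false_of_three hp ha hb hc hab hbc hac hpa hpb hpc

/-- If an even order other than 2 occurs, it is 4 or twice an odd prime, and the only one. -/
theorem even_cases (h : TwoOrders G) {x : G} (hx : 2 ∣ orderOf x) (hx2 : orderOf x ≠ 2) :
    (orderOf x = 4 ∨ ∃ r : ℕ, r.Prime ∧ r ≠ 2 ∧ orderOf x = 2 * r) ∧
      ∀ y : G, 2 ∣ orderOf y → orderOf y = 2 ∨ orderOf y = orderOf x := by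
  have ht : orderOf (x ^ (orderOf x / 2)) = 2 := orderOf_pow_orderOf_div (orderOf_pos x).ne' hx
  have huniq : ∀ y : G, 2 ∣ orderOf y → orderOf y = 2 ∨ orderOf y = orderOf x := fun y hy => by
    by_contra hc
    push Not at hc
    exact h.false_of_three Nat.prime_two ht rfl rfl (Ne.symm hc.1) hc.2 (Ne.symm hx2) dvd_rfl hy hx
  refine ⟨?_, huniq⟩
  obtain ⟨d, hd⟩ := hx
  have hd1 : d ≠ 1 := fun e => hx2 (by omega)
  obtain ⟨r, hr, hrd⟩ := Nat.exists_prime_and_dvd hd1
  have ho : orderOf (x ^ (orderOf x / (2 * r))) = 2 * r :=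
    orderOf_pow_orderOf_div (orderOf_pos x).ne' (hd ▸ Nat.mul_dvd_mul_left 2 hrd)
  rcases huniq _ (ho.symm ▸ dvd_mul_right 2 r) with h1 | h1 <;> rw [ho] at h1
  · have := hr.two_le; omega
  · by_cases hr2 : r = 2
    · left; omega
    · exact Or.inr ⟨r, hr, hr2, h1.symm⟩

theorem omega_le_two (h : TwoOrders G) {m : ℕ} (hm : ∀ d, d ∣ m → ∃ x : G, orderOf x = d) :
    m.primeFactorsList.length ≤ 2 := by
  by_contra hc
  obtain ⟨a, b, c, l, hl⟩ : ∃ a b c l, m.primeFactorsList = a :: b :: c :: l := by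
    match m.primeFactorsList, hc with
    | [], hc => simp at hc
    | [_], hc => simp at hc
    | [_, _], hc => simp at hc
    | a :: b :: c :: l, _ => exact ⟨a, b, c, l, rfl⟩
  have hp : ∀ q ∈ m.primeFactorsList, q.Prime := fun q hq => Nat.prime_of_mem_primeFactorsList hq
  rw [hl] at hp
  have ha := hp a (by simp)
  have hb := hp b (by simp)
  have hc' := hp c (by simp)
  have hm0 : m ≠ 0 := fun e => by simp [e] at hl
  have hd : m = a * (b * (c * l.prod)) := by
    conv_lhs => rw [← Nat.prod_primeFactorsList hm0, hl]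
    simp
  obtain ⟨x, hx⟩ := hm a ⟨_, hd⟩
  obtain ⟨y, hy⟩ := hm (a * b) ⟨c * l.prod, by rw [hd]; ring⟩
  obtain ⟨z, hz⟩ := hm (a * b * c) ⟨l.prod, by rw [hd]; ring⟩
  have h1 : a < a * b := lt_mul_of_one_lt_right ha.pos hb.one_lt
  have h2 : a * b < a * b * c := lt_mul_of_one_lt_right (Nat.mul_pos ha.pos hb.pos) hc'.one_lt
  exact h.false_of_three ha hx hy hz h1.ne h2.ne (h1.trans h2).ne dvd_rfl (dvd_mul_right a b)
    (dvd_mul_of_dvd_left (dvd_mul_right a b) c)

/-- With an element of order 4 the centralizers of involutions are 2-groups. -/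
theorem isCIT_of_four (h : TwoOrders G) {x : G} (hx : orderOf x = 4) : CIT.IsCIT G := by
  rintro t ht ⟨y, hy⟩
  refine ⟨2, Subtype.ext ?_⟩
  rw [SubgroupClass.coe_pow]
  show y ^ 2 ^ 2 = 1
  have hall := (h.even_cases (x := x) (by rw [hx]; norm_num) (by rw [hx]; norm_num)).2
  have hc : Commute t y := (mem_centralizer_singleton_iff.1 hy).symm
  rw [← orderOf_dvd_iff_pow_eq_one]
  by_cases h2 : 2 ∣ orderOf y
  · rcases hall y h2 with e | e
    · rw [e]; norm_num
    · rw [e, hx]; norm_num
  have h1 := hc.orderOf_mul_eq_mul_orderOf_of_coprime (by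
    rw [ht]; exact Nat.prime_two.coprime_iff_not_dvd.2 h2)
  rw [ht] at h1
  rcases hall (t * y) (h1 ▸ dvd_mul_right 2 _) with e | e <;> rw [h1] at e
  · rw [show orderOf y = 1 by omega]; exact one_dvd _
  · rw [hx] at e; omega

/-- With an element of order twice an odd prime `r`. -/
theorem hyp_of_two_r (h : TwoOrders G) {x : G} {r : ℕ} (hr : r.Prime) (hr2 : r ≠ 2) (hx : orderOf x = 2 * r) :
    Hyp G r := by
  have hall := (h.even_cases (x := x) (by rw [hx]; exact dvd_mul_right 2 r)
    (by rw [hx]; have := hr.two_le; omega)).2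
  refine ⟨hr, hr2, fun t y ht hc => ?_, fun y hy => ?_⟩
  · rw [← orderOf_dvd_iff_pow_eq_one]
    by_cases h2 : 2 ∣ orderOf y
    · rcases hall y h2 with e | e
      · rw [e]; exact dvd_mul_right 2 r
      · rw [e, hx]
    have h1 := hc.orderOf_mul_eq_mul_orderOf_of_coprime (by
      rw [ht]; exact Nat.prime_two.coprime_iff_not_dvd.2 h2)
    rw [ht] at h1
    rcases hall (t * y) (h1 ▸ dvd_mul_right 2 _) with e | e <;> rw [h1] at e
    · rw [show orderOf y = 1 by omega]; exact one_dvd _
    · rw [hx] at e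
      rw [show orderOf y = r by omega]; exact dvd_mul_left r 2
  · rw [← orderOf_dvd_iff_pow_eq_one]
    have hxr : orderOf (x ^ 2) = r := by
      rw [orderOf_pow_of_dvd two_ne_zero (hx ▸ dvd_mul_right 2 r), hx, Nat.mul_div_cancel_left _ two_pos]
    by_contra hc
    exact h.false_of_three hr hxr hx rfl (by have := hr.two_le; omega)
      (fun e => hc (by rw [← e])) (fun e => hc (by rw [← e]; exact dvd_mul_left r 2))
      dvd_rfl (dvd_mul_left r 2) hy

end TwoOrders

end Cfsg.Lib.CompOrd
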